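import Cfsg.Agent.UGT.Triple
set_option linter.all false

-- part: UGT/LemG
section
/-!
# Lemma G

`L` a 2-component of `C(v)`, `x` an involution, `m ∈ L ∩ O(C(x))`, `w` an involution commuting with `v` and
`m`, normalizing `L` and acting on `L / O(L)` as `x`. Then `m` centralizes `J / O(J)` for every
2-component `J` of `C(⟨v, w⟩)`.
-/

set_option autoImplicit false

open Cfsg Subgroup
open Cfsg.Agent.SignalizersComponents Cfsg.Agent.Lib
open Cfsg.Agent.SignalizersComponents.IntrinsicBasic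
open Cfsg.Agent.SignalizersComponents.IntrinsicIntr
open Cfsg.Agent.SignalizersComponents.PLayerAut
open Cfsg.Agent.Intrinsic.Basic Cfsg.Agent.Intrinsic.Cen Cfsg.Agent.Intrinsic.Diag
open Cfsg.Agent.McLLyComp.Act
open Cfsg.Agent.UGT.Triple
open scoped commutatorElement

namespace Cfsg.Agent.UGT.LemG

variable {G : Type*} [Group G] [Finite G]

/-- `m ∈ H` with `[m, J] ≤ O(H)` fixes the 2-component `J` of `H`. -/
theorem fixes_of_comm_core {H J : Subgroup G} (hJ : IsComp H J) {m : G} (hm : m ∈ H)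
    (h : ∀ j ∈ J, ⁅m, j⁆ ∈ core H) : Fixes m J := by
  refine (hJ.fixes_iff hm).mpr ((mem_cenMod hJ.le).mpr ⟨hm, fun k hk => ?_⟩)
  have h1 := conj_core (H.inv_mem (hJ.le hk)) (h k hk)
  have h2 : k⁻¹ * ⁅m, k⁆ * k⁻¹⁻¹ = k⁻¹ * (m * k * m⁻¹) := by
    rw [commutatorElement_def]; group
  rw [h2] at h1
  exact h1

theorem odd_sup {D E : Subgroup G} (hD : Odd (Nat.card D)) (hE : Odd (Nat.card E))
    (hn : D ≤ normalizer (E : Set G)) : Odd (Nat.card ↥(D ⊔ E)) := by
  have : Fact (Nat.Prime 2) := ⟨Nat.prime_two⟩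
  by_contra hodd
  rw [Nat.not_odd_iff_even, even_iff_two_dvd] at hodd
  obtain ⟨⟨t, ht⟩, ht2⟩ := exists_prime_orderOf_dvd_card' 2 hodd
  rw [Subgroup.orderOf_mk] at ht2
  have ht' : t ∈ ((D ⊔ E : Subgroup G) : Set G) := ht
  rw [Subgroup.coe_mul_of_left_le_normalizer_right _ _ hn] at ht'
  obtain ⟨d, hd, e, he, hde⟩ := ht'
  have hdd : d ∈ D := hd
  have hee : e ∈ E := he
  have hde' : d * e = t := hde
  have h1 : (d * e) * (d * e) = 1 := by rw [hde', ← pow_two, ← ht2, pow_orderOf_eq_one]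
  have hd' : d⁻¹ * e * d ∈ E := by
    have := conj_mem (inv_mem (hn hdd)) hee
    rwa [inv_inv] at this
  have h3 : d * d ∈ E := by
    have h4 : d * d * ((d⁻¹ * e * d) * e) = 1 := by rw [← h1]; group
    rw [eq_inv_of_mul_eq_one_left h4]
    exact inv_mem (mul_mem hd' hee)
  have h5 : d ∈ E := by
    obtain ⟨m, hm⟩ : Odd (orderOf d) := Odd.of_dvd_nat hD (Subgroup.orderOf_dvd_natCard D hdd)
    have h6 : (d * d) ^ (m + 1) = d := by
      rw [← pow_two, ← pow_mul, show 2 * (m + 1) = (2 * m + 1) + 1 by ring, pow_succ, ← hm,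
        pow_orderOf_eq_one, one_mul]
    rw [← h6]
    exact pow_mem h3 _
  have h7 : Odd (orderOf t) :=
    Odd.of_dvd_nat hE (Subgroup.orderOf_dvd_natCard E (hde' ▸ mul_mem h5 hee))
  rw [ht2] at h7
  exact absurd h7 (by decide)

/-- `O(C_L(x))` and `C_L(w)` if `w` acts on `L / O(L)` as `x`. -/
theorem mem_core_of_act {L : Subgroup G} {x w m : G} (hxx : x * x = 1)
    (hxL : x ∈ normalizer (L : Set G)) (hact : Fixes (w * x⁻¹) L)
    (hm : m ∈ core (L ⊓ centralizer ({x} : Set G))) (hmw : m * w = w * m) :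
    m ∈ core (L ⊓ centralizer ({w} : Set G)) := by
  have hmL : m ∈ L := (core_le _ hm).1
  obtain ⟨A, hA⟩ : ∃ A, A = core (L ⊓ centralizer ({x} : Set G)) := ⟨_, rfl⟩
  have hAL : A ≤ L := by rw [hA]; exact (core_le _).trans inf_le_left
  have hAN : A ≤ normalizer (core L : Set G) := hAL.trans (le_normalizer_core L)
  obtain ⟨B, hB⟩ : ∃ B, B = (A ⊔ core L) ⊓ centralizer ({w} : Set G) := ⟨_, rfl⟩
  have hmB : m ∈ B := by
    rw [hB]
    exact ⟨mem_sup_left (hA ▸ hm), mem_c hmw⟩
  have hALle : A ⊔ core L ≤ L := sup_le hAL (core_le L)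
  have hBle : B ≤ L ⊓ centralizer ({w} : Set G) := by
    rw [hB]; exact inf_le_inf_right _ hALle
  refine le_core hBle ?_ ?_ hmB
  · intro g hg
    have hgL : g ∈ L := hg.1
    have hgw : g * w = w * g := comm_c hg.2
    -- `[x, g] ∈ O(L)`
    have h1 : ⁅w * x⁻¹, x * g * x⁻¹⁆ ∈ core L := hact.2 _ (conj_mem hxL hgL)
    have h2 : ⁅w * x⁻¹, x * g * x⁻¹⁆ = g * (x * g⁻¹ * x⁻¹) := by
      have e : w * g * w⁻¹ = g := by rw [← hgw]; group
      rw [commutatorElement_def]
      calc w * x⁻¹ * (x * g * x⁻¹) * (w * x⁻¹)⁻¹ * (x * g * x⁻¹)⁻¹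
          = (w * g * w⁻¹) * (x * g⁻¹ * x⁻¹) := by group
        _ = _ := by rw [e]
    rw [h2] at h1
    -- `g⁻¹ * (x * g * x⁻¹) ∈ O(L)`
    have h3 : g⁻¹ * (x * g * x⁻¹) ∈ core L := by
      have h4 := conj_core (L.inv_mem hgL) (inv_mem h1)
      convert h4 using 1
      group
    have hxc : x ∈ normalizer (core L : Set G) := normalizer_le_normalizer_core L hxL
    obtain ⟨o, ho, hco⟩ := Intrinsic.Lifting.exists_commute (n := 1) (odd_card_core L)
      (by rw [pow_one, pow_two, hxx]) hxc h3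
    have hgo : g * o ∈ L ⊓ centralizer ({x} : Set G) :=
      ⟨mul_mem hgL (core_le L ho), mem_c hco.symm⟩
    have hgoN : g * o ∈ normalizer ((A ⊔ core L : Subgroup G) : Set G) := by
      have e1 : g * o ∈ normalizer (A : Set G) := by
        rw [hA]; exact le_normalizer_core _ hgo
      have e2 : g * o ∈ normalizer (core L : Set G) := le_normalizer_core L hgo.1
      rw [mem_normalizer_iff_cj] at e1 e2 ⊢
      have : cj (g * o) (A ⊔ core L) = cj (g * o) A ⊔ cj (g * o) (core L) := by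
        rw [cj_def, cj_def, cj_def, Subgroup.map_sup]
      rw [this, e1, e2]
    have hoN : o ∈ normalizer ((A ⊔ core L : Subgroup G) : Set G) :=
      le_normalizer (mem_sup_right ho)
    have hgN : g ∈ normalizer ((A ⊔ core L : Subgroup G) : Set G) := by
      have := mul_mem hgoN (inv_mem hoN)
      rwa [mul_inv_cancel_right] at this
    have hgC : g ∈ normalizer ((centralizer ({w} : Set G) : Subgroup G) : Set G) :=
      le_normalizer hg.2
    rw [mem_normalizer_iff_cj] at hgN hgC ⊢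
    rw [hB, cj_inf, hgN, hgC]
  · -- odd
    have h1 : Odd (Nat.card ↥(A ⊔ core L)) :=
      odd_sup (by rw [hA]; exact odd_card_core _) (odd_card_core L) hAN
    refine Odd.of_dvd_nat h1 (card_dvd_of_le ?_)
    rw [hB]; exact inf_le_left

/-- **Lemma G** -/
theorem fixes_comp {x v w m : G} {L J : Subgroup G} (hx : x * x = 1) (hw : w * w = 1)
    (hL : IsComp (centralizer ({v} : Set G)) L)
    (hxL : x ∈ normalizer (L : Set G)) (hmL : m ∈ L) (hmx : m ∈ core (centralizer ({x} : Set G)))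
    (hwv : w * v = v * w) (hmw : m * w = w * m) (hact : Fixes (w * x⁻¹) L)
    (hJ : IsComp (centralizer ({v} : Set G) ⊓ centralizer ({w} : Set G)) J) : Fixes m J := by
  obtain ⟨H, hH⟩ : ∃ H, H = centralizer ({v} : Set G) ⊓ centralizer ({w} : Set G) := ⟨_, rfl⟩
  have hmv : m ∈ centralizer ({v} : Set G) := hL.le hmL
  have hwL : w ∈ normalizer (L : Set G) := by
    have := mul_mem hact.1 hxL
    rwa [inv_mul_cancel_right] at this
  have hmH : m ∈ centralizer ({v} : Set G) ⊓ centralizer ({w} : Set G) := ⟨hmv, mem_c hmw⟩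
  have hinf : ∀ d, d ∈ core (centralizer ({v} : Set G)) → d ∈ centralizer ({w} : Set G) →
      d ∈ core (centralizer ({v} : Set G) ⊓ centralizer ({w} : Set G)) := by
    intro d hd hdw
    rw [inf_comm]
    exact inf_le_core hd hdw
  obtain ⟨N, hN, -, hor⟩ := McLLyComp.PumpT.exists_pump (mem_c hwv) hw hJ
  -- `m ∈ O(C_L(w))`
  have hm1 : m ∈ core (L ⊓ centralizer ({x} : Set G)) := by
    obtain ⟨A, hA⟩ : ∃ A, A = core (centralizer ({x} : Set G)) ⊓ L := ⟨_, rfl⟩
    have hAle : A ≤ L ⊓ centralizer ({x} : Set G) := by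
      rw [hA, inf_comm]; exact inf_le_inf_left _ (core_le _)
    refine le_core hAle ?_ ?_ (hA ▸ ⟨hmx, hmL⟩)
    · intro g hg
      have h1 : g ∈ normalizer (core (centralizer ({x} : Set G)) : Set G) :=
        le_normalizer_core _ hg.2
      have h2 : g ∈ normalizer (L : Set G) := le_normalizer hg.1
      rw [mem_normalizer_iff_cj] at h1 h2 ⊢
      rw [hA, cj_inf, h1, h2]
    · refine Odd.of_dvd_nat (odd_card_core (centralizer ({x} : Set G))) (card_dvd_of_le ?_)
      rw [hA]; exact inf_le_left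
  have hm2 := mem_core_of_act hx hxL hact hm1 hmw
  rcases hor with ⟨hwN, hJN⟩ | ⟨hne, hJd⟩
  · by_cases hNL : N = L
    · subst hNL
      have h1 : IsComp (N ⊓ centralizer ({w} : Set G)) J :=
        hJ.restrict (inf_le_inf_right _ hN.le) (le_inf hJN fun j hj => (hJ.le hj).2)
      exact h1.fixes_of_core hm2
    · have hfN : Fixes m N := hN.fixes_of_mem hL hNL hmL
      refine fixes_of_comm_core hJ hmH fun j hj => ?_
      refine hinf _ (hN.core_le_core (hfN.2 j (hJN hj))) ?_
      rw [commutatorElement_def]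
      have hj' := (hJ.le hj).2
      have hm' := hmH.2
      exact mul_mem (mul_mem (mul_mem hm' hj') (inv_mem hm')) (inv_mem hj')
  · have hNL : L ≠ N := by
      rintro rfl
      exact hne (mem_normalizer_iff_cj.mp hwL)
    have hNL' : L ≠ cj w N := by
      intro h
      apply hNL
      have h1 : cj w L = L := mem_normalizer_iff_cj.mp hwL
      have h2 : cj w L = N := by
        rw [h, ← cj_mul, hw, cj_one]
      rw [← h1, h2]
    refine fixes_of_comm_core hJ hmH fun j hj => ?_
    have h1 : ⁅j, m⁆ ∈ core (centralizer ({v} : Set G)) :=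
      comm_diag_of_ne hN (mem_c hwv) hw hne hL hNL hNL' (hJd ▸ hj) hmL
    have h2 : ⁅m, j⁆ ∈ core (centralizer ({v} : Set G)) := by
      rw [← commutatorElement_inv]; exact inv_mem h1
    refine hinf _ h2 ?_
    rw [commutatorElement_def]
    have hj' := (hJ.le hj).2
    have hm' := hmH.2
    exact mul_mem (mul_mem (mul_mem hm' hj') (inv_mem hm')) (inv_mem hj')

end Cfsg.Agent.UGT.LemG
end

-- part: UGT/PumpGen
section
/-!
# The general pump-up of a triple, (P')

`a`, `c`, `x` pairwise commuting involutions, `M` a 2-component of `C(a) ∩ C(c)` (for instance a 2-component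
of `C_L(c)`, `L` a 2-component of `C(a)`), `d ∈ O(C(x)) ∩ C(a) ∩ C(c)` not centralizing `M / O(M)`.
Then there is a triple `(x, c, N)`, `N` the pump-up of `M` in `C(c)`.
-/

set_option autoImplicit false

open Cfsg Subgroup
open Cfsg.Agent.SignalizersComponents Cfsg.Agent.Lib
open Cfsg.Agent.SignalizersComponents.IntrinsicBasic
open Cfsg.Agent.SignalizersComponents.IntrinsicIntr
open Cfsg.Agent.SignalizersComponents.PLayerAut
open Cfsg.Agent.Intrinsic.Basic Cfsg.Agent.Intrinsic.Cen Cfsg.Agent.Intrinsic.Diag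
open Cfsg.Agent.McLLyComp.Act
open Cfsg.Agent.UGT.Triple Cfsg.Agent.UGT.LemG
open scoped commutatorElement

namespace Cfsg.Agent.UGT.PumpGen

variable {G : Type*} [Group G] [Finite G]

/-- A 2-component of `C_L(c)` is a 2-component of `C_H(c)`, `L` a 2-component of `H` (no action hypothesis). -/
theorem isComp_of_inf {H L M : Subgroup G} {c : G} (hL : IsComp H L)
    (hM : IsComp (L ⊓ centralizer ({c} : Set G)) M) :
    IsComp (H ⊓ centralizer ({c} : Set G)) M := by
  refine hM.extend (inf_le_inf_right _ hL.le) ?_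
  have h1 : ((L.subgroupOf H).comap (inclusion (inf_le_left : H ⊓ centralizer ({c} : Set G) ≤ H))).IsSubnormal :=
    hL.2.1.comap _
  convert h1 using 1
  ext ⟨y, hy⟩
  simp only [mem_subgroupOf, mem_inf, mem_comap]
  exact ⟨fun h => h.1, fun h => ⟨h, hy.2⟩⟩

/-- `O(C(x)) ∩ H` lies in the core of `H ∩ C(x)` -/
theorem inf_le_core' {H : Subgroup G} {x d : G} (hd : d ∈ core (centralizer ({x} : Set G)))
    (hdH : d ∈ H) : d ∈ core (H ⊓ centralizer ({x} : Set G)) := by
  obtain ⟨N, hN⟩ : ∃ N, N = core (centralizer ({x} : Set G)) ⊓ H := ⟨_, rfl⟩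
  have hNle : N ≤ H ⊓ centralizer ({x} : Set G) := by
    rw [hN]
    exact le_inf inf_le_right (inf_le_left.trans (core_le _))
  have h1 : N ≤ core (H ⊓ centralizer ({x} : Set G)) := by
    refine le_core hNle ?_ ?_
    · intro g hg
      have h1 : g ∈ normalizer (core (centralizer ({x} : Set G)) : Set G) := le_normalizer_core _ hg.2
      have h2 : g ∈ normalizer (H : Set G) := le_normalizer hg.1
      rw [mem_normalizer_iff_cj] at h1 h2 ⊢
      rw [hN, cj_inf, h1, h2]
    · refine Odd.of_dvd_nat (odd_card_core (centralizer ({x} : Set G))) ?_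
      rw [hN]
      exact card_dvd_of_le inf_le_left
  exact h1 (hN ▸ ⟨hd, hdH⟩)

/-- `d ∈ C(c) ∩ C(a)` fixing a 2-component `N` of `C(c)` fixes the 2-component `M` of `C(c) ∩ C(a)`
pumping up to `N`. -/
theorem fixes_of_pump {a c d : G} {M N : Subgroup G} (ha2 : a * a = 1) (hca : c * a = a * c)
    (hM : IsComp (centralizer ({c} : Set G) ⊓ centralizer ({a} : Set G)) M)
    (hN : IsComp (centralizer ({c} : Set G)) N) (hdc : d ∈ centralizer ({c} : Set G))
    (hda : d ∈ centralizer ({a} : Set G)) (hf : Fixes d N)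
    (hor : M ≤ N ∨ (cj a N ≠ N ∧ M = diag (centralizer ({c} : Set G)) N a)) : Fixes d M := by
  refine fixes_of_comm_core hM ⟨hdc, hda⟩ fun m hm => ?_
  have hmem : ⁅d, m⁆ ∈ centralizer ({a} : Set G) := by
    rw [commutatorElement_def]
    have hm' := (hM.le hm).2
    exact mul_mem (mul_mem (mul_mem hda hm') (inv_mem hda)) (inv_mem hm')
  have hinf : ∀ y, y ∈ core (centralizer ({c} : Set G)) → y ∈ centralizer ({a} : Set G) →
      y ∈ core (centralizer ({c} : Set G) ⊓ centralizer ({a} : Set G)) := by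
    intro y hy hya
    rw [inf_comm]
    exact inf_le_core hy hya
  apply hinf _ _ hmem
  rcases hor with hMN | ⟨hne, hMN⟩
  · exact hN.core_le_core (hf.2 m (hMN hm))
  · obtain ⟨h5, h6, -⟩ := exists_diag hN (mem_c hca.symm) ha2 hne
    rw [hMN] at hm
    obtain ⟨k, hk, hmk⟩ := h6 m hm
    have hmX : m ∈ centralizer ({c} : Set G) := (h5.le hm).1
    have hN' : IsComp (centralizer ({c} : Set G)) (IntrinsicBasic.cj a N) :=
      isComp_cj_of_mem hN (mem_c hca.symm)
    have hk' : a * k * a⁻¹ ∈ IntrinsicBasic.cj a N := conj_mem_cj hk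
    have hfN' : Fixes d (IntrinsicBasic.cj a N) := by
      have h7 := hf.cj a
      have h8 : a * d * a⁻¹ = d := by rw [← comm_c hda]; group
      rwa [h8] at h7
    have e1 : ⁅d, k⁆ ∈ core (centralizer ({c} : Set G)) := hN.core_le_core (hf.2 k hk)
    have e2 : ⁅d, a * k * a⁻¹⁆ ∈ core (centralizer ({c} : Set G)) :=
      hN'.core_le_core (hfN'.2 _ hk')
    rw [commutator_mem_core_iff hdc (hN.le hk)] at e1
    rw [commutator_mem_core_iff hdc (hN'.le hk')] at e2
    rw [commutator_mem_core_iff hdc hmX, mk_of_diag hN (mem_c hca.symm) hmX hk hmk, ← mul_assoc,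
      e1, mul_assoc, e2]
    exact (mul_assoc _ _ _).symm

/-- **(P')** -/
theorem pump {x a c d : G} {M : Subgroup G} (hx : orderOf x = 2) (hc : orderOf c = 2)
    (ha2 : a * a = 1) (hca : c * a = a * c) (hcx : c * x = x * c)
    (hM : IsComp (centralizer ({c} : Set G) ⊓ centralizer ({a} : Set G)) M)
    (hd : d ∈ core (centralizer ({x} : Set G))) (hda : d ∈ centralizer ({a} : Set G))
    (hdc : d ∈ centralizer ({c} : Set G)) (hf : ¬ Fixes d M) :
    ∃ N, IsTriple x c N ∧ ¬ Fixes d N ∧ ((a ∈ normalizer (N : Set G) ∧ M ≤ N) ∨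
      (cj a N ≠ N ∧ M = diag (centralizer ({c} : Set G)) N a)) := by
  obtain ⟨N, hN, -, hor⟩ := McLLyComp.PumpT.exists_pump (mem_c hca.symm) ha2 hM
  have hfN : ¬ Fixes d N := by
    intro h
    apply hf
    apply fixes_of_pump ha2 hca hM hN hdc hda h
    rcases hor with ⟨-, h⟩ | h
    · exact Or.inl h
    · exact Or.inr h
  exact ⟨N, ⟨hx, hc, hcx, hN, d, hd, hdc, hfN⟩, hfN, hor⟩

end Cfsg.Agent.UGT.PumpGen
end
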