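import Mathlib
import Cfsg.Prelude.Def_ClassificationK
import Cfsg.Agent.FixBN.ReduceMain_m3
import Cfsg.Agent.UGT.PumpGen
import Cfsg.Agent.SignalizersComponents.ExtendedBalance
import Cfsg.Agent.GH.Defs
import Cfsg.Agent.GH.AltOut
import Cfsg.Agent.GH.Rank
import Cfsg.Agent.SignalizersComponents.PConstrained
import Cfsg.Agent.S0501
import Cfsg.Agent.S0502
import Cfsg.Agent.FastGrp
import Cfsg.Agent.Prune
set_option linter.all false

section
prune_inst 0x7f00000000000000000000000000000000000000000000000000000000000000000000000000000000000000000000000000000000000000000000000000000000000000000000000000000000000000003fffffffffffffffffffffffffffbeffbdffffffff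

-- part: FixBN/BRelative
section
set_option linter.all false
open scoped Cfsg.Agent.FastGrp

/-!
# The relative form of `S1311 ⇒ B-theorem`

`UgtBelow n`: S1311 for all finite groups `G` with `|F*(G)| < n`.  With the inputs `Known` on the
groups of the list, every finite group all of whose nonabelian simple sections have order `< n` has
the strong B-property, and a simple group of order `< n` is on the list or locally balanced.
-/

set_option autoImplicit false

namespace Cfsg.Agent.FixBN.BRelative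

open Subgroup Cfsg Cfsg.Agent.Lib Cfsg.Agent.SignalizersComponents
open Cfsg.Agent.FixBN.Reduce Cfsg.Agent.FixBN.BTheorem
open scoped commutatorElement

universe u v

/-! ### the list of S1311 -/

/-- The list of S1311. -/
def InU (K : Type u) [Group K] : Prop :=
  (∃ p : ℕ, p.Prime ∧ p ≠ 2 ∧ IsLieTypeChar p K) ∨
  (∃ n : ℕ, Odd n ∧ 7 ≤ n ∧ Nonempty (K ≃* ↥(alternatingGroup (Fin n)))) ∨
  (∃ (F : Type) (_ : Field F) (_ : Fintype F), Fintype.card F = 4 ∧
    Nonempty (K ≃* Matrix.ProjectiveSpecialLinearGroup (Fin 3) F)) ∨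
  Spor.IsoHe K

theorem InU.congr {K : Type u} {K' : Type v} [Group K] [Group K'] (e : K ≃* K') (h : InU K) :
    InU K' := by
  rcases h with ⟨p, hp, hp2, h⟩ | ⟨n, h1, h2, h⟩ | ⟨F, i1, i2, h1, h⟩ | h
  · exact Or.inl ⟨p, hp, hp2, isLieTypeChar_congr e h⟩
  · exact Or.inr (Or.inl ⟨n, h1, h2, nonempty_congr e h⟩)
  · exact Or.inr (Or.inr (Or.inl ⟨F, i1, i2, h1, nonempty_congr e h⟩))
  · exact Or.inr (Or.inr (Or.inr (nonempty_congr e h)))

/-- S1311 for all groups with `|F*(G)| < n`. -/
def UgtBelow (n : ℕ) : Prop :=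
  ∀ (G : Type u) [Group G] [Finite G], Nat.card ↥(generalizedFittingSubgroup G) < n → UGT G

theorem UgtBelow.mono {m n : ℕ} (h : UgtBelow.{u} n) (hmn : m ≤ n) : UgtBelow.{u} m :=
  fun G _ _ hG => h G (hG.trans_le hmn)

theorem UgtBelow.sb {n : ℕ} (hU : UgtBelow.{u} n) (hk : Known.{u}) {K : Type u} [Group K]
    [Finite K] [IsSimpleGroup K] (hna : ¬ IsMulCommutative K) (hK : Nat.card K < n) : SB K := by
  refine sb_of_ugt hna (hU _ ?_) hk
  rwa [Nat.card_congr (fstarEquiv hna).toEquiv.symm]

/-! ### the B-property of groups with small simple sections -/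

section Small

variable {X : Type u} [Group X]

theorem hasB_of_lt [Finite X] {n : ℕ} (hU : UgtBelow.{u} n) (hk : Known.{u})
    (hX : IsCompositionKGroupWith (fun Y _ => Nat.card Y < n) X) : HasBProperty X :=
  hasB_of_composition fun H hH N _ hs hna => by
    have := hs
    exact hU.sb hk hna (hX H hH N hs hna)

theorem not_comm_congr {K : Type*} {K' : Type*} [Group K] [Group K'] (e : K ≃* K')
    (h : ¬ IsMulCommutative K) : ¬ IsMulCommutative K' := by
  intro h'
  apply h
  refine ⟨⟨fun a b => ?_⟩⟩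
  apply e.injective
  rw [map_mul, map_mul]
  exact h'.is_comm.comm _ _

theorem simple_congr {K : Type*} {K' : Type*} [Group K] [Group K'] (e : K ≃* K')
    (h : IsSimpleGroup K) : IsSimpleGroup K' := by
  have : Nontrivial K' := e.symm.toEquiv.nontrivial
  exact IsSimpleGroup.isSimpleGroup_of_surjective e.toMonoidHom e.surjective

theorem isComposition_of_isKGroupWith {P : ∀ (Y : Type u) [Group Y], Prop}
    (hX : IsKGroupWith P X) : IsCompositionKGroupWith P X :=
  fun H _ N _ => hX H N

theorem isKGroupWith_of_card_lt [Finite X] {n : ℕ} (h : Nat.card X < n) :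
    IsKGroupWith (fun Y _ => Nat.card Y < n) X := by
  intro H N _ _ _
  exact ((Subgroup.card_quotient_dvd_card N).trans (Subgroup.card_subgroup_dvd_card H)
    |> Nat.le_of_dvd Nat.card_pos).trans_lt h

theorem comm_of_solvable_simple {Q : Type*} [Group Q] (hs : IsSimpleGroup Q)
    (h : Group.IsSolvable Q) : IsMulCommutative Q := by
  have := h
  have h1 : commutator Q ≠ ⊤ := by
    intro h2
    have h3 : ∀ n, derivedSeries Q n = ⊤ := by
      intro n
      induction n with
      | zero => rfl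
      | succ n ih => rw [derivedSeries_succ, ih, ← commutator_def, h2]
    obtain ⟨n, hn⟩ := h.solvable
    rw [h3] at hn
    have := hs.toNontrivial
    exact top_ne_bot hn
  have h2 := (hs.eq_bot_or_eq_top_of_normal (commutator Q) inferInstance).resolve_right h1
  refine ⟨⟨fun a b => ?_⟩⟩
  have h3 : ⁅a, b⁆ ∈ commutator Q := Subgroup.commutator_mem_commutator (mem_top a) (mem_top b)
  rw [h2, mem_bot, commutatorElement_eq_one_iff_mul_comm] at h3
  exact h3

/-- Simple sections of an extension of a group of order `< n` by a solvable group. -/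
theorem isKGroupWith_of_solvable_quotient [Finite X] {n : ℕ} (J : Subgroup X) [J.Normal]
    (hsol : Group.IsSolvable (X ⧸ J)) (h : Nat.card J < n) :
    IsKGroupWith (fun Y _ => Nat.card Y < n) X := by
  intro H N _ hs hna
  let K : Subgroup (H ⧸ N) := (J.subgroupOf H).map (QuotientGroup.mk' N)
  have hKn : K.Normal := (inferInstance : (J.subgroupOf H).Normal).map _
    (QuotientGroup.mk'_surjective N)
  rcases hs.eq_bot_or_eq_top_of_normal K hKn with hK | hK
  · exfalso
    apply hna
    refine comm_of_solvable_simple hs ?_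
    have h1 : J.subgroupOf H ≤ N := by
      rw [Subgroup.map_eq_bot_iff, QuotientGroup.ker_mk'] at hK
      exact hK
    -- `H / (J ∩ H)` is solvable
    let φ : ↥H →* X ⧸ J := (QuotientGroup.mk' J).comp H.subtype
    have hφ : φ.ker = J.subgroupOf H := by
      ext x
      rw [MonoidHom.mem_ker, mem_subgroupOf]
      exact QuotientGroup.eq_one_iff (x : X)
    have h2 : Group.IsSolvable (↥H ⧸ φ.ker) :=
      Group.isSolvable_of_isSolvable_injective (QuotientGroup.kerLift_injective φ)
    have h3 : φ.ker ≤ N := hφ.le.trans h1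
    exact Group.isSolvable_of_surjective
      (f := QuotientGroup.map φ.ker N (MonoidHom.id _) h3) (by
        intro y
        obtain ⟨x, rfl⟩ := QuotientGroup.mk'_surjective N y
        exact ⟨QuotientGroup.mk x, rfl⟩)
  · have h1 : Nat.card (H ⧸ N) = Nat.card K := by
      rw [hK, Nat.card_congr (Subgroup.topEquiv (G := H ⧸ N)).toEquiv]
    change Nat.card (H ⧸ N) < n
    rw [h1]
    refine lt_of_le_of_lt ?_ h
    refine (Nat.le_of_dvd Nat.card_pos (Subgroup.card_map_dvd _ _)).trans ?_
    rw [← Subgroup.card_map_of_injective (K := J.subgroupOf H) H.subtype_injective]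
    exact Subgroup.card_le_of_le (by rw [subgroupOf_map_subtype]; exact inf_le_left)

end Small


/-! ### locally balanced groups -/

section Balanced

/-- `F*(H) = Inn J` for `Inn J ≤ H ≤ Aut J`, `J` nonabelian simple. -/
theorem genFitting_between {J : Type u} [Group J] [Finite J] [IsSimpleGroup J]
    (hna : ¬ IsMulCommutative J) {H : Subgroup (MulAut J)}
    (hH : (MulAut.conj : J →* MulAut J).range ≤ H) :
    generalizedFittingSubgroup ↥H = (MulAut.conj : J →* MulAut J).range.subgroupOf H ∧
      Nonempty (J ≃* ↥(generalizedFittingSubgroup ↥H)) := by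
  have hc := center_eq_bot hna
  have e : J ≃* ↥((MulAut.conj : J →* MulAut J).range.subgroupOf H) :=
    (MonoidHom.ofInjective (conj_injective hc)).trans (Subgroup.subgroupOfEquivOfLe hH).symm
  have h1 : generalizedFittingSubgroup ↥H = (MulAut.conj : J →* MulAut J).range.subgroupOf H := by
    have hn := range_conj_normal (K := J)
    refine genFitting_eq inferInstance (simple_congr e inferInstance) (not_comm_congr e hna) ?_
    rw [eq_bot_iff]
    intro x hx
    rw [mem_centralizer_iff] at hx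
    have h2 : (x : MulAut J) ∈ Subgroup.centralizer
        ((MulAut.conj : J →* MulAut J).range : Set (MulAut J)) := by
      rw [mem_centralizer_iff]
      intro y hy
      exact congrArg Subtype.val (hx ⟨y, hH hy⟩ hy)
    rw [centralizer_range_conj hc, mem_bot] at h2
    rw [mem_bot]
    exact Subtype.ext h2
  exact ⟨h1, ⟨e.trans (MulEquiv.subgroupCongr h1.symm)⟩⟩

/-- **(B2)** A nonabelian simple group of order `< n` is on the list or locally balanced. -/
theorem inU_or_locallyBalanced {n : ℕ} (hU : UgtBelow.{u} n) {J : Type u} [Group J] [Finite J]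
    [IsSimpleGroup J] (hna : ¬ IsMulCommutative J) (hJ : Nat.card J < n) :
    InU J ∨ IsLocallyBalanced J := by
  by_contra hcon
  rw [not_or] at hcon
  apply hcon.2
  intro H hH x hx
  by_contra hne
  obtain ⟨-, ⟨e⟩⟩ := genFitting_between hna hH
  have hcard : Nat.card ↥(generalizedFittingSubgroup ↥H) < n := by
    rwa [Nat.card_congr e.toEquiv.symm]
  have h1 : InU ↥(generalizedFittingSubgroup ↥H) :=
    hU ↥H hcard (simple_congr e inferInstance) (not_comm_congr e hna) x hx hne
  exact hcon.1 (h1.congr e.symm)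

theorem map_centralizer_singleton {G : Type u} {H : Type v} [Group G] [Group H] (e : G ≃* H)
    (a : G) : (Subgroup.centralizer ({a} : Set G)).map e.toMonoidHom =
      Subgroup.centralizer ({e a} : Set H) := by
  ext y
  constructor
  · rintro ⟨x, hx, rfl⟩
    rw [SetLike.mem_coe, mem_centralizer_singleton_iff] at hx
    rw [mem_centralizer_singleton_iff]
    change e x * e a = e a * e x
    rw [← map_mul, hx, map_mul]
  · intro hy
    rw [mem_centralizer_singleton_iff] at hy
    refine ⟨e.symm y, ?_, by simp⟩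
    rw [SetLike.mem_coe, mem_centralizer_singleton_iff]
    apply e.injective
    simpa using hy

theorem map_core {G : Type u} {H : Type v} [Group G] [Group H] (e : G ≃* H) (p : ℕ) (a : G) :
    (centralizerPPrimeCore p a).map e.toMonoidHom = centralizerPPrimeCore p (e a) := by
  have h := PLayerAut.relCore_map_equiv p e (Subgroup.centralizer ({a} : Set G))
  rw [map_centralizer_singleton] at h
  exact h.symm

/-- **(B3)** If `F*(H) = J` is nonabelian simple and locally balanced, then `O(C_H(t)) = 1` for all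
involutions `t` of `H`. -/
theorem core_eq_bot {H : Type u} [Group H] [Finite H]
    (hs : IsSimpleGroup ↥(generalizedFittingSubgroup H))
    (hna : ¬ IsMulCommutative ↥(generalizedFittingSubgroup H))
    (hb : IsLocallyBalanced ↥(generalizedFittingSubgroup H)) {t : H} (ht : orderOf t = 2) :
    centralizerPPrimeCore 2 t = ⊥ := by
  have hn : (generalizedFittingSubgroup H).Normal := GenFitting.genFitting_normal
  set F := generalizedFittingSubgroup H with hF
  have hcF : center ↥F = ⊥ := center_eq_bot hna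
  let φ : H →* MulAut ↥F := MulAut.conjNormal
  have hφ : Function.Injective φ := by
    rw [injective_iff_map_eq_one]
    intro x hx
    have h1 : x ∈ Subgroup.centralizer (F : Set H) := by
      rw [mem_centralizer_iff]
      intro y hy
      have h2 := congrArg (fun f : MulAut ↥F => ((f ⟨y, hy⟩ : ↥F) : H)) hx
      simp only [φ, MulAut.conjNormal_apply, MulAut.one_apply] at h2
      rw [mul_inv_eq_iff_eq_mul] at h2
      exact h2.symm
    have h2 : x ∈ F := GenFitting.centralizer_genFitting_le h1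
    have h3 : (⟨x, h2⟩ : ↥F) ∈ center ↥F := by
      rw [mem_center_iff]
      intro y
      exact Subtype.ext (mem_centralizer_iff.mp h1 y y.2)
    rw [hcF, mem_bot] at h3
    exact congrArg Subtype.val h3
  have hle : (MulAut.conj : ↥F →* MulAut ↥F).range ≤ φ.range := by
    rintro _ ⟨y, rfl⟩
    refine ⟨(y : H), ?_⟩
    ext z
    simp [φ, MulAut.conjNormal_apply, MulAut.conj_apply]
  let e : H ≃* ↥φ.range := MonoidHom.ofInjective hφ
  have h1 := hb φ.range hle (e t) (by rwa [MulEquiv.orderOf_eq])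
  rw [← map_core] at h1
  exact (Subgroup.map_eq_bot_iff_of_injective _
    (f := e.toMonoidHom) (show Function.Injective e.toMonoidHom from e.injective)).mp h1

end Balanced

/-! ### the B-theorem -/

/-- **S1726** from S1311 and the inputs on the groups of the list. -/
theorem bTheorem {X : Type u} [Group X] [Finite X] (hU : ∀ (G : Type u) [Group G] [Finite G], UGT G)
    (hk : Known.{u}) : HasBProperty X :=
  hasB hasB_of_components hU hk

end Cfsg.Agent.FixBN.BRelative
end

-- part: UGT/Iface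
section
set_option linter.all false

/-!
# The Unbalanced Group Theorem: top level interface

* `MinCex G`: `G` is a counterexample to S1311, `|F*(G)|` minimal and then `|G|` minimal.
* `ugt_of_no_minCex`: if there is none (in the universe `u`), S1311 holds.
-/

set_option autoImplicit false

open Cfsg Subgroup
open Cfsg.Agent.FixBN.BTheorem Cfsg.Agent.FixBN.BRelative
open Cfsg.Agent.UGT.Triple
open Cfsg.Agent.Intrinsic.Basic (Fixes IsComp core)

namespace Cfsg.Agent.UGT.Iface

universe u

/-- The generalized Fitting subgroup. -/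
local notation "Fs" => generalizedFittingSubgroup

/-- A minimal counterexample to the Unbalanced Group Theorem. -/
structure MinCex (G : Type u) [Group G] [Finite G] : Prop where
  simple : IsSimpleGroup ↥(Fs G)
  nonab : ¬ IsMulCommutative ↥(Fs G)
  small : UgtBelow.{u} (Nat.card ↥(Fs G))
  minG : ∀ (H : Type u) [Group H] [Finite H], Nat.card ↥(Fs H) = Nat.card ↥(Fs G) →
    Nat.card H < Nat.card G → UGT H
  notU : ¬ InU ↥(Fs G)
  unbal : ∃ t : G, orderOf t = 2 ∧ centralizerPPrimeCore 2 t ≠ ⊥

/-- If there is no minimal counterexample the Unbalanced Group Theorem holds. -/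
theorem ugt_of_no_minCex (h : ∀ (G : Type u) [Group G] [Finite G], ¬ MinCex G) :
    ∀ (G : Type u) [Group G] [Finite G], UGT G := by
  -- outer induction on `|F*(G)|`
  have outer : ∀ n : ℕ, ∀ (G : Type u) [Group G] [Finite G], Nat.card ↥(Fs G) = n → UGT G := by
    intro n
    induction n using Nat.strong_induction_on with
    | _ n ih =>
      have hsmall : UgtBelow.{u} n := fun G _ _ hG => ih _ hG G rfl
      -- inner induction on `|G|`
      have inner : ∀ m : ℕ, ∀ (G : Type u) [Group G] [Finite G], Nat.card G = m →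
          Nat.card ↥(Fs G) = n → UGT G := by
        intro m
        induction m using Nat.strong_induction_on with
        | _ m ihm =>
          intro G _ _ hGm hGn hs hna t ht hcore
          by_contra hno
          refine h G ⟨hs, hna, hGn ▸ hsmall, ?_, hno, t, ht, hcore⟩
          intro H _ _ hH hlt
          exact ihm _ (hGm ▸ hlt) H rfl (hH.trans hGn)
      intro G _ _ hG
      exact inner _ G rfl hG
  intro G _ _
  exact outer _ G rfl

/-! ### types of triples -/

section types

variable {G : Type u} [Group G]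

/-- `L / O(L)` -/
abbrev Bar (L : Subgroup G) : Type u := ↥L ⧸ oddCore ↥L

/-- `x` induces an inner automorphism on `L / O(L)`. -/
def IsInner (x : G) (L : Subgroup G) : Prop := ∃ r ∈ L, Fixes (x * r⁻¹) L

end types

/-- alternating of degree `n` -/
def IsAlt (n : ℕ) (K : Type*) [Group K] : Prop := Nonempty (K ≃* ↥(alternatingGroup (Fin n)))

/-- alternating of odd degree at least 7 -/
def IsAltOdd (K : Type*) [Group K] : Prop := ∃ n : ℕ, Odd n ∧ 7 ≤ n ∧ IsAlt n K

/-- `PSL₃(4)` -/
def IsL34 (K : Type*) [Group K] : Prop := ∃ (F : Type) (_ : Field F) (_ : Fintype F),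
  Fintype.card F = 4 ∧ Nonempty (K ≃* Matrix.ProjectiveSpecialLinearGroup (Fin 3) F)

/-- `PSL₂(q)`, `q ≥ 5` odd -/
def IsL2 (K : Type*) [Group K] : Prop := ∃ (F : Type) (_ : Field F) (_ : Fintype F),
  Odd (Fintype.card F) ∧ 5 ≤ Fintype.card F ∧
    Nonempty (K ≃* Matrix.ProjectiveSpecialLinearGroup (Fin 2) F)

/-- The types that survive the Lie type branch (U2), `K = L / O(L)`. -/
def OKType (K : Type*) [Group K] : Prop :=
  IsL2 K ∨ IsAltOdd K ∨ IsL34 (K ⧸ center K) ∨ Spor.IsoHe K

/-- A minimal counterexample in which all triples have a type in `OKType`. -/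
structure World (G : Type u) [Group G] [Finite G] : Prop extends MinCex G where
  ok : ∀ (x a : G) (L : Subgroup G), IsTriple x a L → OKType (Bar L)

/-- A minimal counterexample all of whose triples have type `PSL₂(q)`, `q` odd, or `PSL₃(4)`. -/
structure WorldL (G : Type u) [Group G] [Finite G] : Prop extends MinCex G where
  ok : ∀ (x a : G) (L : Subgroup G), IsTriple x a L → IsL2 (Bar L) ∨ IsL34 (Bar L ⧸ center (Bar L))

/-! ### the branches -/

/-- **(E)** Existence of a triple. -/
def NodeE : Prop := ∀ (G : Type u) [Group G] [Finite G], MinCex G →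
  ∃ (x a : G) (L : Subgroup G), IsTriple x a L

/-- **(U2)** No triple is of Lie type in odd characteristic except `PSL₂(q)`; `L / O(L)` is simple except
possibly for covers of `PSL₃(4)`. -/
def NodeU2 : Prop := ∀ (G : Type u) [Group G] [Finite G], MinCex G →
  ∀ (x a : G) (L : Subgroup G), IsTriple x a L → OKType (Bar L)

end Cfsg.Agent.UGT.Iface
end

-- part: UGT/Trich
section
set_option linter.all false
open scoped Cfsg.Agent.FastGrp

/-!
# Consequences of minimality

`G` a minimal counterexample, `X = F*(G)`, `O_x = O(C(x))`.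

* proper subgroups containing `X` are core-free;
* `G = X⟨x⟩O_x` if `O_x ≠ 1`;
* `trichotomy`: `G = X`, or `G = X⟨x⟩`, `x ∉ X` and `X` is core-free, or
  `X⟨x⟩ < G`, `O_x ∩ X = 1`, `[O_x, C_{X⟨x⟩}(x)] = 1`.
-/

set_option autoImplicit false

open Cfsg Subgroup
open Cfsg.Agent.SignalizersComponents Cfsg.Agent.Lib
open Cfsg.Agent.SignalizersComponents.IntrinsicBasic
open Cfsg.Agent.SignalizersComponents.PLayerAut
open Cfsg.Agent.Intrinsic.Basic
open Cfsg.Agent.FixBN.BTheorem Cfsg.Agent.FixBN.BRelative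
open Cfsg.Agent.UGT.Triple Cfsg.Agent.UGT.Iface
open scoped commutatorElement

namespace Cfsg.Agent.UGT.Trich

universe u

local notation "Fs" => generalizedFittingSubgroup

variable {G : Type u} [Group G] [Finite G]

omit [Finite G] in
theorem normal_fs : (Fs G).Normal := GenFitting.genFitting_normal

theorem centralizer_fs (h : MinCex G) : centralizer (Fs G : Set G) = ⊥ := by
  have hs := h.simple
  rw [eq_bot_iff]
  intro x hx
  have h2 : x ∈ Fs G := GenFitting.centralizer_genFitting_le hx
  have h3 : (⟨x, h2⟩ : ↥(Fs G)) ∈ center ↥(Fs G) := by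
    rw [mem_center_iff]
    intro y
    exact Subtype.ext (mem_centralizer_iff.mp hx y y.2)
  rw [center_eq_bot h.nonab, mem_bot] at h3
  exact congrArg Subtype.val h3

/-- `F*(H) = F*(G)` for `F*(G) ≤ H` -/
theorem fs_of_le (h : MinCex G) {H : Subgroup G} (hH : Fs G ≤ H) :
    Fs ↥H = (Fs G).subgroupOf H := by
  have hs := h.simple
  have e : ↥((Fs G).subgroupOf H) ≃* ↥(Fs G) := subgroupOfEquivOfLe hH
  have hs' : IsSimpleGroup ↥((Fs G).subgroupOf H) := simple_congr e.symm hs
  refine genFitting_eq (normal_fs.comap _) hs' (not_comm_congr e.symm h.nonab) ?_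
  rw [eq_bot_iff]
  intro x hx
  have h1 : (x : G) ∈ centralizer (Fs G : Set G) := by
    rw [mem_centralizer_iff]
    intro y hy
    exact congrArg Subtype.val (mem_centralizer_iff.mp hx ⟨y, hH hy⟩ hy)
  rw [centralizer_fs h, mem_bot] at h1
  exact Subtype.ext h1

/-- `C_H(t)` as a subgroup of `G` -/
theorem map_centralizer {H : Subgroup G} {t : G} (ht : t ∈ H) :
    (centralizer ({⟨t, ht⟩} : Set ↥H)).map H.subtype = H ⊓ centralizer ({t} : Set G) := by
  ext y
  constructor
  · rintro ⟨z, hz, rfl⟩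
    refine ⟨z.2, ?_⟩
    change (z : G) ∈ centralizer ({t} : Set G)
    rw [mem_centralizer_singleton_iff]
    exact congrArg Subtype.val (mem_centralizer_singleton_iff.mp hz)
  · rintro ⟨h1, h2⟩
    refine ⟨⟨y, h1⟩, ?_, rfl⟩
    change (⟨y, h1⟩ : ↥H) ∈ centralizer ({⟨t, ht⟩} : Set ↥H)
    rw [mem_centralizer_singleton_iff]
    exact Subtype.ext (mem_centralizer_singleton_iff.mp h2)

theorem map_centralizerPPrimeCore {H : Subgroup G} {t : G} (ht : t ∈ H) :
    (centralizerPPrimeCore 2 (⟨t, ht⟩ : ↥H)).map H.subtype =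
      core (H ⊓ centralizer ({t} : Set G)) := by
  have h1 := ExtendedBalance.relCore_map_of_injective 2 H.subtype H.subtype_injective
    (centralizer ({⟨t, ht⟩} : Set ↥H))
  rw [map_centralizer ht] at h1
  exact h1.symm

/-- Proper subgroups containing `F*(G)` are core-free. -/
theorem core_eq_bot_of_ne_top (h : MinCex G) {H : Subgroup G} (hH : Fs G ≤ H) (hne : H ≠ ⊤)
    {t : G} (ht : t ∈ H) (ht2 : orderOf t = 2) : core (H ⊓ centralizer ({t} : Set G)) = ⊥ := by
  have e : ↥(Fs ↥H) ≃* ↥(Fs G) :=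
    (MulEquiv.subgroupCongr (fs_of_le h hH)).trans (subgroupOfEquivOfLe hH)
  have hU : UGT ↥H := by
    refine h.minG ↥H (Nat.card_congr e.toEquiv) ?_
    exact lt_of_le_of_ne (Subgroup.card_le_card_group H) fun hc => hne (Subgroup.eq_top_of_card_eq H hc)
  by_contra hcore
  apply h.notU
  refine InU.congr e (hU (simple_congr e.symm h.simple) (not_comm_congr e.symm h.nonab)
    ⟨t, ht⟩ (by rwa [Subgroup.orderOf_mk]) fun hb => hcore ?_)
  rw [← map_centralizerPPrimeCore ht, hb, Subgroup.map_bot]

/-- `G = X⟨x⟩O_x` -/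
theorem sup_eq_top (h : MinCex G) {x : G} (hx : orderOf x = 2)
    (hO : core (centralizer ({x} : Set G)) ≠ ⊥) :
    Fs G ⊔ zpowers x ⊔ core (centralizer ({x} : Set G)) = ⊤ := by
  by_contra hne
  obtain ⟨H, hH⟩ : ∃ H, H = Fs G ⊔ zpowers x ⊔ core (centralizer ({x} : Set G)) := ⟨_, rfl⟩
  rw [← hH] at hne
  have hFH : Fs G ≤ H := hH ▸ le_sup_left.trans le_sup_left
  have hxH : x ∈ H := by
    rw [hH]; exact mem_sup_left (mem_sup_right (mem_zpowers x))
  have hOH : core (centralizer ({x} : Set G)) ≤ H := hH ▸ le_sup_right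
  have h1 := core_eq_bot_of_ne_top h hFH hne hxH hx
  apply hO
  rw [eq_bot_iff, ← h1]
  refine le_core (le_inf hOH (core_le _)) ?_ (odd_card_core _)
  exact inf_le_right.trans (le_normalizer_core _)

/-- The trichotomy. -/
theorem trichotomy (h : MinCex G) {x : G} (hx : orderOf x = 2)
    (hO : core (centralizer ({x} : Set G)) ≠ ⊥) :
    Fs G = ⊤ ∨
    (x ∉ Fs G ∧ Fs G ⊔ zpowers x = ⊤ ∧ ∀ t ∈ Fs G, orderOf t = 2 →
      core (Fs G ⊓ centralizer ({t} : Set G)) = ⊥) ∨
    (Fs G ⊔ zpowers x ≠ ⊤ ∧
      core (centralizer ({x} : Set G)) ⊓ (Fs G ⊔ zpowers x) = ⊥ ∧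
      ∀ d ∈ core (centralizer ({x} : Set G)), ∀ y ∈ (Fs G ⊔ zpowers x) ⊓ centralizer ({x} : Set G),
        ⁅d, y⁆ = 1) := by
  obtain ⟨H, hH⟩ : ∃ H, H = Fs G ⊔ zpowers x := ⟨_, rfl⟩
  rw [← hH]
  have hFH : Fs G ≤ H := hH ▸ le_sup_left
  have hxH : x ∈ H := by rw [hH]; exact mem_sup_right (mem_zpowers x)
  by_cases htop : H = ⊤
  · by_cases hxF : x ∈ Fs G
    · left
      rw [← htop, hH]
      exact (sup_eq_left.mpr (by rwa [zpowers_le])).symm
    · right; left
      refine ⟨hxF, htop, fun t ht ht2 => ?_⟩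
      refine core_eq_bot_of_ne_top h le_rfl ?_ ht ht2
      intro hF
      rw [hF] at hxF
      exact hxF (mem_top x)
  · right; right
    have h1 := core_eq_bot_of_ne_top h hFH htop hxH hx
    have h2 : core (centralizer ({x} : Set G)) ⊓ H = ⊥ := by
      rw [eq_bot_iff, ← h1]
      intro d hd
      have h3 := PumpGen.inf_le_core' (H := H) hd.1 hd.2
      exact h3
    refine ⟨htop, h2, fun d hd y hy => ?_⟩
    have hdx : d * x = x * d := comm_c (core_le _ hd)
    -- `d` normalizes `H`
    have hdH : d ∈ normalizer (H : Set G) := by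
      rw [mem_normalizer_iff_cj, hH]
      have e1 : cj d (Fs G ⊔ zpowers x) = cj d (Fs G) ⊔ cj d (zpowers x) := by
        rw [cj_def, cj_def, cj_def, Subgroup.map_sup]
      have e2 : cj d (Fs G) = Fs G := by
        have : d ∈ normalizer (Fs G : Set G) := by
          rw [Subgroup.normalizer_eq_top_iff.mpr normal_fs]; exact mem_top d
        exact mem_normalizer_iff_cj.mp this
      have e3 : cj d (zpowers x) = zpowers x := by
        rw [cj_def, MonoidHom.map_zpowers]
        congr 1
        change d * x * d⁻¹ = x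
        rw [hdx]; group
      rw [e1, e2, e3]
    have h5 : ⁅d, y⁆ ∈ core (centralizer ({x} : Set G)) ⊓ H := by
      constructor
      · have e : ⁅d, y⁆ = d * (y * d⁻¹ * y⁻¹) := by rw [commutatorElement_def]; group
        rw [e]
        have hd' : d⁻¹ ∈ core (centralizer ({x} : Set G)) := Subgroup.inv_mem _ hd
        have h6 : y * d⁻¹ * y⁻¹ ∈ core (centralizer ({x} : Set G)) :=
          conj_core (H := centralizer ({x} : Set G)) hy.2 hd'
        exact Subgroup.mul_mem _ hd h6
      · rw [commutatorElement_def]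
        exact Subgroup.mul_mem _ ((mem_normalizer_iff.mp hdH y).mp hy.1) (Subgroup.inv_mem _ hy.1)
    rw [h2, mem_bot] at h5
    exact h5

end Cfsg.Agent.UGT.Trich
end

-- part: UGT/End
section
set_option linter.all false
open scoped Cfsg.Agent.FastGrp

/-!
# The node END

`X` is a known simple group outside the list of S1311. The node `LB X` says that no group `G` with
`F*(G) ≅ X` has an involution `x` with `O(C_G(x)) ≠ 1`. It splits into three pieces:

* `EndInner X`: `O(C_X(t)) = 1` for all involutions `t` of `X`;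
* `EndOuter X`: `O(C_G(x)) = 1` for `G = X⟨x⟩`, `x ∉ X` an involution, `C_G(X) = 1`;
* `EndOdd X`: a subgroup `D ≠ 1` of odd order of automorphisms, centralizing an involution `x` of `G`
  and normalized by `C_G(x)` with `D ∩ X = 1` does not centralize `C_X(x)`.

`LB.of_pieces`: the three pieces give `LB X`.
-/

set_option autoImplicit false

open Cfsg Subgroup
open Cfsg.Agent.SignalizersComponents Cfsg.Agent.Lib
open Cfsg.Agent.SignalizersComponents.IntrinsicBasic
open Cfsg.Agent.SignalizersComponents.PLayerAut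
open Cfsg.Agent.Intrinsic.Basic
open Cfsg.Agent.FixBN.BTheorem Cfsg.Agent.FixBN.BRelative
open Cfsg.Agent.UGT.Triple Cfsg.Agent.UGT.Iface Cfsg.Agent.UGT.Trich
open scoped commutatorElement

namespace Cfsg.Agent.UGT.End

universe u v

local notation "Fs" => generalizedFittingSubgroup

/-- END, inner involutions. -/
def EndInner (X : Type u) [Group X] : Prop :=
  ∀ t : X, orderOf t = 2 → centralizerPPrimeCore 2 t = ⊥

/-- END, outer involutions. -/
def EndOuter (X : Type u) [Group X] : Prop :=
  ∀ (G : Type u) [Group G] [Finite G] (N : Subgroup G), N.Normal → Nonempty (X ≃* ↥N) →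
    centralizer (N : Set G) = ⊥ → N.index = 2 → ∀ x : G, x ∉ N → orderOf x = 2 →
      centralizerPPrimeCore 2 x = ⊥

/-- END, outer automorphisms of odd order: `D` is an odd order subgroup of `C_G(x)`, normalized by
`C_G(x)`, centralizing `C_N(x)` and meeting `N` trivially. -/
def EndOdd (X : Type u) [Group X] : Prop :=
  ∀ (G : Type u) [Group G] [Finite G] (N : Subgroup G), N.Normal → Nonempty (X ≃* ↥N) →
    centralizer (N : Set G) = ⊥ → ∀ x : G, orderOf x = 2 → ∀ D : Subgroup G,
      D ≤ centralizer ({x} : Set G) → centralizer ({x} : Set G) ≤ normalizer (D : Set G) →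
      Odd (Nat.card D) → D ⊓ N = ⊥ →
      (∀ d ∈ D, ∀ y ∈ N, y * x = x * y → y * d = d * y) → D = ⊥

/-- **Node END** for the simple group `X`. -/
def LB (X : Type u) [Group X] : Prop :=
  ∀ (G : Type u) [Group G] [Finite G] (N : Subgroup G), N.Normal → Nonempty (X ≃* ↥N) →
    centralizer (N : Set G) = ⊥ → ∀ x : G, orderOf x = 2 → centralizerPPrimeCore 2 x = ⊥

section congr

variable {X Y : Type u} [Group X] [Group Y]

theorem EndInner.congr (e : X ≃* Y) (h : EndInner X) : EndInner Y := by
  intro t ht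
  have h1 := h (e.symm t) (by rwa [MulEquiv.orderOf_eq])
  have h2 := map_core e 2 (e.symm t)
  rw [h1, Subgroup.map_bot, MulEquiv.apply_symm_apply] at h2
  exact h2.symm

theorem EndOuter.congr (e : X ≃* Y) (h : EndOuter X) : EndOuter Y :=
  fun G _ _ N hN ⟨f⟩ => h G N hN ⟨e.trans f⟩

theorem EndOdd.congr (e : X ≃* Y) (h : EndOdd X) : EndOdd Y :=
  fun G _ _ N hN ⟨f⟩ => h G N hN ⟨e.trans f⟩

theorem LB.congr (e : X ≃* Y) (h : LB X) : LB Y :=
  fun G _ _ N hN ⟨f⟩ => h G N hN ⟨e.trans f⟩

end congr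

/-- cores of centralizers under isomorphisms -/
theorem map_core' {G : Type*} {H : Type*} [Group G] [Group H] (e : G ≃* H) (p : ℕ) (a : G) :
    (centralizerPPrimeCore p a).map e.toMonoidHom = centralizerPPrimeCore p (e a) := by
  have h := PLayerAut.relCore_map_equiv p e (Subgroup.centralizer ({a} : Set G))
  have h2 : (Subgroup.centralizer ({a} : Set G)).map e.toMonoidHom =
      Subgroup.centralizer ({e a} : Set H) := by
    ext y
    constructor
    · rintro ⟨x, hx, rfl⟩
      have := mem_centralizer_singleton_iff.mp hx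
      change e x ∈ Subgroup.centralizer ({e a} : Set H)
      rw [mem_centralizer_singleton_iff, ← map_mul, ← map_mul, this]
    · intro hy
      refine ⟨e.symm y, ?_, e.apply_symm_apply y⟩
      have := mem_centralizer_singleton_iff.mp hy
      change e.symm y ∈ Subgroup.centralizer ({a} : Set G)
      rw [mem_centralizer_singleton_iff]
      apply e.injective
      rw [map_mul, map_mul, e.apply_symm_apply, this]
  rw [h2] at h
  exact h.symm

theorem core_le_of_subgroup {G : Type u} [Group G] [Finite G] {H : Subgroup G} {x : G}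
    (hxH : x ∈ H) (h : centralizerPPrimeCore 2 (⟨x, hxH⟩ : ↥H) = ⊥) :
    core (H ⊓ centralizer ({x} : Set G)) = ⊥ := by
  rw [← map_centralizerPPrimeCore hxH, h, Subgroup.map_bot]

/-- `O(C_{N⟨x⟩}(x)) = 1` -/
theorem core_sup_zpowers {X : Type u} [Group X] (h1 : EndInner X) (h2 : EndOuter X)
    {G : Type u} [Group G] [Finite G] {N : Subgroup G} (hN : N.Normal) (f : X ≃* ↥N)
    (hc : centralizer (N : Set G) = ⊥) {x : G} (hx : orderOf x = 2) :
    core ((N ⊔ zpowers x) ⊓ centralizer ({x} : Set G)) = ⊥ := by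
  obtain ⟨H, hH⟩ : ∃ H, H = N ⊔ zpowers x := ⟨_, rfl⟩
  rw [← hH]
  have hNH : N ≤ H := hH ▸ le_sup_left
  have hxH : x ∈ H := by rw [hH]; exact mem_sup_right (mem_zpowers x)
  by_cases hxN : x ∈ N
  · have hHN : H = N := by rw [hH]; exact sup_eq_left.mpr (by rwa [zpowers_le])
    rw [hHN]
    refine core_le_of_subgroup hxN ?_
    exact (h1.congr f) ⟨x, hxN⟩ (by rwa [Subgroup.orderOf_mk])
  · refine core_le_of_subgroup hxH ?_
    refine h2 ↥H (N.subgroupOf H) (hN.comap _) ⟨f.trans (subgroupOfEquivOfLe hNH).symm⟩ ?_ ?_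
      ⟨x, hxH⟩ (fun h => hxN h) (by rwa [Subgroup.orderOf_mk])
    · rw [eq_bot_iff]
      intro y hy
      have h4 : (y : G) ∈ centralizer (N : Set G) := by
        rw [mem_centralizer_iff]
        intro z hz
        exact congrArg Subtype.val (mem_centralizer_iff.mp hy ⟨z, hNH hz⟩ hz)
      rw [hc, mem_bot] at h4
      exact Subtype.ext h4
    · -- index 2
      rw [Subgroup.index_eq_two_iff]
      refine ⟨⟨x, hxH⟩, fun b => ?_⟩
      have hxx : x * x = 1 := sq_of_order hx
      have hb : (b : G) ∈ N ⊔ zpowers x := hH ▸ b.2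
      have hmem : ∀ g : G, g ∈ N ⊔ zpowers x → g ∈ N ∨ g * x ∈ N := by
        intro g hg
        have := hN
        rw [← SetLike.mem_coe, Subgroup.normal_mul] at hg
        obtain ⟨n, hn, k, hk, rfl⟩ := hg
        obtain ⟨i, rfl⟩ := mem_zpowers_iff.mp hk
        rcases Int.even_or_odd i with ⟨j, hj⟩ | ⟨j, hj⟩
        · left
          have : x ^ i = 1 := by
            rw [hj, ← two_mul, zpow_mul, show x ^ (2 : ℤ) = 1 by
              rw [zpow_ofNat, pow_two, hxx], one_zpow]
          change n * x ^ i ∈ N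
          rw [this, mul_one]; exact hn
        · right
          have : x ^ i = x := by
            rw [hj, zpow_add, zpow_mul, show x ^ (2 : ℤ) = 1 by
              rw [zpow_ofNat, pow_two, hxx], one_zpow, zpow_one, one_mul]
          change n * x ^ i * x ∈ N
          rw [this, mul_assoc, hxx, mul_one]; exact hn
      have hiff : ∀ g : G, g ∈ N ∨ g * x ∈ N → Xor (g * x ∈ N) (g ∈ N) := by
        intro g hg
        have hnot : ¬ (g ∈ N ∧ g * x ∈ N) := by
          rintro ⟨h5, h6⟩
          apply hxN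
          have := N.mul_mem (N.inv_mem h5) h6
          rwa [inv_mul_cancel_left] at this
        rcases hg with h5 | h5
        · exact Or.inr ⟨h5, fun h6 => hnot ⟨h5, h6⟩⟩
        · exact Or.inl ⟨h5, fun h6 => hnot ⟨h6, h5⟩⟩
      exact hiff _ (hmem _ hb)

/-- The three pieces give the node END. -/
theorem LB.of_pieces {X : Type u} [Group X] (h1 : EndInner X) (h2 : EndOuter X) (h3 : EndOdd X) :
    LB X := by
  intro G _ _ N hN hX hc x hx
  obtain ⟨f⟩ := hX
  change core (centralizer ({x} : Set G)) = ⊥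
  obtain ⟨D, hD⟩ : ∃ D, D = core (centralizer ({x} : Set G)) := ⟨_, rfl⟩
  rw [← hD]
  have hcore := core_sup_zpowers h1 h2 hN f hc hx
  obtain ⟨H, hH⟩ : ∃ H, H = N ⊔ zpowers x := ⟨_, rfl⟩
  rw [← hH] at hcore
  have hNH : N ≤ H := hH ▸ le_sup_left
  have hDC : D ≤ centralizer ({x} : Set G) := hD ▸ core_le _
  have hDodd : Odd (Nat.card D) := hD ▸ odd_card_core _
  have hDn : centralizer ({x} : Set G) ≤ normalizer (D : Set G) := hD ▸ le_normalizer_core _
  have hDH : D ⊓ H = ⊥ := by
    rw [eq_bot_iff, ← hcore]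
    intro d hd
    have h3 := PumpGen.inf_le_core' (H := H) (hD ▸ hd.1) hd.2
    exact h3
  refine h3 G N hN ⟨f⟩ hc x hx D hDC hDn hDodd ?_ ?_
  · rw [eq_bot_iff, ← hDH]
    exact inf_le_inf_left _ hNH
  · intro d hd y hy hyx
    have hyC : y ∈ centralizer ({x} : Set G) := mem_c hyx
    have h5 : ⁅d, y⁆ ∈ D ⊓ H := by
      constructor
      · have e : ⁅d, y⁆ = d * (y * d⁻¹ * y⁻¹) := by rw [commutatorElement_def]; group
        rw [e]
        exact D.mul_mem hd ((mem_normalizer_iff.mp (hDn hyC) d⁻¹).mp (D.inv_mem hd))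
      · rw [commutatorElement_def]
        exact H.mul_mem (hNH (hN.conj_mem y hy d)) (H.inv_mem (hNH hy))
    rw [hDH, mem_bot] at h5
    exact (commutatorElement_eq_one_iff_mul_comm.mp h5).symm

/-- `IsLocallyBalanced` is invariant under isomorphism -/
theorem locallyBalanced_congr {X : Type u} {Y : Type v} [Group X] [Group Y] (e : X ≃* Y)
    (h : IsLocallyBalanced X) : IsLocallyBalanced Y := by
  intro H hH x hx
  let E : MulAut X ≃* MulAut Y := MulAut.congr e
  have hle : (MulAut.conj : X →* MulAut X).range ≤ H.comap E.toMonoidHom := by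
    rintro _ ⟨y, rfl⟩
    rw [mem_comap]
    apply hH
    refine ⟨e y, ?_⟩
    ext z
    change e y * z * (e y)⁻¹ = e (y * e.symm z * y⁻¹)
    simp
  let F : ↥(H.comap E.toMonoidHom) ≃* ↥H :=
    { toFun := fun y => ⟨E y, y.2⟩
      invFun := fun y => ⟨E.symm y, by
        rw [mem_comap]
        change E (E.symm y) ∈ H
        rw [MulEquiv.apply_symm_apply]; exact y.2⟩
      left_inv := fun y => Subtype.ext (E.symm_apply_apply _)
      right_inv := fun y => Subtype.ext (E.apply_symm_apply _)
      map_mul' := fun y z => Subtype.ext (map_mul E _ _) }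
  have h1 := h _ hle (F.symm x) (by rwa [MulEquiv.orderOf_eq])
  have h2 := map_core' F 2 (F.symm x)
  rw [h1, Subgroup.map_bot, MulEquiv.apply_symm_apply] at h2
  exact h2.symm

/-- A locally balanced simple group (Prelude) satisfies END. -/
theorem LB.of_locallyBalanced {X : Type u} [Group X] (hs : IsSimpleGroup X)
    (hna : ¬ IsMulCommutative X) (h : IsLocallyBalanced X) : LB X := by
  intro G _ _ N hN hX hc x hx
  obtain ⟨f⟩ := hX
  have hsN : IsSimpleGroup ↥N := simple_congr f hs
  have hnaN : ¬ IsMulCommutative ↥N := not_comm_congr f hna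
  have hF : Fs G = N := genFitting_eq hN hsN hnaN hc
  have e : X ≃* ↥(Fs G) := f.trans (MulEquiv.subgroupCongr hF.symm)
  exact core_eq_bot (simple_congr e hs) (not_comm_congr e hna) (locallyBalanced_congr e h) hx

/-- END(X) excludes minimal counterexamples with `F*(G) ≅ X`. -/
theorem not_minCex {G : Type u} [Group G] [Finite G] (h : MinCex G) (hLB : LB ↥(Fs G)) : False := by
  obtain ⟨t, ht, hne⟩ := h.unbal
  exact hne (hLB G (Fs G) normal_fs ⟨MulEquiv.refl _⟩ (centralizer_fs h) t ht)

end Cfsg.Agent.UGT.End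
end

-- part: UGT/InUList
section
set_option linter.all false
open scoped Cfsg.Agent.FastGrp

/-!
# The list `GH.Defs.K4` and the list of S1311

* `inU_or_end`: a group in `K4` is in `InU` or in the list `K4End`.
* `not_K4_of`: if the groups of `K4End` are excluded as `F*(G)` of a minimal counterexample `G`, then so are
  the groups of `K4`.
-/

set_option autoImplicit false

open Cfsg Subgroup
open Cfsg.Agent.FixBN.BTheorem Cfsg.Agent.FixBN.BRelative
open Cfsg.Agent.UGT.Triple Cfsg.Agent.UGT.Iface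
open Cfsg.Agent.GH.Defs (K2 K3 K4 IsL2odd IsL3odd IsU3odd IsU34 IsL28 IsL216 IsSz8 IsSp4odd IsL4odd IsU4odd IsL5odd
  IsU5odd IsG2odd IsD4odd HasAltCover)

namespace Cfsg.Agent.UGT.InUList

universe u

/-- the characteristic of a finite field with an odd number of elements -/
theorem exists_char {F : Type} [Field F] [Fintype F] (h : Odd (Fintype.card F)) :
    ∃ p : ℕ, p.Prime ∧ p ≠ 2 ∧ CharP F p := by
  obtain ⟨p, hp⟩ := CharP.exists F
  have hpp : p.Prime := CharP.char_is_prime F p
  refine ⟨p, hpp, ?_, hp⟩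
  rintro rfl
  have h1 : ringChar F = 2 := (ringChar.eq F 2).symm ▸ rfl
  have h2 := (FiniteField.even_card_iff_char_two (F := F)).mp h1
  rw [Nat.odd_iff] at h
  omega

theorem three_le {F : Type} [Field F] [Fintype F] (h : Odd (Fintype.card F)) : 3 ≤ Fintype.card F := by
  have h1 : 1 < Fintype.card F := Fintype.one_lt_card
  obtain ⟨k, hk⟩ := h
  omega

section lists

variable {X : Type u} [Group X]

theorem inU_psl {F : Type} [Field F] [Fintype F] (h : Odd (Fintype.card F)) {n : ℕ} (hn : 2 ≤ n)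
    (h4 : n = 2 → 4 ≤ Fintype.card F)
    (e : Nonempty (X ≃* Matrix.ProjectiveSpecialLinearGroup (Fin n) F)) : InU X := by
  obtain ⟨p, hp, hp2, hc⟩ := exists_char h
  exact Or.inl ⟨p, hp, hp2, Or.inl ⟨F, _, _, hc, n, hn, h4, e⟩⟩

theorem inU_psp {F : Type} [Field F] [Fintype F] (h : Odd (Fintype.card F)) {m : ℕ} (hm : 2 ≤ m)
    (e : Nonempty (X ≃* PSp m F)) : InU X := by
  obtain ⟨p, hp, hp2, hc⟩ := exists_char h
  exact Or.inl ⟨p, hp, hp2, Or.inr (Or.inl ⟨F, _, _, hc, m, hm, fun _ => three_le h, e⟩)⟩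

theorem inU_psu {F : Type} [Field F] [Fintype F] {n q : ℕ} (h1 : Fintype.card F = q ^ 2)
    (h2 : Odd q) (hn : 3 ≤ n) (e : Nonempty (X ≃* PSU n F q)) : InU X := by
  obtain ⟨p, hp, hp2, hc⟩ := exists_char (F := F) (by rw [h1]; exact h2.pow)
  refine Or.inl ⟨p, hp, hp2, Or.inr (Or.inr (Or.inl ⟨F, _, _, hc, n, q, h1, hn, ?_, e⟩))⟩
  rintro ⟨-, rfl⟩
  exact absurd h2 (by decide)

theorem inU_g2 (h : IsG2odd X) : InU X := by
  obtain ⟨F, _, _, h1, e⟩ := h
  obtain ⟨p, hp, hp2, hc⟩ := exists_char h1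
  refine Or.inl ⟨p, hp, hp2, ?_⟩
  unfold IsLieTypeChar IsExceptionalChevChar
  exact Or.inr (Or.inr (Or.inr (Or.inr (Or.inr (Or.inr (Or.inl
    ⟨F, _, _, hc, Or.inl ⟨three_le h1, e⟩⟩))))))

theorem inU_d4 (h : IsD4odd X) : InU X := by
  obtain ⟨K, _, _, q, h1, h2, e⟩ := h
  obtain ⟨p, hp, hp2, hc⟩ := exists_char (F := K) (by rw [h2]; exact h1.pow)
  have h3 : IsPrimePow (q ^ 3) := by
    rw [← h2]
    exact FiniteField.isPrimePow_card K
  have h4 : IsPrimePow q := (isPrimePow_pow_iff (by norm_num)).1 h3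
  refine Or.inl ⟨p, hp, hp2, ?_⟩
  unfold IsLieTypeChar IsTwistedE6D4Char
  exact Or.inr (Or.inr (Or.inr (Or.inr (Or.inr (Or.inr (Or.inr (Or.inl
    ⟨K, _, _, hc, q, h4, Or.inr ⟨h2, e⟩⟩)))))))

theorem inU_ree (h : Lie.IsoRee X) : InU X := by
  refine Or.inl ⟨3, Nat.prime_three, by norm_num, ?_⟩
  unfold IsLieTypeChar
  exact Or.inr (Or.inr (Or.inr (Or.inr (Or.inr (Or.inr (Or.inr (Or.inr (Or.inr (Or.inr
    ⟨rfl, h⟩)))))))))

theorem inU_alt {n : ℕ} (h1 : Odd n) (h2 : 7 ≤ n) (e : Nonempty (X ≃* alternatingGroup (Fin n))) :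
    InU X := Or.inr (Or.inl ⟨n, h1, h2, e⟩)

/-- The groups of the list `K4` which are not in `InU`. -/
def K4End (X : Type u) [Group X] : Prop :=
  IsU34 X ∨ Spor.IsoM11 X ∨ IsL28 X ∨ IsSz8 X ∨ Spor.IsoJ1 X ∨ IsL216 X ∨
    (∃ n : ℕ, Even n ∧ 8 ≤ n ∧ GH.Defs.IsAlt n X) ∨
    Spor.IsoM12 X ∨ Spor.IsoM22 X ∨ Spor.IsoM23 X ∨ Spor.IsoJ2 X ∨ Spor.IsoJ3 X ∨ HasAltCover X

theorem inU_or_end (h : K4 X) : InU X ∨ K4End X := by
  rcases h with (⟨F, i, j, h1, h2, f⟩ | ⟨F, i, j, h1, f⟩ | ⟨F, i, j, q, h1, h2, f⟩ | h | h | h) |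
    (h | h | h | h) | h | ⟨F, i, j, h1, f⟩ | ⟨n, h1, h2, h⟩ | ⟨F, i, j, h1, f⟩ |
    ⟨F, i, j, h1, h2, f⟩ | ⟨F, i, j, q, h1, h2, h3, f⟩ | ⟨F, i, j, h1, f⟩ | ⟨F, i, j, q, h1, h2, f⟩ |
    ⟨h, -⟩ | ⟨h, -⟩ | h | h | h | h | h | h
  · exact Or.inl (inU_psl h1 le_rfl (fun _ => by omega) f)
  · exact Or.inl (inU_psl h1 (by norm_num) (fun h => by omega) f)
  · exact Or.inl (inU_psu h1 h2 le_rfl f)
  · exact Or.inr (by unfold K4End; tauto)
  · exact Or.inl (inU_alt (by decide) le_rfl h)
  · exact Or.inr (by unfold K4End; tauto)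
  · exact Or.inr (by unfold K4End; tauto)
  · exact Or.inr (by unfold K4End; tauto)
  · exact Or.inl (inU_ree h)
  · exact Or.inr (by unfold K4End; tauto)
  · exact Or.inr (by unfold K4End; (solve | repeat (first | with_reducible assumption | exact Or.inl (by with_reducible assumption) | refine Or.inr ?_) | tauto))
  · exact Or.inl (Or.inr (Or.inr (Or.inl ⟨F, i, j, h1, f⟩)))
  · rcases Nat.even_or_odd n with hn | hn
    · exact Or.inr (Or.inr (Or.inr (Or.inr (Or.inr (Or.inr (Or.inr (Or.inl ⟨n, hn, h1, h⟩)))))))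
    · exact Or.inl (inU_alt hn (by omega) h)
  · exact Or.inl (inU_psp h1 le_rfl f)
  · exact Or.inl (inU_psl h1 (by norm_num) (fun h => by omega) f)
  · exact Or.inl (inU_psu h1 h2 (by norm_num) f)
  · exact Or.inl (inU_psl (by rw [Nat.odd_iff]; omega) (by norm_num) (fun h => by omega) f)
  · exact Or.inl (inU_psu h1 (by rw [Nat.odd_iff]; omega) (by norm_num) f)
  · exact Or.inl (inU_g2 h)
  · exact Or.inl (inU_d4 h)
  all_goals exact Or.inr (by unfold K4End; (solve | repeat (first | with_reducible assumption | exact Or.inl (by with_reducible assumption) | refine Or.inr ?_) | tauto))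

end lists

/-- No minimal counterexample `G` has `F*(G)` in the class `P`. -/
def Excl (P : ∀ (X : Type u) [Group X], Prop) : Prop :=
  ∀ (G : Type u) [Group G] [Finite G], MinCex G → ¬ P ↥(generalizedFittingSubgroup G)

theorem Excl.of_core {P : ∀ (X : Type u) [Group X], Prop}
    (h : ∀ (G : Type u) [Group G] [Finite G], P ↥(generalizedFittingSubgroup G) →
      ∀ t : G, orderOf t = 2 → centralizerPPrimeCore 2 t = ⊥) : Excl P := by
  intro G _ _ hG hP
  obtain ⟨t, ht, hne⟩ := hG.unbal
  exact hne (h G hP t ht)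

theorem not_K4_of (h : Excl.{u} K4End) : Excl.{u} K4 := by
  intro G _ _ hG hK
  rcases inU_or_end hK with h1 | h1
  · exact hG.notU h1
  · exact h G hG h1

/-- Simple groups of sectional 2-rank at most 4 (the isomorphism form of S0500). -/
def PK4 : Prop :=
  ∀ (G : Type u) [Group G] [Finite G] [IsSimpleGroup G], ¬ IsMulCommutative G →
    SectionalPRankLE 2 4 G → K4 G

/-- `F*(G)` has sectional 2-rank at least 5 in a minimal counterexample `G`. -/
theorem rank_fs (k4 : PK4.{u}) (hE : Excl.{u} K4End) {G : Type u} [Group G] [Finite G]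
    (hG : MinCex G) : ¬ SectionalPRankLE 2 4 ↥(generalizedFittingSubgroup G) := by
  intro h
  have hs := hG.simple
  exact not_K4_of hE G hG (k4 _ hG.nonab h)

/-- A minimal counterexample has sectional 2-rank at least 5. -/
theorem rank (k4 : PK4.{u}) (hE : Excl.{u} K4End) {G : Type u} [Group G] [Finite G]
    (hG : MinCex G) : ¬ SectionalPRankLE 2 4 G :=
  fun h => rank_fs k4 hE hG (GH.Rank.of_subgroup h _)

end Cfsg.Agent.UGT.InUList
end

-- part: UGT/NodeE
section
set_option linter.all false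
open scoped Cfsg.Agent.FastGrp

/-!
# Node (E): existence of a triple

`G` a minimal counterexample without triples. Then

* `balanced`: `G` is balanced (`O(C(x)) ∩ C(a)` centralizes `O₂` and the components of `C(a) / O(C(a))`);
* `oddCore_eq_bot`: `O(G) = 1`;
* a Sylow 2-subgroup has a normal elementary abelian subgroup of order 8 (S0501 and `InUList.rank`), hence is
  connected (S0502), and S1291 gives `O(C(t)) = 1` for all involutions `t`, a contradiction.

`nodeE` takes S1291 as a hypothesis.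
-/

set_option autoImplicit false

open Cfsg Subgroup
open Cfsg.Agent.SignalizersComponents Cfsg.Agent.Lib
open Cfsg.Agent.SignalizersComponents.IntrinsicBasic
open Cfsg.Agent.SignalizersComponents.PLayerAut
open Cfsg.Agent.Intrinsic.Basic
open Cfsg.Agent.FixBN.BTheorem Cfsg.Agent.FixBN.BRelative
open Cfsg.Agent.UGT.Triple Cfsg.Agent.UGT.Iface Cfsg.Agent.UGT.InUList
open scoped commutatorElement

namespace Cfsg.Agent.UGT.NodeE

universe u

local notation "Fs" => generalizedFittingSubgroup

/-- The statement of S1291. -/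
def P1291 : Prop := ∀ (G : Type u) [Group G] [Finite G], IsBalanced G → oddCore G = ⊥ →
  ¬ PRankLE 2 2 G → (IsFourConnected G ∨ ∃ S : Sylow 2 G, IsFourConnected ↥(S : Subgroup G)) →
  ∀ t : G, orderOf t = 2 → centralizerPPrimeCore 2 t = ⊥

section balanced

variable {G : Type u} [Group G] [Finite G]

/-- If `d` fixes `L` (a 2-component of `H`), its image in `H / O(H)` centralizes the image of `L`. -/
theorem mk_commute {H L : Subgroup G} (hL : IsComp H L) {d : G} (hdH : d ∈ H) (hf : Fixes d L) :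
    QuotientGroup.mk' (pPrimeCore 2 ↥H) ⟨d, hdH⟩ ∈
      centralizer (((L.subgroupOf H).map (QuotientGroup.mk' (pPrimeCore 2 ↥H)) : Subgroup _) :
        Set (↥H ⧸ pPrimeCore 2 ↥H)) := by
  rw [mem_centralizer_iff]
  rintro _ ⟨y, hy, rfl⟩
  have h1 : ⁅d, (y : G)⁆ ∈ core H := hL.core_le_core (hf.2 y hy)
  have h2 : (⁅(⟨d, hdH⟩ : ↥H), y⁆ : ↥H) ∈ pPrimeCore 2 ↥H := by
    have h3 : ((⁅(⟨d, hdH⟩ : ↥H), y⁆ : ↥H) : G) ∈ core H := h1
    exact (mem_core_iff (⁅(⟨d, hdH⟩ : ↥H), y⁆ : ↥H).2).mp h3
  have h4 : QuotientGroup.mk' (pPrimeCore 2 ↥H) ⁅(⟨d, hdH⟩ : ↥H), y⁆ = 1 :=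
    (QuotientGroup.eq_one_iff _).mpr h2
  rw [map_commutatorElement, commutatorElement_eq_one_iff_mul_comm] at h4
  exact h4.symm

/-- If no 2-component of `C(a)` is the third entry of a triple `(x, a, L)`, then
`O(C(x)) ∩ C(a) ≤ O(C(a))`. -/
theorem inf_le_of_no_triple {x a : G} (hx : orderOf x = 2) (ha : orderOf a = 2)
    (hax : a * x = x * a) (hno : ∀ L : Subgroup G, ¬ IsTriple x a L) :
    core (centralizer ({x} : Set G)) ⊓ centralizer ({a} : Set G) ≤
      core (centralizer ({a} : Set G)) := by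
  have : Fact (Nat.Prime 2) := ⟨Nat.prime_two⟩
  obtain ⟨H, hH⟩ : ∃ H : Subgroup G, H = centralizer ({a} : Set G) := ⟨_, rfl⟩
  have hxH : x ∈ H := hH ▸ mem_c hax.symm
  obtain ⟨D, hD⟩ : ∃ D, D = core (centralizer ({x} : Set G)) ⊓ centralizer ({a} : Set G) := ⟨_, rfl⟩
  have hDH : D ≤ H := by rw [hD, hH]; exact inf_le_right
  have hDc : ∀ d ∈ D, d ∈ core (H ⊓ centralizer ({x} : Set G)) := by
    intro d hd
    rw [hD] at hd
    rw [hH]
    exact inf_le_core hd.1 hd.2
  obtain ⟨E, hE⟩ : ∃ E : Subgroup (↥H ⧸ pPrimeCore 2 ↥H),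
    E = (D.subgroupOf H).map (QuotientGroup.mk' (pPrimeCore 2 ↥H)) := ⟨_, rfl⟩
  have hO := Lib.Cores.pPrimeCore_quotient_pPrimeCore (G := ↥H) 2
  have hEc : E ≤ centralizerPPrimeCore 2 (QuotientGroup.mk' (pPrimeCore 2 ↥H) ⟨x, hxH⟩) := by
    rw [hE]
    rintro _ ⟨y, hy, rfl⟩
    exact mk_mem_core hxH hx (hDc _ hy)
  have ho : orderOf (QuotientGroup.mk' (pPrimeCore 2 ↥H) ⟨x, hxH⟩) = 2 := by
    refine orderOf_eq_prime ?_ ?_
    · rw [← map_pow]
      have : (⟨x, hxH⟩ : ↥H) ^ 2 = 1 := Subtype.ext (by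
        change x ^ 2 = 1
        rw [← hx, pow_orderOf_eq_one])
      rw [this, map_one]
    · intro h
      have h3 : x ∈ core H := (mem_core_iff hxH).mpr ((QuotientGroup.eq_one_iff _).mp h)
      exact ne_one_of_order hx (eq_one_of_mem_core_sq h3 (sq_of_order hx))
  have hEodd : (Nat.card E).Coprime 2 := by
    refine Nat.Coprime.coprime_dvd_left (card_dvd_of_le hEc) ?_
    exact CoreOfCentralizer.card_centralizerPPrimeCore_coprime 2 _
  have hEbot : E = ⊥ := by
    refine BalanceAux.eq_bot_of_le_centralizer_components 2 hO E hEodd ?_ ?_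
    · exact hEc.trans (BalanceAux.core_le_centralizer_pCore 2 _ ho)
    · intro K hK
      obtain ⟨L, hL, rfl⟩ := PConstrained.exists_isPComponent_map_eq 2 hK
      have hLc : IsComp H (L.map H.subtype) := isComp_of_subtype hL
      have hsub : (L.map H.subtype).subgroupOf H = L :=
        comap_map_eq_self_of_injective H.subtype_injective L
      rw [hE]
      rintro _ ⟨y, hy, rfl⟩
      have hyD : (y : G) ∈ D := hy
      have hf : Fixes (y : G) (L.map H.subtype) := by
        by_contra hf
        refine hno (L.map H.subtype) ⟨hx, ha, hax, hH ▸ hLc, y, ?_, ?_, hf⟩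
        · rw [hD] at hyD; exact hyD.1
        · rw [← hH]; exact y.2
      have h1 := mk_commute hLc y.2 hf
      rw [hsub] at h1
      exact h1
  intro d hd
  have hdD : d ∈ D := hD ▸ hd
  have h1 : QuotientGroup.mk' (pPrimeCore 2 ↥H) ⟨d, hDH hdD⟩ ∈ E := by
    rw [hE]; exact ⟨⟨d, hDH hdD⟩, hdD, rfl⟩
  rw [hEbot, mem_bot] at h1
  have h2 := (QuotientGroup.eq_one_iff _).mp h1
  rw [← hH]
  exact (mem_core_iff (hDH hdD)).mpr h2

/-- A finite group without triples is balanced. -/
theorem balanced (hno : ∀ (x a : G) (L : Subgroup G), ¬ IsTriple x a L) : IsBalanced G := by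
  have key : ∀ x y : G, orderOf x = 2 → orderOf y = 2 → x * y = y * x →
      centralizerPPrimeCore 2 x ⊓ centralizer ({y} : Set G) ≤
        centralizerPPrimeCore 2 y ⊓ centralizer ({x} : Set G) := by
    intro x y hx hy hxy
    refine le_inf (inf_le_of_no_triple hx hy hxy.symm fun L => hno x y L) ?_
    exact inf_le_left.trans (core_le _)
  intro x y hx hy hxy
  exact le_antisymm (key x y hx hy hxy) (key y x hy hx hxy.symm)

end balanced

variable {G : Type u} [Group G] [Finite G]

/-- `O(G) = 1` in a minimal counterexample -/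
theorem oddCore_eq_bot (k4 : PK4.{u}) (hE : Excl.{u} K4End) (h : MinCex G) : oddCore G = ⊥ := by
  have hs := h.simple
  have hFn : (Fs G).Normal := Trich.normal_fs
  have hOn : (oddCore G).Normal := Lib.Cores.pPrimeCore_normal 2
  have hn : ((oddCore G).subgroupOf (Fs G)).Normal := inferInstance
  rcases hn.eq_bot_or_eq_top with h1 | h1
  · have h2 : Disjoint (oddCore G) (Fs G) := by
      rw [subgroupOf_eq_bot] at h1
      exact h1
    have h3 : oddCore G ≤ centralizer (Fs G : Set G) := by
      intro x hx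
      rw [mem_centralizer_iff]
      intro y hy
      exact (commute_of_normal_of_disjoint _ _ hOn hFn h2 x y hx hy).symm.eq
    rwa [Trich.centralizer_fs h, le_bot_iff] at h3
  · exfalso
    have h2 : Fs G ≤ oddCore G := by
      rwa [subgroupOf_eq_top] at h1
    have h3 : ¬ 2 ∣ Nat.card ↥(Fs G) := by
      intro h4
      have h5 := h4.trans (card_dvd_of_le h2)
      have h6 : (Nat.card (oddCore G)).Coprime 2 := Lib.Cores.pPrimeCore_coprime (G := G) 2
      exact (Nat.Prime.coprime_iff_not_dvd Nat.prime_two).mp h6.symm h5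
    exact rank_fs k4 hE h (GH.Rank.le_mono (by norm_num)
      (GH.Rank.zero_of_not_dvd Nat.prime_two h3) (Nat.zero_le 4))

/-- The Sylow 2-subgroups have a normal elementary abelian subgroup of order at least 8. -/
theorem exists_normal (k4 : PK4.{u}) (hE : Excl.{u} K4End) (h : MinCex G) (S : Sylow 2 G) :
    ∃ A : Subgroup ↥(S : Subgroup G), A.Normal ∧ IsMulCommutative A ∧ (∀ a ∈ A, a ^ 2 = 1) ∧
      8 ≤ Nat.card A := by
  by_contra hno
  refine rank k4 hE h ((GH.Rank.sylow_iff S).mp (S0501.result S.isPGroup' ?_))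
  intro A hA hc h2
  by_contra hlt
  refine hno ⟨A, hA, hc, h2, ?_⟩
  obtain ⟨n, hn⟩ := IsPGroup.iff_card.mp (S.isPGroup'.to_subgroup A)
  rw [hn] at hlt ⊢
  have h3 : 2 < n := by
    by_contra h4
    exact hlt (Nat.pow_le_pow_right (by norm_num) (by omega : n ≤ 2))
  calc 8 = 2 ^ 3 := by norm_num
    _ ≤ 2 ^ n := Nat.pow_le_pow_right (by norm_num) h3

/-- **Node (E)** -/
theorem nodeE (k4 : PK4.{u}) (hE : Excl.{u} K4End) (h1291 : P1291.{u}) : NodeE.{u} := by
  intro G _ _ h
  by_contra hno
  have hbal : IsBalanced G := balanced fun x a L hT => hno ⟨x, a, L, hT⟩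
  obtain ⟨S⟩ : Nonempty (Sylow 2 G) := inferInstance
  obtain ⟨A, hA, hc, h2, h8⟩ := exists_normal k4 hE h S
  have hconn : IsFourConnected ↥(S : Subgroup G) := S0502.result S.isPGroup' A hc h2 h8
  have hrank : ¬ PRankLE 2 2 G := by
    intro hr
    have h3 := hr (A.map (S : Subgroup G).subtype) ?_ ?_
    · rw [card_map_of_injective (S : Subgroup G).subtype_injective] at h3
      omega
    · refine ⟨⟨?_⟩⟩
      rintro ⟨_, a, ha, rfl⟩ ⟨_, b, hb, rfl⟩
      have h4 := congrArg Subtype.val (hc.is_comm.comm ⟨a, ha⟩ ⟨b, hb⟩)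
      exact Subtype.ext (congrArg (S : Subgroup G).subtype h4)
    · rintro _ ⟨a, ha, rfl⟩
      rw [← map_pow, h2 a ha, map_one]
  obtain ⟨t, ht, hne⟩ := h.unbal
  exact hne (h1291 G hbal (oddCore_eq_bot k4 hE h) hrank (Or.inr ⟨S, hconn⟩) t ht)

end Cfsg.Agent.UGT.NodeE
end
end
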