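import Mathlib.GroupTheory.GroupAction.Quotient
import Mathlib.GroupTheory.PGroup
import Mathlib.GroupTheory.Commutator.Basic
import Mathlib.GroupTheory.Abelianization.Defs
import Mathlib.Algebra.Group.Int.Units
import Mathlib.Tactic
import Mathlib
import Cfsg.Agent.ClassTwoFusion.Ess
import Cfsg.Agent.Involutions.NormalFour
import Cfsg.Agent.SporadicA.FieldFour
import Cfsg.Agent.StdL3.HeisCoord
import Cfsg.Agent.StdL3.OuterMat
import Cfsg.Agent.KFacts.MulCov
import Cfsg.Prelude.Def_Involutions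
import Cfsg.Agent.SignalizersComponents.RelSylow
import Cfsg.Agent.Lib.SylowNormalInf
import Cfsg.Agent.StdAlt.Closing
import Cfsg.Agent.Lib.NormalAbelian
import Cfsg.Agent.GH.L2AutF
import Cfsg.Agent.GH.L2AutSyl_m3
import Cfsg.Agent.LieRecognition.FieldSemilinear
import Cfsg.Agent.S0811
import Cfsg.Agent.S0812
import Cfsg.Agent.TwoFusion.SLTwoFacts
import Cfsg.Agent.KFacts.MulDef
import Cfsg.Agent.SporadicB.HePerm.Final
import Cfsg.Agent.FixBN.HeStab
import Cfsg.Agent.StdL34.Inv2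
import Cfsg.Agent.Lib.FinFast
import Cfsg.Agent.UGT.U2.FOne.OrthJ
import Mathlib.GroupTheory.IsSubnormal
import Cfsg.Agent.FastGrp
import Cfsg.Agent.Prune
set_option linter.all false

section
prune_inst 0x7fb8fcfbadf88ddedfff7e7fa6dccffdf8b8bfffb6dff9cbffe06bff0f9f4b0689e5fb8d8fe810fe0ef7621410f87b53f9fec67fe26bdc7ffffd5ff41ffbff9fade7b508519688340fbc0fff03f07f8e7f3fffffffffffffffffffffffffffbeffbdffffffff

-- part: UGT/Parity
section
set_option linter.all false
open scoped Cfsg.Agent.FastGrp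

/-!
# Parity on a `G`-set with signs

`G` finite without normal subgroup of index 2, `Ω` a transitive finite `G`-set, `ev ω` an equivariant "parity" on the
stabilizer of `ω`. For every involution `x` of `G` the number of points fixed by `x` on which `x` is odd
is even; the same for those fixed by a 2-subgroup `T ≤ C(x)`.
-/

set_option autoImplicit false

open Subgroup MulAction

namespace Cfsg.Agent.UGT.Parity

variable {G Ω : Type*} [Group G] [MulAction G Ω]

/-- a group without homomorphisms onto `{1, -1}` -/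
def NoSign (G : Type*) [Group G] : Prop := ∀ f : G →* ℤˣ, f = 1

theorem noSign_of_perfect (h : commutator G = ⊤) : NoSign G := by
  intro f
  have h1 : commutator G ≤ f.ker := by
    rw [commutator_def]
    exact Abelianization.commutator_subset_ker f
  rw [h] at h1
  ext g
  have := h1 (mem_top g)
  rw [MonoidHom.mem_ker] at this
  rw [this]
  rfl

/-- A parity: for every point a two-valued character of its stabilizer, equivariantly. -/
structure IsParity (ev : Ω → G → Prop) : Prop where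
  mul : ∀ (ω : Ω) (g h : G), g • ω = ω → h • ω = ω → (ev ω (g * h) ↔ (ev ω g ↔ ev ω h))
  conj : ∀ (ω : Ω) (g h : G), h • ω = ω → (ev (g • ω) (g * h * g⁻¹) ↔ ev ω h)

open Classical in
/-- the sign of a parity -/
noncomputable def sgn (ev : Ω → G → Prop) (ω : Ω) (g : G) : ℤˣ := if ev ω g then 1 else -1

theorem IsParity.sgn_mul {ev : Ω → G → Prop} (h : IsParity ev) {ω : Ω} {g k : G} (hg : g • ω = ω)
    (hk : k • ω = ω) : sgn ev ω (g * k) = sgn ev ω g * sgn ev ω k := by
  have h1 := h.mul ω g k hg hk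
  unfold sgn
  by_cases h2 : ev ω g <;> by_cases h3 : ev ω k <;> simp_all

theorem IsParity.sgn_conj {ev : Ω → G → Prop} (h : IsParity ev) {ω : Ω} (g : G) {k : G}
    (hk : k • ω = ω) : sgn ev (g • ω) (g * k * g⁻¹) = sgn ev ω k := by
  have h1 := h.conj ω g k hk
  unfold sgn
  by_cases h2 : ev ω k <;> simp_all

theorem IsParity.sgn_one {ev : Ω → G → Prop} (h : IsParity ev) (ω : Ω) : sgn ev ω 1 = 1 := by
  have h1 := h.sgn_mul (one_smul G ω) (one_smul G ω)
  rw [mul_one] at h1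
  exact (mul_eq_left.mp h1.symm)

/-- **PAR**: the sign character of `G` attached to a parity. -/
theorem exists_hom [Finite Ω] {ev : Ω → G → Prop} (h : IsParity ev) :
    ∃ f : G →* ℤˣ, ∀ x : G, x * x = 1 →
      f x = (-1) ^ (Nat.card {ω : Ω // x • ω = ω ∧ ¬ ev ω x}) := by
  classical
  cases nonempty_fintype Ω
  -- base points of the orbits
  let base : Ω → Ω := fun ω => (Quotient.mk (orbitRel G Ω) ω).out
  have hbase : ∀ (g : G) (ω : Ω), base (g • ω) = base ω := by
    intro g ω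
    have : (Quotient.mk (orbitRel G Ω) (g • ω)) = Quotient.mk (orbitRel G Ω) ω :=
      Quotient.sound ⟨g, rfl⟩
    change (Quotient.mk (orbitRel G Ω) (g • ω)).out = (Quotient.mk (orbitRel G Ω) ω).out
    rw [this]
  have hmem : ∀ ω : Ω, ∃ g : G, g • base ω = ω := by
    intro ω
    have h1 : (orbitRel G Ω).r ω (base ω) :=
      Quotient.exact (Quotient.out_eq (Quotient.mk (orbitRel G Ω) ω)).symm
    exact h1
  choose s hs using hmem
  -- the cocycle
  let c : G → Ω → G := fun g ω => (s (g • ω))⁻¹ * g * s ω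
  have hc : ∀ g ω, c g ω • base ω = base ω := by
    intro g ω
    change ((s (g • ω))⁻¹ * g * s ω) • base ω = base ω
    have h1 : s (g • ω) • base ω = g • ω := by
      have := hs (g • ω)
      rwa [hbase] at this
    rw [mul_smul, mul_smul, hs, inv_smul_eq_iff, h1]
  have hcm : ∀ (g k : G) (ω : Ω), c (g * k) ω = c g (k • ω) * c k ω := by
    intro g k ω
    change (s ((g * k) • ω))⁻¹ * (g * k) * s ω =
      (s (g • k • ω))⁻¹ * g * s (k • ω) * ((s (k • ω))⁻¹ * k * s ω)
    rw [mul_smul]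
    group
  have hc1 : ∀ ω, c 1 ω = 1 := by
    intro ω
    change (s ((1 : G) • ω))⁻¹ * 1 * s ω = 1
    rw [one_smul, mul_one, inv_mul_cancel]
  have hc' : ∀ (g k : G) (ω : Ω), c g (k • ω) • base ω = base ω := by
    intro g k ω
    have := hc g (k • ω)
    rwa [hbase] at this
  let f : G →* ℤˣ :=
    { toFun := fun g => ∏ ω : Ω, sgn ev (base ω) (c g ω)
      map_one' := by
        refine Finset.prod_eq_one fun ω _ => ?_
        rw [hc1, h.sgn_one]
      map_mul' := by
        intro g k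
        have h1 : ∀ ω : Ω, sgn ev (base ω) (c (g * k) ω) =
            sgn ev (base (k • ω)) (c g (k • ω)) * sgn ev (base ω) (c k ω) := by
          intro ω
          rw [hcm, h.sgn_mul (hc' _ _ _) (hc _ _), hbase]
        simp only [h1]
        rw [Finset.prod_mul_distrib]
        congr 1
        exact Equiv.prod_comp (MulAction.toPerm k) fun ω : Ω => sgn ev (base ω) (c g ω) }
  refine ⟨f, fun x hx => ?_⟩
  change ∏ ω : Ω, sgn ev (base ω) (c x ω) = _
  -- split into fixed points and the others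
  have hsplit := Finset.prod_filter_mul_prod_filter_not (Finset.univ : Finset Ω)
    (fun ω => x • ω = ω) (fun ω => sgn ev (base ω) (c x ω))
  have h2 : ∏ ω ∈ Finset.univ.filter (fun ω : Ω => ¬ x • ω = ω),
      sgn ev (base ω) (c x ω) = 1 := by
    refine Finset.prod_involution (fun ω _ => x • ω) ?_ ?_ ?_ ?_
    · intro ω _
      rw [mul_comm, hbase, ← h.sgn_mul (hc' _ _ _) (hc _ _), ← hcm, hx, hc1, h.sgn_one]
    · intro ω hω _
      exact (Finset.mem_filter.mp hω).2
    · intro ω hω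
      rw [Finset.mem_filter] at hω ⊢
      refine ⟨Finset.mem_univ _, fun h3 => hω.2 ?_⟩
      have := congrArg (x • ·) h3
      simp only [← mul_smul, hx, one_smul] at this
      exact this
    · intro ω _
      rw [← mul_smul, hx, one_smul]
  rw [h2, mul_one] at hsplit
  rw [← hsplit]
  have h3 : ∀ ω ∈ Finset.univ.filter (fun ω : Ω => x • ω = ω),
      sgn ev (base ω) (c x ω) = sgn ev ω x := by
    intro ω hω
    have hfix := (Finset.mem_filter.mp hω).2
    have h4 : c x ω = (s ω)⁻¹ * x * (s ω)⁻¹⁻¹ := by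
      change (s (x • ω))⁻¹ * x * s ω = _
      rw [hfix, inv_inv]
    have h5 : base ω = (s ω)⁻¹ • ω := by rw [eq_inv_smul_iff, hs]
    rw [h4]
    conv_lhs => rw [h5]
    exact h.sgn_conj (s ω)⁻¹ hfix
  rw [Finset.prod_congr rfl h3]
  -- count the signs
  have h7 : (Finset.univ.filter (fun ω : Ω => x • ω = ω ∧ ¬ ev ω x)) =
      (Finset.univ.filter (fun ω : Ω => x • ω = ω)).filter (fun ω => ¬ ev ω x) := by
    rw [Finset.filter_filter]
  have h8 : ∏ ω ∈ Finset.univ.filter (fun ω : Ω => x • ω = ω), sgn ev ω x =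
      ∏ ω ∈ Finset.univ.filter (fun ω : Ω => x • ω = ω), if ¬ ev ω x then (-1 : ℤˣ) else 1 := by
    refine Finset.prod_congr rfl fun ω _ => ?_
    unfold sgn
    by_cases h8 : ev ω x <;> simp [h8]
  rw [Nat.card_eq_fintype_card, Fintype.card_subtype, h7, ← Finset.prod_const, h8,
    ← Finset.prod_filter]

/-- **PAR**: if `G` has no subgroup of index 2, an involution is odd on an even number of its fixed points. -/
theorem even_card [Finite Ω] (hG : NoSign G) {ev : Ω → G → Prop}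
    (h : IsParity ev) {x : G} (hx : x * x = 1) :
    Even (Nat.card {ω : Ω // x • ω = ω ∧ ¬ ev ω x}) := by
  obtain ⟨f, hf⟩ := exists_hom h
  have h1 := hf x hx
  rw [hG f, MonoidHom.one_apply] at h1
  by_contra hodd
  rw [Nat.not_even_iff_odd] at hodd
  rw [hodd.neg_one_pow] at h1
  exact absurd h1 (by decide)

/-- the points fixed by a 2-subgroup `T ≤ C(x)` on which `x` is odd -/
theorem card_modEq [Finite Ω] {ev : Ω → G → Prop}
    (h : IsParity ev) {x : G} {T : Subgroup G} (hT : IsPGroup 2 ↥T)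
    (hTx : T ≤ centralizer ({x} : Set G)) :
    Nat.card {ω : Ω // x • ω = ω ∧ ¬ ev ω x} ≡
      Nat.card {ω : Ω // (x • ω = ω ∧ ¬ ev ω x) ∧ ∀ t ∈ T, t • ω = ω} [MOD 2] := by
  classical
  have hp : Fact (Nat.Prime 2) := ⟨Nat.prime_two⟩
  have hstab : ∀ (t : ↥T) (ω : Ω), (x • ω = ω ∧ ¬ ev ω x) →
      (x • (t : G) • ω = (t : G) • ω ∧ ¬ ev ((t : G) • ω) x) := by
    rintro ⟨t, ht⟩ ω ⟨h1, h2⟩
    have h3 : t * x = x * t := mem_centralizer_singleton_iff.mp (hTx ht)
    refine ⟨?_, fun h4 => h2 ?_⟩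
    · change x • t • ω = t • ω
      rw [← mul_smul, ← h3, mul_smul, h1]
    · have h5 : x = t * x * t⁻¹ := by rw [h3]; group
      have h6 : ev (t • ω) (t * x * t⁻¹) := h5 ▸ h4
      exact (h.conj ω t x h1).mp h6
  let S := {ω : Ω // x • ω = ω ∧ ¬ ev ω x}
  let _ : MulAction ↥T S :=
    { smul := fun t ω => ⟨(t : G) • ω.1, hstab t ω.1 ω.2⟩
      one_smul := fun ω => Subtype.ext (one_smul G ω.1)
      mul_smul := fun s t ω => Subtype.ext (mul_smul (s : G) (t : G) ω.1) }
  have h1 : Nat.card S ≡ Nat.card (MulAction.fixedPoints ↥T S) [MOD 2] :=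
    hT.card_modEq_card_fixedPoints S
  have e : MulAction.fixedPoints ↥T S ≃
      {ω : Ω // (x • ω = ω ∧ ¬ ev ω x) ∧ ∀ t ∈ T, t • ω = ω} :=
    { toFun := fun ω => ⟨ω.1.1, ω.1.2, fun t ht => congrArg Subtype.val (ω.2 ⟨t, ht⟩)⟩
      invFun := fun ω => ⟨⟨ω.1, ω.2.1⟩, fun t => Subtype.ext (ω.2.2 t t.2)⟩
      left_inv := fun _ => rfl
      right_inv := fun _ => rfl }
  rwa [Nat.card_congr e] at h1

/-- the sign character of a parity, computed with the points fixed by a 2-subgroup `T ≤ C(x)` -/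
theorem exists_hom_fixed [Finite Ω] {ev : Ω → G → Prop} (h : IsParity ev) :
    ∃ f : G →* ℤˣ, ∀ (x : G) (T : Subgroup G), x * x = 1 → IsPGroup 2 ↥T →
      T ≤ centralizer ({x} : Set G) →
      f x = (-1) ^ (Nat.card {ω : Ω // (x • ω = ω ∧ ¬ ev ω x) ∧ ∀ t ∈ T, t • ω = ω}) := by
  obtain ⟨f, hf⟩ := exists_hom h
  refine ⟨f, fun x T hx hT hTx => ?_⟩
  rw [hf x hx]
  have h1 := card_modEq h hT hTx
  rcases Nat.even_or_odd (Nat.card {ω : Ω // x • ω = ω ∧ ¬ ev ω x}) with h2 | h2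
  · have h3 : Even (Nat.card {ω : Ω // (x • ω = ω ∧ ¬ ev ω x) ∧ ∀ t ∈ T, t • ω = ω}) := by
      rw [Nat.even_iff] at h2 ⊢
      rw [← h2]; exact h1.symm
    rw [h2.neg_one_pow, h3.neg_one_pow]
  · have h3 : Odd (Nat.card {ω : Ω // (x • ω = ω ∧ ¬ ev ω x) ∧ ∀ t ∈ T, t • ω = ω}) := by
      rw [Nat.odd_iff] at h2 ⊢
      rw [← h2]; exact h1.symm
    rw [h2.neg_one_pow, h3.neg_one_pow]

/-- **PAR**: the points fixed by a 2-subgroup `T ≤ C(x)`. -/
theorem even_card_fixed [Finite Ω] (hG : NoSign G) {ev : Ω → G → Prop}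
    (h : IsParity ev) {x : G} (hx : x * x = 1) {T : Subgroup G} (hT : IsPGroup 2 ↥T)
    (hTx : T ≤ centralizer ({x} : Set G)) :
    Even (Nat.card {ω : Ω // (x • ω = ω ∧ ¬ ev ω x) ∧ ∀ t ∈ T, t • ω = ω}) := by
  have h2 := even_card hG h hx
  rw [Nat.even_iff] at h2 ⊢
  rw [← h2]
  exact (card_modEq h hT hTx).symm

/-- a point fixed by `T` on which `x` is odd is never alone -/
theorem exists_ne [Finite Ω] (hG : NoSign G) {ev : Ω → G → Prop}
    (h : IsParity ev) {x : G} (hx : x * x = 1) {T : Subgroup G} (hT : IsPGroup 2 ↥T)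
    (hTx : T ≤ centralizer ({x} : Set G)) {ω : Ω} (h1 : x • ω = ω) (h2 : ¬ ev ω x)
    (h3 : ∀ t ∈ T, t • ω = ω) :
    ∃ ω' : Ω, ω' ≠ ω ∧ x • ω' = ω' ∧ ¬ ev ω' x ∧ ∀ t ∈ T, t • ω' = ω' := by
  by_contra hno
  push Not at hno
  have h4 := even_card_fixed hG h hx hT hTx
  have h5 : Nat.card {ω : Ω // (x • ω = ω ∧ ¬ ev ω x) ∧ ∀ t ∈ T, t • ω = ω} = 1 := by
    rw [Nat.card_eq_one_iff_unique]
    refine ⟨⟨fun a b => Subtype.ext ?_⟩, ⟨⟨ω, ⟨h1, h2⟩, h3⟩⟩⟩
    have key : ∀ c : {ω : Ω // (x • ω = ω ∧ ¬ ev ω x) ∧ ∀ t ∈ T, t • ω = ω}, c.1 = ω := by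
      rintro ⟨c, ⟨hc1, hc2⟩, hc3⟩
      by_contra hne
      obtain ⟨t, ht, htc⟩ := hno c hne hc1 hc2
      exact htc (hc3 t ht)
    rw [key a, key b]
  rw [h5] at h4
  exact absurd h4 (by decide)

/-! ### the orbit of a point -/

/-- a parity restricted to an orbit -/
theorem IsParity.orbit {ev : Ω → G → Prop} (h : IsParity ev) (ω₀ : Ω) :
    IsParity (Ω := MulAction.orbit G ω₀) (fun ω g => ev ω.1 g) := by
  constructor
  · intro ω g k hg hk
    exact h.mul ω.1 g k (congrArg Subtype.val hg) (congrArg Subtype.val hk)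
  · intro ω g k hk
    exact h.conj ω.1 g k (congrArg Subtype.val hk)

/-- **PAR** for an orbit in an arbitrary `G`-set: a point fixed by `T` on which `x` is odd is never alone
in its orbit. -/
theorem exists_ne_orbit [Finite G] (hG : NoSign G) {ev : Ω → G → Prop}
    (h : IsParity ev) {x : G} (hx : x * x = 1) {T : Subgroup G} (hT : IsPGroup 2 ↥T)
    (hTx : T ≤ centralizer ({x} : Set G)) {ω : Ω} (h1 : x • ω = ω) (h2 : ¬ ev ω x)
    (h3 : ∀ t ∈ T, t • ω = ω) :
    ∃ g : G, g • ω ≠ ω ∧ x • g • ω = g • ω ∧ ¬ ev (g • ω) x ∧ ∀ t ∈ T, t • g • ω = g • ω := by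
  have hfin : Finite (MulAction.orbit G ω) := (Set.finite_range (fun g : G => g • ω)).to_subtype
  obtain ⟨⟨ω', g, rfl⟩, h4, h5, h6, h7⟩ := exists_ne (Ω := MulAction.orbit G ω) hG (h.orbit ω) hx hT hTx
    (ω := ⟨ω, mem_orbit_self ω⟩) (Subtype.ext h1) h2 (fun t ht => Subtype.ext (h3 t ht))
  exact ⟨g, fun h => h4 (Subtype.ext h), congrArg Subtype.val h5, h6,
    fun t ht => congrArg Subtype.val (h7 t ht)⟩

end Cfsg.Agent.UGT.Parity
end

-- part: OddHalf/D3/Fus
section
prune_inst 0x4502001200700120000000592110020547400049000630001d9400f0602069760000227004ca01e10080aa20000000040000000d000100000200004004000052180aa52049348a10407000f80b007180c00000000000000000000000000041004200000000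
set_option linter.all false
open scoped Cfsg.Agent.FastGrp

-- part: OddHalf/D3/EssSE
section
/-!
# Essential subgroups: the strongly embedded subgroup of the automizer, transvections

`X` essential in the Sylow `p`-subgroup `S` of `G`, `M₀ = starSub S X`:
* `mem_star_of_map_le`: `X < Q ≤ S`, `k ∈ N(X)`, `Q ≤ N(X)`, `Q^k ≤ S` imply `k ∈ M₀`;
* `mem_star_of_mem`: a subgroup of `N(X)` acting on `X` as a `p`-group does not contain elements `u ∈ S - X` and
  `m v m⁻¹`, `v ∈ S - X`, with `m ∈ N(X) - M₀`;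
* `Tr.mem_star`: transvections.
-/

set_option autoImplicit false
set_option linter.style.haveILetI false
set_option linter.unusedVariables false

namespace Cfsg.Agent.OddHalf.D3.EssSE

open Subgroup Cfsg.Agent.Lib.GoldschmidtFusion Cfsg.Agent.ClassTwoFusion.Ess

variable {G : Type*} [Group G]

section Gen

variable [Finite G] {p : ℕ} [hp : Fact p.Prime]

/-- `M₀` controls the fusion of the subgroups `Q > X`. -/
theorem mem_star_of_map_le {S : Sylow p G} {X : Subgroup G} (hX : IsEss p (S : Subgroup G) X) :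
    ∀ (n : ℕ) (Q : Subgroup G), Nat.card (S : Subgroup G) ≤ Nat.card Q + n → X < Q → Q ≤ S →
      Q ≤ normalizer (X : Set G) → ∀ k ∈ normalizer (X : Set G),
      Q.map (MulAut.conj k).toMonoidHom ≤ S → k ∈ starSub (S : Subgroup G) X := by
  intro n
  induction n using Nat.strong_induction_on with
  | _ n ih =>
    intro Q hcard hXQ hQS hQN k hk hQk
    set N : Subgroup G := normalizer (X : Set G) with hN
    set P : Subgroup G := (S : Subgroup G) ⊓ N with hP
    have hSp : IsPGroup p (S : Subgroup G) := S.isPGroup'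
    have hPp : IsPGroup p P := hSp.to_le inf_le_left
    have hQP : Q ≤ P := le_inf hQS hQN
    have hQkN : Q.map (MulAut.conj k).toMonoidHom ≤ N := by
      rintro _ ⟨q, hq, rfl⟩
      exact mul_mem (mul_mem hk (hQN hq)) (inv_mem hk)
    have hQkP : Q.map (MulAut.conj k).toMonoidHom ≤ P := le_inf hQk hQkN
    have hstarN : ∀ Q' : Subgroup G, X < Q' → Q' ≤ S → N ⊓ normalizer (Q' : Set G) ≤
        starSub (S : Subgroup G) X := fun Q' h1 h2 => inf_normalizer_le_starSub h1 h2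
    by_cases hQeq : Q = P
    · have h1 : Q.map (MulAut.conj k).toMonoidHom = Q := by
        refine map_conj_le_of_le_normalizer ?_
        calc Q.map (MulAut.conj k).toMonoidHom ≤ P := hQkP
          _ = Q := hQeq.symm
      exact hstarN Q hXQ hQS ⟨hk, mem_normalizer_iff_map_conj.2 h1⟩
    have hQltP : Q < P := lt_of_le_of_ne hQP hQeq
    set P' : Subgroup G := P.map (MulAut.conj k⁻¹).toMonoidHom with hP'
    have hP'p : IsPGroup p P' := hPp.map _
    have hQP' : Q ≤ P' := by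
      have h1 := map_conj_mono hQkP k⁻¹
      rw [map_conj_map_conj, inv_mul_cancel, map_conj_one] at h1
      exact h1
    have hQltP' : Q < P' := by
      refine lt_of_le_of_ne hQP' fun h1 => ?_
      have h2 : Nat.card Q = Nat.card P := by
        rw [h1, hP', card_map_conj]
      exact hQltP.ne (Subgroup.eq_of_le_of_card_ge hQP h2.ge)
    have hT1 := lt_inf_normalizer hPp hQltP
    have hT2 := lt_inf_normalizer hP'p hQltP'
    set T1 : Subgroup G := P ⊓ normalizer (Q : Set G) with hT1d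
    set T2 : Subgroup G := P' ⊓ normalizer (Q : Set G) with hT2d
    have hP'N : P' ≤ N := by
      rintro _ ⟨q, hq, rfl⟩
      exact mul_mem (mul_mem (inv_mem hk) hq.2) (inv_mem (inv_mem hk))
    have hT1N : T1 ≤ N ⊓ normalizer (Q : Set G) := inf_le_inf_right _ inf_le_right
    have hT2N : T2 ≤ N ⊓ normalizer (Q : Set G) := inf_le_inf_right _ hP'N
    obtain ⟨R, hR1, hR2, hR3, hR4⟩ := exists_sylow_in (p := p) hT1N (hPp.to_le inf_le_left)
    obtain ⟨b, hb, hbR⟩ := exists_conj_le_in (p := p) hR3 hR4 hT2N (hP'p.to_le inf_le_left)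
    obtain ⟨a, ha, haP⟩ := exists_conj_le_in (p := p) hPp hX.fully (hR2.trans inf_le_left) hR3
    have hlt : ∀ Q' : Subgroup G, Nat.card Q < Nat.card Q' → Q' ≤ S → ∃ n' < n,
        Nat.card (S : Subgroup G) ≤ Nat.card Q' + n' := by
      intro Q' h1 h2
      have h3 : Nat.card Q' ≤ Nat.card (S : Subgroup G) := Subgroup.card_le_of_le h2
      refine ⟨Nat.card (S : Subgroup G) - Nat.card Q', ?_, by omega⟩
      omega
    have hcT1 : Nat.card Q < Nat.card T1 := by
      exact Set.ncard_lt_ncard (by exact_mod_cast hT1) (Set.toFinite _)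
    have hcT2 : Nat.card Q < Nat.card T2 := by
      exact Set.ncard_lt_ncard (by exact_mod_cast hT2) (Set.toFinite _)
    -- a ∈ M₀
    have haM : a ∈ starSub (S : Subgroup G) X := by
      have hT1S : T1 ≤ S := inf_le_left.trans inf_le_left
      obtain ⟨n', hn', hc'⟩ := hlt T1 hcT1 hT1S
      exact ih n' hn' T1 hc' (hXQ.trans hT1) hT1S (hT1N.trans inf_le_left) a ha
        ((map_conj_mono hR1 a).trans (haP.trans inf_le_left))
    have hbM : b ∈ starSub (S : Subgroup G) X := hstarN Q hXQ hQS hb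
    -- the conjugate of T2
    set Q' : Subgroup G := T2.map (MulAut.conj k).toMonoidHom with hQ'
    have hQ'P : Q' ≤ P := by
      have h1 := map_conj_mono (inf_le_left : T2 ≤ P') k
      rw [hP', map_conj_map_conj, mul_inv_cancel, map_conj_one] at h1
      exact h1
    have hcQ' : Nat.card Q' = Nat.card T2 := card_map_conj _ _
    have hXQ' : X < Q' := by
      refine lt_of_le_of_ne ?_ fun h1 => ?_
      · have h1 := map_conj_mono (hXQ.le.trans hT2.le) k
        rwa [mem_normalizer_iff_map_conj.1 hk] at h1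
      · have h2 : Nat.card X < Nat.card Q := by
          exact Set.ncard_lt_ncard (by exact_mod_cast hXQ) (Set.toFinite _)
        rw [← h1] at hcQ'
        omega
    have hfin : a * b * k⁻¹ ∈ starSub (S : Subgroup G) X := by
      obtain ⟨n', hn', hc'⟩ := hlt Q' (by omega) (hQ'P.trans inf_le_left)
      refine ih n' hn' Q' hc' hXQ' (hQ'P.trans inf_le_left) (hQ'P.trans inf_le_right) (a * b * k⁻¹)
        (mul_mem (mul_mem ha hb.1) (inv_mem hk)) ?_
      rw [hQ', map_conj_map_conj]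
      have e : a * b * k⁻¹ * k = a * b := by group
      rw [e, ← map_conj_map_conj]
      exact (map_conj_mono hbR a).trans (haP.trans inf_le_left)
    have h5 := mul_mem (inv_mem hfin) (mul_mem haM hbM)
    have e : (a * b * k⁻¹)⁻¹ * (a * b) = k := by group
    rwa [e] at h5

/-- conjugation by the part acting trivially -/
theorem exists_conj_centralizer {X Y R Q : Subgroup G} (hXN : Y ≤ normalizer (X : Set G))
    (hYC : ∀ y ∈ Y, ∃ n : ℕ, y ^ p ^ n ∈ centralizer (X : Set G)) (hRY : R ≤ Y) (hR : IsPGroup p R)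
    (hRi : ¬ p ∣ R.relIndex Y) (hQY : Q ≤ Y) (hQ : IsPGroup p Q) :
    ∃ c ∈ centralizer (X : Set G), c ∈ Y ∧ Q.map (MulAut.conj c).toMonoidHom ≤ R := by
  obtain ⟨g, hg, hgR⟩ := exists_conj_le_in (p := p) hR hRi hQY hQ
  set C : Subgroup Y := (centralizer (X : Set G)).subgroupOf Y with hC
  haveI hCn : C.Normal := by
    refine ⟨fun c hc y => ?_⟩
    rw [hC, mem_subgroupOf] at hc ⊢
    have hy := hXN y.2
    rw [mem_centralizer_iff] at hc ⊢
    intro x hx
    have h1 : (y : G)⁻¹ * x * y ∈ X := (mem_normalizer_iff''.1 hy x).1 hx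
    have h2 := hc _ h1
    have h3 := congrArg (fun t => (y : G) * t * (y : G)⁻¹) h2
    simpa only [mul_assoc, _root_.Subgroup.coe_mul, _root_.InvMemClass.coe_inv, _root_.mul_inv_cancel_left, _root_.mul_inv_cancel, _root_.mul_one] using h3
  have h1 : IsPGroup p (Y ⧸ C) := by
    intro q
    obtain ⟨y, rfl⟩ := QuotientGroup.mk_surjective q
    obtain ⟨n, hn⟩ := hYC y y.2
    refine ⟨n, ?_⟩
    rw [← QuotientGroup.mk_pow, QuotientGroup.eq_one_iff, hC, mem_subgroupOf]
    simpa using hn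
  have h2 : R.subgroupOf Y ⊔ C = ⊤ := by
    rw [← Subgroup.index_eq_one]
    obtain ⟨k, hk⟩ := IsPGroup.iff_card.1 h1
    have h3 : (R.subgroupOf Y ⊔ C).index ∣ p ^ k := by
      have h4 := Subgroup.index_dvd_of_le (le_sup_right : C ≤ R.subgroupOf Y ⊔ C)
      have h5 : C.index = p ^ k := hk
      rwa [h5] at h4
    have h4 : (R.subgroupOf Y ⊔ C).index ∣ (R.subgroupOf Y).index :=
      Subgroup.index_dvd_of_le le_sup_left
    obtain ⟨j, -, hj⟩ := (Nat.dvd_prime_pow hp.1).1 h3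
    rw [hj]
    rcases Nat.eq_zero_or_pos j with hj0 | hj0
    · rw [hj0, pow_zero]
    · exfalso
      apply hRi
      refine dvd_trans ?_ (hj ▸ h4)
      exact dvd_pow_self p hj0.ne'
  have h3 : (⟨g, hg⟩ : Y) ∈ R.subgroupOf Y ⊔ C := by rw [h2]; exact mem_top _
  rw [Subgroup.mem_sup_of_normal_right] at h3
  obtain ⟨r, hr, c, hc, hrc⟩ := h3
  refine ⟨c, hc, c.2, ?_⟩
  have e : (c : G) = (r : G)⁻¹ * g := by
    have := congrArg Subtype.val hrc
    simp only [Subgroup.coe_mul] at this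
    rw [← this]; group
  rw [e, ← map_conj_map_conj]
  refine (map_conj_mono hgR _).trans ?_
  rintro _ ⟨x, hx, rfl⟩
  have hr' : (r : G) ∈ R := hr
  exact mul_mem (mul_mem (inv_mem hr') hx) (inv_mem (inv_mem hr'))

/-- The subgroup `M₀` is strongly embedded modulo `X C(X)`. -/
theorem mem_star_of_mem {S : Sylow p G} {X : Subgroup G} (hX : IsEss p (S : Subgroup G) X) {Y : Subgroup G}
    (hYN : Y ≤ normalizer (X : Set G)) (hXY : X ≤ Y)
    (hYC : ∀ y ∈ Y, ∃ n : ℕ, y ^ p ^ n ∈ centralizer (X : Set G)) {u v m : G} (hu : u ∈ S) (huX : u ∉ X)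
    (huY : u ∈ Y) (hv : v ∈ S) (hvX : v ∉ X) (hvN : v ∈ normalizer (X : Set G))
    (hm : m ∈ normalizer (X : Set G)) (hmv : m * v * m⁻¹ ∈ Y) : m ∈ starSub (S : Subgroup G) X := by
  have hSp : IsPGroup p (S : Subgroup G) := S.isPGroup'
  have hXS : X ≤ S := hX.lt.le
  obtain ⟨R, hR1, hR2, hR3, hR4⟩ := exists_sylow_in (p := p) hXY (hSp.to_le hXS)
  obtain ⟨a, ha, haP⟩ := exists_conj_le_in (p := p) (hSp.to_le inf_le_left) hX.fully (hR2.trans hYN) hR3
  have key : ∀ (w k : G), w ∈ S → w ∉ X → w ∈ normalizer (X : Set G) → k ∈ normalizer (X : Set G) →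
      k * w * k⁻¹ ∈ Y → ∃ c ∈ centralizer (X : Set G), a * c * k ∈ starSub (S : Subgroup G) X := by
    intro w k hw hwX hwN hk hkw
    set Q : Subgroup G := X ⊔ zpowers w with hQ
    have hQS : Q ≤ S := sup_le hXS (by rw [zpowers_le]; exact hw)
    have hQN : Q ≤ normalizer (X : Set G) := sup_le le_normalizer (by rw [zpowers_le]; exact hwN)
    have hXQ : X < Q := by
      refine lt_of_le_of_ne le_sup_left fun h1 => hwX ?_
      rw [h1]; exact mem_sup_right (mem_zpowers w)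
    have hQk : Q.map (MulAut.conj k).toMonoidHom ≤ Y := by
      rw [hQ, Subgroup.map_sup, mem_normalizer_iff_map_conj.1 hk]
      refine sup_le hXY ?_
      rw [MonoidHom.map_zpowers, zpowers_le]
      exact hkw
    have hQkp : IsPGroup p (Q.map (MulAut.conj k).toMonoidHom : Subgroup G) := (hSp.to_le hQS).map _
    obtain ⟨c, hc, hcY, hcR⟩ := exists_conj_centralizer hYN hYC hR2 hR3 hR4 hQk hQkp
    refine ⟨c, hc, mem_star_of_map_le hX (Nat.card (S : Subgroup G)) Q (by omega) hXQ hQS hQN (a * c * k)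
      (mul_mem (mul_mem ha (centralizer_le_normalizer _ hc)) hk) ?_⟩
    have h1 := map_conj_mono hcR a
    rw [map_conj_map_conj, map_conj_map_conj] at h1
    exact h1.trans (haP.trans inf_le_left)
  obtain ⟨c1, hc1, h1⟩ := key u 1 hu huX (hYN huY) (one_mem _) (by simpa using huY)
  obtain ⟨c2, hc2, h2⟩ := key v m hv hvX hvN hm hmv
  have hcs : ∀ c ∈ centralizer (X : Set G), c ∈ starSub (S : Subgroup G) X := fun c hc =>
    centralizer_le_starSub _ _ hc
  have h3 := mul_mem (mul_mem (inv_mem (hcs _ hc2)) (hcs _ hc1)) (mul_mem (inv_mem h1) h2)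
  have e : c2⁻¹ * c1 * ((a * c1 * 1)⁻¹ * (a * c2 * m)) = m := by group
  rwa [e] at h3

end Gen

/-! ### groups acting as 2-groups -/

/-- if `K` acts as a `p`-group and the `p`-group `X` normalises `K`, then `K X` acts as a `p`-group. -/
theorem exists_pow_of_sup {p : ℕ} [hp : Fact p.Prime] {X K : Subgroup G} (hX : IsPGroup p X)
    (hKN : K ≤ normalizer (X : Set G)) (hKC : ∀ k ∈ K, ∃ n : ℕ, k ^ p ^ n ∈ centralizer (X : Set G))
    (hXK : ∀ x ∈ X, ∀ k ∈ K, x * k * x⁻¹ ∈ K) :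
    ∀ y ∈ (K ⊔ X : Subgroup G), ∃ n : ℕ, y ^ p ^ n ∈ centralizer (X : Set G) := by
  set N : Subgroup G := normalizer (X : Set G) with hN
  have hXN : X ≤ N := le_normalizer
  set φ : ↥N →* MulAut ↥X := X.normalizerMonoidHom with hφ
  have hker : ∀ y : ↥N, φ y = 1 ↔ (y : G) ∈ centralizer (X : Set G) := by
    intro y
    rw [← MonoidHom.mem_ker, hφ, Subgroup.normalizerMonoidHom_ker, mem_subgroupOf]
  have hA : IsPGroup p ((K.subgroupOf N).map φ : Subgroup (MulAut ↥X)) := by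
    rintro ⟨_, ⟨k, hk, rfl⟩⟩
    obtain ⟨n, hn⟩ := hKC k hk
    refine ⟨n, ?_⟩
    apply Subtype.ext
    change (φ k) ^ p ^ n = 1
    rw [← map_pow, hker]
    simpa using hn
  have hB : IsPGroup p ((X.subgroupOf N).map φ : Subgroup (MulAut ↥X)) :=
    (hX.comap_of_injective N.subtype N.subtype_injective).map _
  have hBN : (X.subgroupOf N).map φ ≤ normalizer (((K.subgroupOf N).map φ : Subgroup (MulAut ↥X)) : Set (MulAut ↥X)) := by
    rintro _ ⟨x, hx, rfl⟩
    have h1 : ∀ z : ↥N, (z : G) ∈ X → ∀ w ∈ (K.subgroupOf N).map φ, φ z * w * (φ z)⁻¹ ∈ (K.subgroupOf N).map φ := by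
      rintro z hz _ ⟨k, hk, rfl⟩
      exact ⟨z * k * z⁻¹, hXK z hz k hk, by simp only [_root_.map_mul, _root_.map_inv]⟩
    rw [mem_normalizer_iff]
    intro w
    refine ⟨fun hw => h1 x hx w hw, fun hw => ?_⟩
    have hx' : ((x⁻¹ : ↥N) : G) ∈ X := X.inv_mem hx
    have h2 := h1 x⁻¹ hx' _ hw
    have e : φ x⁻¹ * (φ x * w * (φ x)⁻¹) * (φ x⁻¹)⁻¹ = w := by
      rw [map_inv]; group
    rwa [e] at h2
  have hAB : IsPGroup p ((K.subgroupOf N).map φ ⊔ (X.subgroupOf N).map φ : Subgroup (MulAut ↥X)) :=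
    hA.to_sup_of_normal_left' hB hBN
  intro y hy
  have hyN : y ∈ N := (sup_le hKN hXN) hy
  have h1 : φ ⟨y, hyN⟩ ∈ (K.subgroupOf N).map φ ⊔ (X.subgroupOf N).map φ := by
    rw [← Subgroup.map_sup, ← Subgroup.subgroupOf_sup hKN hXN]
    exact ⟨⟨y, hyN⟩, hy, rfl⟩
  obtain ⟨n, hn⟩ := hAB ⟨_, h1⟩
  refine ⟨n, ?_⟩
  have h2 : (φ ⟨y, hyN⟩) ^ p ^ n = 1 := congrArg Subtype.val hn
  rw [← map_pow, hker] at h2
  simpa using h2

/-! ### transvections -/

/-- `a ∈ S - X` acts on `X` as a transvection (or trivially) with central centre `d`. -/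
structure Tr (S X : Subgroup G) (a d : G) : Prop where
  mem : a ∈ S
  notMem : a ∉ X
  dmem : d ∈ X
  sq : d * d = 1
  cen : ∀ x ∈ X, d * x = x * d
  comm : a * d = d * a
  act : ∀ x ∈ X, a * x * a⁻¹ = x ∨ a * x * a⁻¹ = d * x

namespace Tr

variable {S X : Subgroup G} {a d : G} (h : Tr S X a d)
include h

theorem mem_normalizer [Finite G] : a ∈ normalizer (X : Set G) := by
  refine Cfsg.Agent.Lib.GoldschmidtFusion.mem_normalizer_iff_map_conj.2
    (map_conj_le_of_le_normalizer ?_)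
  rintro _ ⟨x, hx, rfl⟩
  rcases h.act x hx with h1 | h1
  · change a * x * a⁻¹ ∈ X
    rw [h1]; exact hx
  · change a * x * a⁻¹ ∈ X
    rw [h1]; exact mul_mem h.dmem hx

/-- the conjugate data -/
theorem act_conj {m : G} (hm : m ∈ normalizer (X : Set G)) : ∀ x ∈ X,
    m * a * m⁻¹ * x * (m * a * m⁻¹)⁻¹ = x ∨ m * a * m⁻¹ * x * (m * a * m⁻¹)⁻¹ = (m * d * m⁻¹) * x := by
  intro x hx
  have h1 : m⁻¹ * x * m ∈ X := (mem_normalizer_iff''.1 hm x).1 hx
  have e : m * a * m⁻¹ * x * (m * a * m⁻¹)⁻¹ = m * (a * (m⁻¹ * x * m) * a⁻¹) * m⁻¹ := by group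
  rw [e]
  rcases h.act _ h1 with h2 | h2
  · left; rw [h2]; group
  · right; rw [h2]; group

end Tr

/-- **Transvections.** -/
theorem Tr.mem_star [Finite G] {S : Sylow 2 G} {X : Subgroup G} (hX : IsEss 2 (S : Subgroup G) X) {a d b f m : G}
    (ha : Tr (S : Subgroup G) X a d) (hb : Tr (S : Subgroup G) X b f) (hm : m ∈ normalizer (X : Set G))
    (hc : b * (m * d * m⁻¹) = m * d * m⁻¹ * b) : m ∈ starSub (S : Subgroup G) X := by
  haveI : Fact (Nat.Prime 2) := ⟨Nat.prime_two⟩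
  have hSp : IsPGroup 2 (S : Subgroup G) := S.isPGroup'
  set d' : G := m * d * m⁻¹ with hd'
  set a' : G := m * a * m⁻¹ with ha'
  have hmX : ∀ x ∈ X, m * x * m⁻¹ ∈ X := fun x hx => (mem_normalizer_iff.1 hm x).1 hx
  have hmX' : ∀ x ∈ X, m⁻¹ * x * m ∈ X := fun x hx => (mem_normalizer_iff''.1 hm x).1 hx
  have hd'X : d' ∈ X := hmX d ha.dmem
  have hd'2 : d' * d' = 1 := by
    have e : d' * d' = m * (d * d) * m⁻¹ := by rw [hd']; group
    rw [e, ha.sq]; group
  have hd'c : ∀ x ∈ X, d' * x = x * d' := by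
    intro x hx
    have h1 := ha.cen _ (hmX' x hx)
    have h2 := congrArg (fun t => m * t * m⁻¹) h1
    have e1 : m * (d * (m⁻¹ * x * m)) * m⁻¹ = d' * x := by rw [hd']; group
    have e2 : m * (m⁻¹ * x * m * d) * m⁻¹ = x * d' := by rw [hd']; group
    simpa only [e1, e2] using h2
  have ha'd' : a' * d' = d' * a' := by
    have e1 : a' * d' = m * (a * d) * m⁻¹ := by rw [hd', ha']; group
    have e2 : d' * a' = m * (d * a) * m⁻¹ := by rw [hd', ha']; group
    rw [e1, e2, ha.comm]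
  have ha'act : ∀ x ∈ X, a' * x * a'⁻¹ = x ∨ a' * x * a'⁻¹ = d' * x := ha.act_conj hm
  -- the central four-group
  set V : Subgroup G := _root_.Subgroup.closure {f, d'} with hV
  have hfV : f ∈ V := _root_.Subgroup.subset_closure (by simp)
  have hd'V : d' ∈ V := _root_.Subgroup.subset_closure (by simp)
  have hVp : ∀ v ∈ V, v ∈ X ∧ v * v = 1 ∧ (∀ x ∈ X, v * x = x * v) ∧ b * v = v * b := by
    intro v hv
    induction hv using closure_induction with
    | mem y hy =>
      rcases hy with rfl | rfl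
      · exact ⟨hb.dmem, hb.sq, hb.cen, hb.comm⟩
      · exact ⟨hd'X, hd'2, hd'c, hc⟩
    | one => exact ⟨one_mem _, one_mul 1, fun x _ => by simp, by simp⟩
    | mul y z _ _ hy hz =>
      obtain ⟨h1, h2, h3, h4⟩ := hy
      obtain ⟨h5, h6, h7, h8⟩ := hz
      refine ⟨mul_mem h1 h5, ?_, ?_, ?_⟩
      · calc y * z * (y * z) = y * (z * y) * z := by group
          _ = (y * y) * (z * z) := by rw [h7 y h1]; group
          _ = 1 := by rw [h2, h6, one_mul]
      · intro x hx
        calc y * z * x = y * (z * x) := by group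
          _ = (y * x) * z := by rw [h7 x hx]; group
          _ = x * (y * z) := by rw [h3 x hx]; group
      · calc b * (y * z) = (b * y) * z := by group
          _ = y * (b * z) := by rw [h4]; group
          _ = y * z * b := by rw [h8]; group
    | inv y _ hy =>
      obtain ⟨h1, h2, h3, h4⟩ := hy
      have e : y⁻¹ = y := inv_eq_of_mul_eq_one_left h2
      rw [e]
      exact ⟨h1, h2, h3, h4⟩
  have hVX : V ≤ X := fun v hv => (hVp v hv).1
  have hV2 : ∀ v ∈ V, v * v = 1 := fun v hv => (hVp v hv).2.1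
  have hVc : ∀ v ∈ V, ∀ x ∈ X, v * x = x * v := fun v hv => (hVp v hv).2.2.1
  have hVb : ∀ v ∈ V, b * v = v * b := fun v hv => (hVp v hv).2.2.2
  set W : Subgroup G := zpowers d' with hW
  have hWV : W ≤ V := by rw [hW, zpowers_le]; exact hd'V
  -- the stabiliser of the chain
  have comW : ∀ k : G, k * d' * k⁻¹ = d' → ∀ w ∈ W, k * w * k⁻¹ = w := by
    intro k hk w hw
    obtain ⟨n, rfl⟩ := mem_zpowers_iff.1 hw
    have h1 : (MulAut.conj k) (d' ^ n) = d' ^ n := by
      rw [map_zpow]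
      congr 1
    simpa only [_root_.MulAut.conj_apply] using h1
  let K : Subgroup G :=
    { carrier := {k | (∀ x ∈ X, ∃ v ∈ V, k * x * k⁻¹ = v * x) ∧ (∀ v ∈ V, ∃ w ∈ W, k * v * k⁻¹ = w * v) ∧
        k * d' * k⁻¹ = d'}
      one_mem' := ⟨fun x _ => ⟨1, one_mem _, by group⟩, fun v _ => ⟨1, one_mem _, by group⟩, by group⟩
      mul_mem' := by
        rintro k l ⟨h1, h2, h3⟩ ⟨h4, h5, h6⟩
        refine ⟨fun x hx => ?_, fun v hv => ?_, ?_⟩
        · obtain ⟨v, hv, hv'⟩ := h4 x hx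
          obtain ⟨v', hv1, hv1'⟩ := h1 x hx
          obtain ⟨w, hw, hw'⟩ := h2 v hv
          refine ⟨w * v * v', mul_mem (mul_mem (hWV hw) hv) hv1, ?_⟩
          calc k * l * x * (k * l)⁻¹ = k * (l * x * l⁻¹) * k⁻¹ := by group
            _ = (k * v * k⁻¹) * (k * x * k⁻¹) := by rw [hv']; group
            _ = w * v * v' * x := by rw [hw', hv1']; group
        · obtain ⟨w, hw, hw'⟩ := h5 v hv
          obtain ⟨w', hw1, hw1'⟩ := h2 v hv
          refine ⟨w * w', mul_mem hw hw1, ?_⟩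
          calc k * l * v * (k * l)⁻¹ = k * (l * v * l⁻¹) * k⁻¹ := by group
            _ = (k * w * k⁻¹) * (k * v * k⁻¹) := by rw [hw']; group
            _ = w * w' * v := by rw [comW k h3 w hw, hw1']; group
        · calc k * l * d' * (k * l)⁻¹ = k * (l * d' * l⁻¹) * k⁻¹ := by group
            _ = d' := by rw [h6, h3]
      inv_mem' := by
        rintro k ⟨h1, h2, h3⟩
        have h3' : k⁻¹ * d' * k = d' := by
          calc k⁻¹ * d' * k = k⁻¹ * (k * d' * k⁻¹) * k := by rw [h3]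
            _ = d' := by group
        have h2' : ∀ v ∈ V, ∃ w ∈ W, k⁻¹ * v * k = w * v := by
          intro v hv
          obtain ⟨w, hw, hw'⟩ := h2 v hv
          refine ⟨w⁻¹, inv_mem hw, ?_⟩
          have h4 := comW k⁻¹ (by rw [inv_inv]; exact h3') w hw
          rw [inv_inv] at h4
          calc k⁻¹ * v * k = w⁻¹ * (w * (k⁻¹ * v * k)) := by group
            _ = w⁻¹ * ((k⁻¹ * w * k) * (k⁻¹ * v * k)) := by rw [h4]
            _ = w⁻¹ * (k⁻¹ * (w * v) * k) := by group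
            _ = w⁻¹ * (k⁻¹ * (k * v * k⁻¹) * k) := by rw [hw']
            _ = w⁻¹ * v := by group
        refine ⟨fun x hx => ?_, fun v hv => ?_, ?_⟩
        · obtain ⟨v, hv, hv'⟩ := h1 x hx
          obtain ⟨w, hw, hw'⟩ := h2' v hv
          refine ⟨(w * v)⁻¹, inv_mem (mul_mem (hWV hw) hv), ?_⟩
          rw [inv_inv]
          calc k⁻¹ * x * k = (k⁻¹ * v * k)⁻¹ * (k⁻¹ * (v * x) * k) := by group
            _ = (w * v)⁻¹ * (k⁻¹ * (k * x * k⁻¹) * k) := by rw [hw', hv']
            _ = (w * v)⁻¹ * x := by group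
        · rw [inv_inv]; exact h2' v hv
        · rw [inv_inv]; exact h3' }
  have hK : ∀ k, k ∈ K ↔ (∀ x ∈ X, ∃ v ∈ V, k * x * k⁻¹ = v * x) ∧ (∀ v ∈ V, ∃ w ∈ W, k * v * k⁻¹ = w * v) ∧
        k * d' * k⁻¹ = d' := fun k => Iff.rfl
  have hbK : b ∈ K := by
    refine (hK b).2 ⟨fun x hx => ?_, fun v hv => ⟨1, one_mem _, ?_⟩, ?_⟩
    · rcases hb.act x hx with h1 | h1
      · exact ⟨1, one_mem _, by rw [h1, one_mul]⟩
      · exact ⟨f, hfV, h1⟩
    · rw [one_mul, hVb v hv, mul_inv_cancel_right]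
    · rw [hVb d' hd'V, mul_inv_cancel_right]
  have ha'K : a' ∈ K := by
    refine (hK a').2 ⟨fun x hx => ?_, fun v hv => ?_, ?_⟩
    · rcases ha'act x hx with h1 | h1
      · exact ⟨1, one_mem _, by rw [h1, one_mul]⟩
      · exact ⟨d', hd'V, h1⟩
    · rcases ha'act v (hVX hv) with h1 | h1
      · exact ⟨1, one_mem _, by rw [h1, one_mul]⟩
      · exact ⟨d', mem_zpowers _, h1⟩
    · rw [ha'd', mul_inv_cancel_right]
  have hKX : ∀ k ∈ K, ∀ x ∈ X, k * x * k⁻¹ ∈ X := by
    intro k hk x hx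
    obtain ⟨v, hv, hv'⟩ := ((hK k).1 hk).1 x hx
    rw [hv']; exact mul_mem (hVX hv) hx
  have hKN : K ≤ normalizer (X : Set G) := by
    intro k hk
    rw [mem_normalizer_iff]
    intro x
    refine ⟨fun hx => hKX k hk x hx, fun hx => ?_⟩
    have h1 := hKX k⁻¹ (inv_mem hk) _ hx
    have e : k⁻¹ * (k * x * k⁻¹) * k⁻¹⁻¹ = x := by group
    rwa [e] at h1
  have hK4 : ∀ k ∈ K, ∃ n : ℕ, k ^ 2 ^ n ∈ centralizer (X : Set G) := by
    intro k hk
    obtain ⟨h1, h2, h3⟩ := (hK k).1 hk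
    have h4 : ∀ x ∈ X, ∃ w ∈ W, k ^ 2 * x * (k ^ 2)⁻¹ = w * x := by
      intro x hx
      obtain ⟨v, hv, hv'⟩ := h1 x hx
      obtain ⟨w, hw, hw'⟩ := h2 v hv
      refine ⟨w, hw, ?_⟩
      calc k ^ 2 * x * (k ^ 2)⁻¹ = k * (k * x * k⁻¹) * k⁻¹ := by rw [pow_two]; group
        _ = k * (v * x) * k⁻¹ := by rw [hv']
        _ = (k * v * k⁻¹) * (k * x * k⁻¹) := by group
        _ = w * (v * v) * x := by rw [hw', hv']; group
        _ = w * x := by rw [hV2 v hv, mul_one]
    have h3' : k ^ 2 * d' * (k ^ 2)⁻¹ = d' := by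
      calc k ^ 2 * d' * (k ^ 2)⁻¹ = k * (k * d' * k⁻¹) * k⁻¹ := by rw [pow_two]; group
        _ = d' := by rw [h3, h3]
    refine ⟨2, ?_⟩
    rw [mem_centralizer_iff]
    intro x hx
    obtain ⟨w, hw, hw'⟩ := h4 x hx
    have h5 := comW (k ^ 2) h3' w hw
    have h6 : k ^ 4 * x * (k ^ 4)⁻¹ = x := by
      calc k ^ 4 * x * (k ^ 4)⁻¹ = k ^ 2 * (k ^ 2 * x * (k ^ 2)⁻¹) * (k ^ 2)⁻¹ := by
            rw [show (4 : ℕ) = 2 + 2 from rfl, pow_add]; group
        _ = k ^ 2 * (w * x) * (k ^ 2)⁻¹ := by rw [hw']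
        _ = (k ^ 2 * w * (k ^ 2)⁻¹) * (k ^ 2 * x * (k ^ 2)⁻¹) := by group
        _ = (w * w) * x := by rw [h5, hw']; group
        _ = x := by rw [hV2 w (hWV hw), one_mul]
    have h7 : k ^ 4 * x = x * k ^ 4 := by
      calc k ^ 4 * x = (k ^ 4 * x * (k ^ 4)⁻¹) * k ^ 4 := by group
        _ = x * k ^ 4 := by rw [h6]
    exact h7.symm
  have hXK : ∀ x ∈ X, ∀ k ∈ K, x * k * x⁻¹ ∈ K := by
    intro x' hx' k hk
    obtain ⟨h1, h2, h3⟩ := (hK k).1 hk
    refine (hK _).2 ⟨fun x hx => ?_, fun v hv => ?_, ?_⟩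
    · obtain ⟨v, hv, hv'⟩ := h1 (x'⁻¹ * x * x') (mul_mem (mul_mem (inv_mem hx') hx) hx')
      refine ⟨v, hv, ?_⟩
      calc x' * k * x'⁻¹ * x * (x' * k * x'⁻¹)⁻¹ = x' * (k * (x'⁻¹ * x * x') * k⁻¹) * x'⁻¹ := by group
        _ = (x' * v) * (x'⁻¹ * x * x') * x'⁻¹ := by rw [hv']; group
        _ = v * x := by rw [← hVc v hv x' hx']; group
    · obtain ⟨w, hw, hw'⟩ := h2 v hv
      refine ⟨w, hw, ?_⟩
      calc x' * k * x'⁻¹ * v * (x' * k * x'⁻¹)⁻¹ = x' * (k * (x'⁻¹ * (v * x')) * k⁻¹) * x'⁻¹ := by group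
        _ = x' * (k * v * k⁻¹) * x'⁻¹ := by rw [hVc v hv x' hx']; group
        _ = (x' * w) * v * x'⁻¹ := by rw [hw']; group
        _ = w * (x' * v) * x'⁻¹ := by rw [← hVc w (hWV hw) x' hx']; group
        _ = w * v := by rw [← hVc v hv x' hx']; group
    · calc x' * k * x'⁻¹ * d' * (x' * k * x'⁻¹)⁻¹ = x' * (k * (x'⁻¹ * (d' * x')) * k⁻¹) * x'⁻¹ := by group
        _ = x' * (k * d' * k⁻¹) * x'⁻¹ := by rw [hd'c x' hx']; group
        _ = (x' * d') * x'⁻¹ := by rw [h3]
        _ = d' := by rw [← hd'c x' hx']; group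
  refine mem_star_of_mem (p := 2) hX (Y := K ⊔ X) (sup_le hKN le_normalizer) le_sup_right
    (exists_pow_of_sup (hSp.to_le hX.lt.le) hKN hK4 hXK) (u := b) (v := a) hb.mem hb.notMem
    (mem_sup_left hbK) ha.mem ha.notMem ha.mem_normalizer hm (mem_sup_left ha'K)

end Cfsg.Agent.OddHalf.D3.EssSE
end

-- part: OddHalf/D3/Fus
section
/-!
# Permuted commuting parts: essential subgroups normalise the set of parts

`Frame S H 𝓛`: `𝓛` is a set of pairwise commuting subgroups of the Sylow 2-subgroup `S`, permuted by `S`, every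
involution of a part lies in a four-subgroup of the part, `S ≤ H`, and for every involution `u` in the product of a
proper subset of `𝓛` and every `g` with `g u g⁻¹ ∈ S` we have `g ∈ H`.

`Frame.normalizer_le`: `N_G(X) ≤ H` for every essential subgroup `X` of `S`.
-/

set_option autoImplicit false
set_option linter.style.haveILetI false

namespace Cfsg.Agent.OddHalf.D3.Fus

open Subgroup Cfsg.Agent.Lib.GoldschmidtFusion Cfsg.Agent.ClassTwoFusion.Ess
open Cfsg.Agent.OddHalf.D3.EssSE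

variable {G : Type*} [Group G]

/-! ### Subgroups of index two -/

/-- `M` is a subgroup of index two of `X`. -/
structure Half (X M : Subgroup G) : Prop where
  le : M ≤ X
  mul : ∀ a ∈ X, ∀ b ∈ X, a ∉ M → b ∉ M → a * b ∈ M
  ex : ∃ y ∈ X, y ∉ M

namespace Half

variable {X M : Subgroup G} (h : Half X M)
include h

theorem conj {x m : G} (hx : x ∈ X) (hm : m ∈ M) : x * m * x⁻¹ ∈ M := by
  by_cases hxM : x ∈ M
  · exact mul_mem (mul_mem hxM hm) (inv_mem hxM)
  · refine h.mul _ (mul_mem hx (h.le hm)) _ (inv_mem hx) ?_ ?_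
    · intro h1; exact hxM ((mul_mem_cancel_right hm).1 h1)
    · intro h1; exact hxM (inv_mem_iff.1 h1)

theorem conj' {x m : G} (hx : x ∈ X) (hm : m ∈ M) : x⁻¹ * m * x ∈ M := by
  have := h.conj (inv_mem hx) hm
  rwa [inv_inv] at this

theorem sq {x : G} (hx : x ∈ X) : x * x ∈ M := by
  by_cases hxM : x ∈ M
  · exact mul_mem hxM hxM
  · exact h.mul x hx x hx hxM hxM

theorem comm {x y : G} (hx : x ∈ X) (hy : y ∈ X) : x * y * x⁻¹ * y⁻¹ ∈ M := by
  by_cases hyM : y ∈ M
  · exact mul_mem (h.conj hx hyM) (inv_mem hyM)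
  · by_cases hxM : x ∈ M
    · have e : x * y * x⁻¹ * y⁻¹ = x * (y * x⁻¹ * y⁻¹) := by group
      rw [e]
      exact mul_mem hxM (h.conj hy (inv_mem hxM))
    · have e : x * y * x⁻¹ * y⁻¹ = (x * y) * (x⁻¹ * y⁻¹) := by group
      rw [e]
      refine mul_mem (h.mul x hx y hy hxM hyM) (h.mul _ (inv_mem hx) _ (inv_mem hy) ?_ ?_)
      · intro h1; exact hxM (inv_mem_iff.1 h1)
      · intro h1; exact hyM (inv_mem_iff.1 h1)

theorem exists_eq {x y : G} (hx : x ∈ X) (hxM : x ∉ M) (hy : y ∈ X) (hyM : y ∉ M) : ∃ m ∈ M, x = y * m := by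
  refine ⟨y⁻¹ * x, h.mul _ (inv_mem hy) _ hx (fun h1 => hyM (inv_mem_iff.1 h1)) hxM, by group⟩

end Half

theorem exists_half [Finite G] {X D : Subgroup G} (hX : IsPGroup 2 X) (hD : D < X) :
    ∃ M : Subgroup G, Half X M ∧ D ≤ M := by
  haveI : Fact (Nat.Prime 2) := ⟨Nat.prime_two⟩
  obtain ⟨k, hk⟩ := IsPGroup.iff_card.1 hX
  obtain ⟨j, hj⟩ := IsPGroup.iff_card.1 (hX.to_le hD.le)
  have hlt : Nat.card D < Nat.card X := Set.ncard_lt_ncard (by exact_mod_cast hD) (Set.toFinite _)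
  have hjk : j < k := by
    rw [hj, hk] at hlt
    exact (Nat.pow_lt_pow_iff_right (by norm_num)).1 hlt
  have hD' : Nat.card (D.subgroupOf X) = 2 ^ j := by
    rw [← hj]
    exact Nat.card_congr (subgroupOfEquivOfLe hD.le).toEquiv
  obtain ⟨K, hK, hDK⟩ := Sylow.exists_subgroup_card_pow_prime_le (G := ↥X) 2 (n := j) (m := k - 1)
    (by rw [hk]; exact pow_dvd_pow 2 (by omega)) (D.subgroupOf X) hD' (by omega)
  have hidx : K.index = 2 := by
    have h1 := K.card_mul_index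
    rw [hK, hk] at h1
    have h2 : 2 ^ k = 2 ^ (k - 1) * 2 := by
      rw [← pow_succ]; congr 1; omega
    rw [h2] at h1
    exact Nat.eq_of_mul_eq_mul_left (by positivity) h1
  have hmem : ∀ (x : G) (hx : x ∈ X), x ∈ K.map X.subtype ↔ (⟨x, hx⟩ : ↥X) ∈ K := by
    intro x hx
    constructor
    · rintro ⟨y, hy, hyx⟩
      have : y = ⟨x, hx⟩ := Subtype.ext hyx
      rwa [this] at hy
    · intro h
      exact ⟨⟨x, hx⟩, h, rfl⟩
  refine ⟨K.map X.subtype, ⟨map_subtype_le _, ?_, ?_⟩, ?_⟩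
  · intro a ha b hb haK hbK
    rw [hmem a ha] at haK
    rw [hmem b hb] at hbK
    rw [hmem _ (mul_mem ha hb)]
    have := (Subgroup.mul_mem_iff_of_index_two hidx (a := ⟨a, ha⟩) (b := ⟨b, hb⟩)).2 (by simp [haK, hbK])
    exact this
  · have hne : K ≠ ⊤ := by
      intro h; rw [h, index_top] at hidx; norm_num at hidx
    obtain ⟨y, -, hy⟩ := SetLike.exists_of_lt (lt_top_iff_ne_top.2 hne)
    exact ⟨y, y.2, fun h => hy ((hmem y y.2).1 h)⟩
  · intro d hd
    rw [hmem d (hD.le hd)]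
    exact hDK (by exact hd)

/-! ### fixed points -/

/-- a 2-group `X` normalising a nontrivial subgroup `D` centralises an involution of `D`. -/
theorem exists_fix [Finite G] {S X D : Subgroup G} (hS : IsPGroup 2 S) (hX : X ≤ S) (hD : D ≤ S) (hne : D ≠ ⊥)
    (hXD : ∀ x ∈ X, ∀ d ∈ D, x * d * x⁻¹ ∈ D) : ∃ e ∈ D, orderOf e = 2 ∧ ∀ x ∈ X, x * e = e * x := by
  haveI : Fact (Nat.Prime 2) := ⟨Nat.prime_two⟩
  set T : Subgroup G := X ⊔ D with hT
  have hTS : T ≤ S := sup_le hX hD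
  have hTp : IsPGroup 2 T := hS.to_le hTS
  have hXN : X ≤ normalizer (D : Set G) := by
    intro x hx
    rw [mem_normalizer_iff]
    intro d
    refine ⟨fun h => hXD x hx d h, fun h => ?_⟩
    have h1 := hXD x⁻¹ (inv_mem hx) _ h
    have e : x⁻¹ * (x * d * x⁻¹) * x⁻¹⁻¹ = d := by group
    rwa [e] at h1
  have hTN : T ≤ normalizer (D : Set G) := sup_le hXN le_normalizer
  haveI hn : (D.subgroupOf T).Normal := normal_subgroupOf_of_le_normalizer hTN
  have hne' : D.subgroupOf T ≠ ⊥ := by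
    intro h
    apply hne
    rw [eq_bot_iff]
    intro d hd
    have hdT : d ∈ T := mem_sup_right hd
    have : (⟨d, hdT⟩ : ↥T) ∈ D.subgroupOf T := hd
    rw [h, mem_bot] at this
    rw [mem_bot]
    exact congrArg Subtype.val this
  obtain ⟨z, hz, hzc, hz2⟩ := Cfsg.Agent.Involutions.NormalFour.exists_mem_center_of_normal hTp
    (D.subgroupOf T) hne'
  refine ⟨z, hz, by rw [← hz2, Subgroup.orderOf_coe], fun x hx => ?_⟩
  have := mem_center_iff.1 hzc ⟨x, mem_sup_left hx⟩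
  exact congrArg Subtype.val this

theorem orderOf_eq_two_of_sq {x : G} (h : x * x = 1) (h1 : x ≠ 1) : orderOf x = 2 :=
  orderOf_eq_prime (by rw [pow_two]; exact h) h1

theorem sq_of_orderOf {x : G} (h : orderOf x = 2) : x * x = 1 := by
  rw [← pow_two, ← h, pow_orderOf_eq_one]

theorem ne_one_of_orderOf {x : G} (h : orderOf x = 2) : x ≠ 1 := by
  rintro rfl; rw [orderOf_one] at h; norm_num at h

theorem exists_of_mem_sup {D : Subgroup G} {y z : G} (hy : ∀ x ∈ D, y * x = x * y) (hy2 : y * y = 1)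
    (hz : z ∈ D ⊔ zpowers y) : ∃ a ∈ D, z = a ∨ z = a * y := by
  have hyn : zpowers y ≤ normalizer (D : Set G) := by
    rw [zpowers_le, mem_normalizer_iff]
    intro w
    constructor
    · intro hw
      rw [hy w hw, mul_inv_cancel_right]; exact hw
    · intro hw
      have h1 := hy _ hw
      have h2 : y * (y * w * y⁻¹) * y⁻¹ = y * w * y⁻¹ := by rw [h1]; group
      have h3 : y * w * y⁻¹ = w := by
        have := congrArg (fun t => y⁻¹ * t * y) h2
        simpa only [mul_assoc, _root_.inv_mul_cancel_left, _root_.inv_mul_cancel, _root_.mul_one] using this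
      rwa [h3] at hw
  have h1 : z ∈ ((D ⊔ zpowers y : Subgroup G) : Set G) := hz
  rw [coe_mul_of_right_le_normalizer_left D (zpowers y) hyn] at h1
  obtain ⟨a, ha, b, hb, rfl⟩ := Set.mem_mul.1 h1
  obtain ⟨n, rfl⟩ := mem_zpowers_iff.1 hb
  refine ⟨a, ha, ?_⟩
  have h2 : y ^ (2 : ℤ) = 1 := by rw [zpow_two]; exact hy2
  rcases Int.even_or_odd' n with ⟨k, hk | hk⟩
  · left; rw [hk, zpow_mul, h2, one_zpow, mul_one]
  · right; rw [hk, zpow_add, zpow_mul, h2, one_zpow, one_mul, zpow_one]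

/-! ### The frame -/

/-- commuting parts permuted by `S` -/
structure Frame (S : Subgroup G) (H : Subgroup G) (𝓛 : Set (Subgroup G)) : Prop where
  le : ∀ A ∈ 𝓛, A ≤ S
  comm : ∀ A ∈ 𝓛, ∀ B ∈ 𝓛, A ≠ B → ∀ a ∈ A, ∀ b ∈ B, a * b = b * a
  perm : ∀ s ∈ S, ∀ A ∈ 𝓛, A.map (MulAut.conj s).toMonoidHom ∈ 𝓛
  ne : ∀ A ∈ 𝓛, A ≠ ⊥
  rich : ∀ A ∈ 𝓛, ∀ x ∈ A, orderOf x = 2 → ∃ y ∈ A, orderOf y = 2 ∧ y ≠ x ∧ x * y = y * x
  two : ∃ A ∈ 𝓛, ∃ B ∈ 𝓛, A ≠ B
  sc : ∀ J : Set (Subgroup G), J ⊆ 𝓛 → J ≠ 𝓛 → ∀ u ∈ sSup J, orderOf u = 2 → ∀ g : G, g * u * g⁻¹ ∈ S → g ∈ H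

namespace Frame

variable {S H : Subgroup G} {𝓛 : Set (Subgroup G)} (h : Frame S H 𝓛)
include h

theorem sSup_le {J : Set (Subgroup G)} (hJ : J ⊆ 𝓛) : sSup J ≤ S :=
  _root_.sSup_le fun A hA => h.le A (hJ hA)

/-- products of disjoint sets of parts commute -/
theorem sSup_comm {J J' : Set (Subgroup G)} (hJ : J ⊆ 𝓛) (hJ' : J' ⊆ 𝓛) (hd : ∀ A ∈ J, A ∉ J') {a b : G}
    (ha : a ∈ sSup J) (hb : b ∈ sSup J') : a * b = b * a := by
  have h1 : sSup J ≤ centralizer ((sSup J' : Subgroup G) : Set G) := by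
    refine _root_.sSup_le fun A hA => ?_
    rw [le_centralizer_iff]
    refine _root_.sSup_le fun B hB => ?_
    intro y hy
    rw [mem_centralizer_iff]
    intro x hx
    exact h.comm A (hJ hA) B (hJ' hB) (fun e => hd A hA (e ▸ hB)) x hx y hy
  exact ((mem_centralizer_iff.1 (h1 ha)) b hb).symm

end Frame

/-- conjugates of `sSup` -/
theorem conj_mem_sSup {J J' : Set (Subgroup G)} {g x : G}
    (hJ : ∀ A ∈ J, A.map (MulAut.conj g).toMonoidHom ∈ J') (hx : x ∈ sSup J) : g * x * g⁻¹ ∈ sSup J' := by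
  have h1 : sSup J ≤ (sSup J').comap (MulAut.conj g).toMonoidHom := by
    refine _root_.sSup_le fun A hA => ?_
    rw [← map_le_iff_le_comap]
    exact le_sSup (hJ A hA)
  exact h1 hx

/-! ### The main theorem -/

/-- an essential subgroup whose normaliser is not in `H` -/
structure Bad (S : Sylow 2 G) (H : Subgroup G) (X : Subgroup G) : Prop where
  ess : IsEss 2 (S : Subgroup G) X
  not_le : ¬ normalizer (X : Set G) ≤ H

namespace Bad

variable [Finite G] {S : Sylow 2 G} {H X : Subgroup G} {𝓛 : Set (Subgroup G)}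
  (h : Frame (S : Subgroup G) H 𝓛) (hB : Bad S H X)
include h hB

omit [Finite G] in
/-- `X` contains no involution of a proper product of parts -/
theorem notMem_of_two {J : Set (Subgroup G)} (hJ : J ⊆ 𝓛) (hJ' : J ≠ 𝓛) {u : G} (hu : u ∈ sSup J)
    (ou : orderOf u = 2) : u ∉ X := by
  intro huX
  apply hB.not_le
  intro g hg
  exact h.sc J hJ hJ' u hu ou g (hB.ess.lt.le ((mem_normalizer_iff.1 hg u).1 huX))

omit [Finite G] in
/-- `X` meets the proper products of parts trivially -/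
theorem eq_one {J : Set (Subgroup G)} (hJ : J ⊆ 𝓛) (hJ' : J ≠ 𝓛) {u : G} (hu : u ∈ sSup J)
    (huX : u ∈ X) : u = 1 := by
  haveI : Fact (Nat.Prime 2) := ⟨Nat.prime_two⟩
  by_contra hne
  have hSp : IsPGroup 2 (S : Subgroup G) := S.isPGroup'
  obtain ⟨k, hk⟩ := hSp ⟨u, hB.ess.lt.le huX⟩
  have hk' : u ^ 2 ^ k = 1 := congrArg Subtype.val hk
  have h1 : ∃ j, u ^ 2 ^ j ≠ 1 ∧ u ^ 2 ^ (j + 1) = 1 := by
    by_contra hcon
    push Not at hcon
    have : ∀ j, u ^ 2 ^ j ≠ 1 := by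
      intro j
      induction j with
      | zero => simpa using hne
      | succ j ih => exact hcon j ih
    exact this k hk'
  obtain ⟨j, hj1, hj2⟩ := h1
  refine notMem_of_two h hB hJ hJ' (u := u ^ 2 ^ j) (pow_mem hu _) (orderOf_eq_two_of_sq ?_ hj1) (pow_mem huX _)
  rw [← pow_add, ← two_mul, ← pow_succ']
  exact hj2

omit h [Finite G] in
theorem mem_of_comm {c : G} (hc : c ∈ S) (hcX : ∀ x ∈ X, x * c = c * x) : c ∈ X :=
  hB.ess.centric ⟨mem_centralizer_iff.2 fun x hx => hcX x hx, hc⟩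

theorem transitive {A B : Subgroup G} (hA : A ∈ 𝓛) (hBB : B ∈ 𝓛) :
    ∃ x ∈ X, B = A.map (MulAut.conj x).toMonoidHom := by
  set J : Set (Subgroup G) := {B | ∃ x ∈ X, B = A.map (MulAut.conj x).toMonoidHom} with hJd
  have hXS : X ≤ S := hB.ess.lt.le
  have hJ : J ⊆ 𝓛 := by
    rintro _ ⟨x, hx, rfl⟩
    exact h.perm x (hXS hx) A hA
  by_cases hJ' : J = 𝓛
  · have : B ∈ J := by rw [hJ']; exact hBB
    exact this
  · exfalso
    have hAJ : A ∈ J := ⟨1, one_mem _, (map_conj_one A).symm⟩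
    obtain ⟨e, he, oe, hec⟩ := exists_fix (S := (S : Subgroup G)) (X := X) (D := sSup J) S.isPGroup' hXS
      (h.sSup_le hJ) (fun hb => h.ne A hA (by rw [eq_bot_iff, ← hb]; exact le_sSup hAJ)) (by
        intro x hx d hd
        refine conj_mem_sSup ?_ hd
        rintro _ ⟨x', hx', rfl⟩
        exact ⟨x * x', mul_mem hx hx', by rw [map_conj_map_conj]⟩)
    exact notMem_of_two h hB hJ hJ' he oe (mem_of_comm hB (h.sSup_le hJ he) hec)

/-- the stabiliser of a part is proper -/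
theorem stab_lt {A : Subgroup G} (hA : A ∈ 𝓛) : X ⊓ normalizer (A : Set G) < X := by
  refine lt_of_le_of_ne inf_le_left fun h1 => ?_
  have h2 : X ≤ normalizer (A : Set G) := by rw [← h1]; exact inf_le_right
  obtain ⟨C, hC, D, hD, hCD⟩ := h.two
  apply hCD
  have key : ∀ C ∈ 𝓛, C = A := by
    intro C hC
    obtain ⟨x, hx, hx'⟩ := transitive h hB hA hC
    rw [hx', mem_normalizer_iff_map_conj.1 (h2 hx)]
  rw [key C hC, key D hD]

omit [Finite G] in
/-- the transvection of an involution `e` centralising the half `M` of `X` -/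
theorem tr_of {A M : Subgroup G} (hA : A ∈ 𝓛) (hM : Half X M) (hAM : X ⊓ normalizer (A : Set G) ≤ M) {e : G}
    (he : e ∈ sSup {B : Subgroup G | ∃ x ∈ M, B = A.map (MulAut.conj x).toMonoidHom}) (oe : orderOf e = 2)
    (hec : ∀ x ∈ M, x * e = e * x) {y : G} (hy : y ∈ X) (hyM : y ∉ M) :
    Tr (S : Subgroup G) X e (e * (y * e * y⁻¹)) ∧ e * (y * e * y⁻¹) = y * e * y⁻¹ * e := by
  set J : Set (Subgroup G) := {B | ∃ x ∈ M, B = A.map (MulAut.conj x).toMonoidHom} with hJd
  set J' : Set (Subgroup G) := {B | ∃ x ∈ M, B = A.map (MulAut.conj (y * x)).toMonoidHom} with hJ'd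
  have hXS : X ≤ S := hB.ess.lt.le
  have hJ : J ⊆ 𝓛 := by
    rintro _ ⟨x, hx, rfl⟩
    exact h.perm x (hXS (hM.le hx)) A hA
  have hJ'𝓛 : J' ⊆ 𝓛 := by
    rintro _ ⟨x, hx, rfl⟩
    exact h.perm _ (hXS (mul_mem hy (hM.le hx))) A hA
  have hdis : ∀ B ∈ J, B ∉ J' := by
    rintro _ ⟨x, hx, rfl⟩ ⟨x', hx', hxx⟩
    apply hyM
    have h1 : x⁻¹ * (y * x') ∈ normalizer (A : Set G) := by
      rw [mem_normalizer_iff_map_conj, ← map_conj_map_conj, ← hxx, map_conj_map_conj, inv_mul_cancel, map_conj_one]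
    have h2 : x⁻¹ * (y * x') ∈ M :=
      hAM (mem_inf.2 ⟨X.mul_mem (X.inv_mem (hM.le hx)) (X.mul_mem hy (hM.le hx')), h1⟩)
    have h3 : y = x * (x⁻¹ * (y * x')) * x'⁻¹ := by group
    rw [h3]
    exact M.mul_mem (M.mul_mem hx h2) (M.inv_mem hx')
  have hAJ : A ∈ J := ⟨1, one_mem _, (map_conj_one A).symm⟩
  have hJne : J ≠ 𝓛 := by
    intro h1
    have h2 : A.map (MulAut.conj (y * 1)).toMonoidHom ∈ J := by
      rw [h1]; exact h.perm _ (hXS (mul_mem hy (one_mem _))) A hA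
    exact hdis _ h2 ⟨1, one_mem _, rfl⟩
  have heS : e ∈ (S : Subgroup G) := h.sSup_le hJ he
  have heX : e ∉ X := notMem_of_two h hB hJ hJne he oe
  have he2 := sq_of_orderOf oe
  have heinv : e⁻¹ = e := inv_eq_of_mul_eq_one_left he2
  set e' : G := y * e * y⁻¹ with he'
  have he'J : e' ∈ sSup J' := by
    refine conj_mem_sSup ?_ he
    rintro _ ⟨x, hx, rfl⟩
    exact ⟨x, hx, by rw [map_conj_map_conj]⟩
  have hcom : e * e' = e' * e := h.sSup_comm hJ hJ'𝓛 hdis he he'J
  have he'2 : e' * e' = 1 := by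
    calc e' * e' = y * (e * e) * y⁻¹ := by rw [he']; group
      _ = 1 := by rw [he2]; group
  have he'S : e' ∈ (S : Subgroup G) := mul_mem (mul_mem (hXS hy) heS) (inv_mem (hXS hy))
  -- `d` commutes with `M`
  have hdM : ∀ x ∈ M, x * (e * e') = e * e' * x := by
    intro x hx
    have h1 := hec x hx
    have h2 := hec _ (hM.conj' hy hx)
    have h3 : x * e' = e' * x := by
      calc x * e' = y * ((y⁻¹ * x * y) * e) * y⁻¹ := by rw [he']; group
        _ = y * (e * (y⁻¹ * x * y)) * y⁻¹ := by rw [h2]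
        _ = e' * x := by rw [he']; group
    calc x * (e * e') = (x * e) * e' := by group
      _ = e * (x * e') := by rw [h1]; group
      _ = e * e' * x := by rw [h3]; group
  have hyy : y * y ∈ M := hM.sq hy
  have hdy : y * (e * e') = e * e' * y := by
    have h1 := hec _ hyy
    have h2 : y * e' = e * y := by
      calc y * e' = ((y * y) * e) * y⁻¹ := by rw [he']; group
        _ = (e * (y * y)) * y⁻¹ := by rw [h1]
        _ = e * y := by group
    calc y * (e * e') = (y * e * y⁻¹) * (y * e') := by group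
      _ = e' * (e * y) := by rw [h2, he']
      _ = (e * e') * y := by rw [hcom]; group
  have hdX : ∀ x ∈ X, x * (e * e') = e * e' * x := by
    intro x hx
    by_cases hxM : x ∈ M
    · exact hdM x hxM
    · obtain ⟨m, hm, rfl⟩ := hM.exists_eq hx hxM hy hyM
      calc y * m * (e * e') = y * (m * (e * e')) := by group
        _ = (y * (e * e')) * m := by rw [hdM m hm]; group
        _ = e * e' * (y * m) := by rw [hdy]; group
  refine ⟨⟨heS, heX, mem_of_comm hB (mul_mem heS he'S) hdX, ?_, fun x hx => (hdX x hx).symm, ?_, ?_⟩, hcom⟩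
  · calc e * e' * (e * e') = e * (e' * e) * e' := by group
      _ = (e * e) * (e' * e') := by rw [← hcom]; group
      _ = 1 := by rw [he2, he'2, one_mul]
  · calc e * (e * e') = e * (e' * e) := by rw [hcom]
      _ = e * e' * e := by group
  · intro x hx
    by_cases hxM : x ∈ M
    · left
      rw [← hec x hxM, mul_inv_cancel_right]
    · right
      obtain ⟨m, hm, rfl⟩ := hM.exists_eq hx hxM hy hyM
      calc e * (y * m) * e⁻¹ = e * y * (m * e) := by rw [heinv]; group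
        _ = e * y * (e * m) := by rw [hec m hm]
        _ = e * e' * (y * m) := by rw [he']; group

/-- **Essential subgroups normalise the set of parts.** -/
theorem false : False := by
  haveI : Fact (Nat.Prime 2) := ⟨Nat.prime_two⟩
  have hXS : X ≤ S := hB.ess.lt.le
  have hSp : IsPGroup 2 (S : Subgroup G) := S.isPGroup'
  have hXp : IsPGroup 2 X := hSp.to_le hXS
  obtain ⟨A, hA, -⟩ := h.two
  obtain ⟨m, hm, hmM⟩ := SetLike.not_le_iff_exists.1 hB.ess.ess
  have hmi : m⁻¹ ∈ normalizer (X : Set G) := inv_mem hm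
  have hmiM : m⁻¹ ∉ starSub (S : Subgroup G) X := fun h1 => hmM (inv_mem_iff.1 h1)
  -- involutions of half products
  have exE : ∀ M : Subgroup G, Half X M → X ⊓ normalizer (A : Set G) ≤ M →
      ∃ e ∈ sSup {B : Subgroup G | ∃ x ∈ M, B = A.map (MulAut.conj x).toMonoidHom}, orderOf e = 2 ∧
        ∀ x ∈ M, x * e = e * x := by
    intro M hM hAM
    have hJ : {B : Subgroup G | ∃ x ∈ M, B = A.map (MulAut.conj x).toMonoidHom} ⊆ 𝓛 := by
      rintro _ ⟨x, hx, rfl⟩
      exact h.perm x (hXS (hM.le hx)) A hA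
    refine exists_fix (S := (S : Subgroup G)) (X := M) hSp (hM.le.trans hXS) (h.sSup_le hJ) ?_ ?_
    · intro hb
      refine h.ne A hA ?_
      rw [eq_bot_iff, ← hb]
      exact le_sSup ⟨1, one_mem _, (map_conj_one A).symm⟩
    · intro x hx d hd
      refine conj_mem_sSup ?_ hd
      rintro _ ⟨x', hx', rfl⟩
      exact ⟨x * x', mul_mem hx hx', by rw [map_conj_map_conj]⟩
  obtain ⟨M, hM, hAM⟩ := exists_half hXp (stab_lt h hB hA)
  obtain ⟨e, he, oe, hec⟩ := exE M hM hAM
  obtain ⟨y0, hy0, hy0M⟩ := hM.ex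
  obtain ⟨htr, -⟩ := tr_of h hB hA hM hAM he oe hec hy0 hy0M
  set d : G := e * (y0 * e * y0⁻¹) with hd
  set y : G := m * d * m⁻¹ with hy
  have hyX : y ∈ X := (mem_normalizer_iff.1 hm d).1 htr.dmem
  have hyc : ∀ x ∈ X, y * x = x * y := by
    intro x hx
    have h1 := htr.cen _ ((mem_normalizer_iff''.1 hm x).1 hx)
    have h2 := congrArg (fun t => m * t * m⁻¹) h1
    have e1 : m * (d * (m⁻¹ * x * m)) * m⁻¹ = y * x := by rw [hy]; group
    have e2 : m * (m⁻¹ * x * m * d) * m⁻¹ = x * y := by rw [hy]; group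
    simpa only [e1, e2] using h2
  have hy2 : y * y = 1 := by
    have e1 : y * y = m * (d * d) * m⁻¹ := by rw [hy]; group
    rw [e1, htr.sq]; group
  have hyM : y ∉ M := fun h1 => hmM (Tr.mem_star hB.ess htr htr hm (hec y h1).symm)
  -- `M` normalises `A`
  have hMA : M ≤ normalizer (A : Set G) := by
    by_cases hcase : (X ⊓ normalizer (A : Set G)) ⊔ zpowers y = X
    · intro x hx
      have hxX : x ∈ (X ⊓ normalizer (A : Set G)) ⊔ zpowers y := by rw [hcase]; exact hM.le hx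
      obtain ⟨a, ha, hxa⟩ := exists_of_mem_sup (D := X ⊓ normalizer (A : Set G))
        (fun z hz => hyc z (mem_inf.1 hz).1) hy2 hxX
      rcases hxa with rfl | rfl
      · exact ha.2
      · exfalso
        apply hyM
        have e1 : y = a⁻¹ * (a * y) := by group
        rw [e1]
        exact mul_mem (inv_mem (hAM ha)) hx
    · exfalso
      have hlt : (X ⊓ normalizer (A : Set G)) ⊔ zpowers y < X :=
        lt_of_le_of_ne (sup_le inf_le_left (by rw [zpowers_le]; exact hyX)) hcase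
      obtain ⟨M2, hM2, hDM2⟩ := exists_half hXp hlt
      have hAM2 : X ⊓ normalizer (A : Set G) ≤ M2 := le_sup_left.trans hDM2
      have hyM2 : y ∈ M2 := hDM2 (mem_sup_right (mem_zpowers y))
      obtain ⟨e2, he2, oe2, hec2⟩ := exE M2 hM2 hAM2
      obtain ⟨y2, hy2', hy2M⟩ := hM2.ex
      obtain ⟨htr2, -⟩ := tr_of h hB hA hM2 hAM2 he2 oe2 hec2 hy2' hy2M
      exact hmM (Tr.mem_star hB.ess htr htr2 hm (hec2 y hyM2).symm)
  -- the two parts commute
  have hAJ : A ∈ {B : Subgroup G | ∃ x ∈ M, B = A.map (MulAut.conj x).toMonoidHom} :=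
    ⟨1, one_mem _, (map_conj_one A).symm⟩
  have hAle : A ≤ sSup {B : Subgroup G | ∃ x ∈ M, B = A.map (MulAut.conj x).toMonoidHom} := le_sSup hAJ
  have heA : e ∈ A := by
    have h1 : sSup {B : Subgroup G | ∃ x ∈ M, B = A.map (MulAut.conj x).toMonoidHom} ≤ A := by
      refine _root_.sSup_le ?_
      rintro _ ⟨x, hx, rfl⟩
      rw [mem_normalizer_iff_map_conj.1 (hMA hx)]
    exact h1 he
  have hyN : y ∉ normalizer (A : Set G) := fun h1 => hyM (hAM (mem_inf.2 ⟨hyX, h1⟩))
  have hA' : A.map (MulAut.conj y).toMonoidHom ≠ A := fun h1 => hyN (mem_normalizer_iff_map_conj.2 h1)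
  have hAA : ∀ a ∈ A, ∀ b ∈ A, a * (y * b * y⁻¹) = y * b * y⁻¹ * a := fun a ha b hb =>
    h.comm A hA _ (h.perm y (hXS hyX) A hA) (Ne.symm hA') a ha _ (conj_mem_map_conj hb y)
  have hAS : A ≤ S := h.le A hA
  have hAX : ∀ a ∈ A, a ∈ X → a = 1 := by
    intro a ha haX
    refine eq_one h hB (J := {A}) (by simpa using hA) ?_ (by simpa using ha) haX
    intro h1
    have h2 : A.map (MulAut.conj y).toMonoidHom ∈ ({A} : Set (Subgroup G)) := by
      rw [h1]; exact h.perm y (hXS hyX) A hA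
    exact hA' h2
  have hde : d = e * (y * e * y⁻¹) := by
    obtain ⟨a, ha, haa⟩ := hM.exists_eq hy0 hy0M hyX hyM
    have h1 := hec a ha
    calc d = e * (y * (a * e) * a⁻¹ * y⁻¹) := by rw [hd, haa]; group
      _ = e * (y * (e * a) * a⁻¹ * y⁻¹) := by rw [h1]
      _ = e * (y * e * y⁻¹) := by group
  have fact5 : ∀ e' ∈ A, orderOf e' = 2 → (∀ x ∈ M, x * e' = e' * x) →
      m⁻¹ * (e' * (y * e' * y⁻¹)) * m ∉ M := by
    intro e' he' oe' hec' h1
    obtain ⟨htr', -⟩ := tr_of h hB hA hM hAM (hAle he') oe' hec' hyX hyM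
    refine hmiM (Tr.mem_star hB.ess htr' htr hmi ?_)
    rw [inv_inv]
    exact (hec _ h1).symm
  have hmX' : ∀ x ∈ X, m⁻¹ * x * m ∈ X := fun x hx => (mem_normalizer_iff''.1 hm x).1 hx
  have hdX : ∀ e' ∈ A, orderOf e' = 2 → (∀ x ∈ M, x * e' = e' * x) → e' * (y * e' * y⁻¹) ∈ X := by
    intro e' he' oe' hec'
    exact (tr_of h hB hA hM hAM (hAle he') oe' hec' hyX hyM).1.dmem
  have noFour : ∀ e1 ∈ A, ∀ e2 ∈ A, orderOf e1 = 2 → orderOf e2 = 2 → (∀ x ∈ M, x * e1 = e1 * x) →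
      (∀ x ∈ M, x * e2 = e2 * x) → e1 ≠ e2 → e1 * e2 = e2 * e1 → False := by
    intro e1 h1 e2 h2 o1 o2 c1 c2 hne hcom
    have hs1 := sq_of_orderOf o1
    have hs2 := sq_of_orderOf o2
    have o12 : orderOf (e1 * e2) = 2 := by
      refine orderOf_eq_two_of_sq ?_ ?_
      · calc e1 * e2 * (e1 * e2) = e1 * (e2 * e1) * e2 := by group
          _ = (e1 * e1) * (e2 * e2) := by rw [← hcom]; group
          _ = 1 := by rw [hs1, hs2, one_mul]
      · intro h3
        apply hne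
        have h4 : e2⁻¹ = e2 := inv_eq_of_mul_eq_one_left hs2
        rw [← h4]
        exact eq_inv_of_mul_eq_one_left h3
    have c12 : ∀ x ∈ M, x * (e1 * e2) = e1 * e2 * x := by
      intro x hx
      calc x * (e1 * e2) = (x * e1) * e2 := by group
        _ = e1 * (x * e2) := by rw [c1 x hx]; group
        _ = e1 * e2 * x := by rw [c2 x hx]; group
    refine fact5 (e1 * e2) (mul_mem h1 h2) o12 c12 ?_
    have e3 : m⁻¹ * (e1 * e2 * (y * (e1 * e2) * y⁻¹)) * m =
        (m⁻¹ * (e1 * (y * e1 * y⁻¹)) * m) * (m⁻¹ * (e2 * (y * e2 * y⁻¹)) * m) := by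
      calc m⁻¹ * (e1 * e2 * (y * (e1 * e2) * y⁻¹)) * m
          = m⁻¹ * (e1 * (e2 * (y * e1 * y⁻¹)) * (y * e2 * y⁻¹)) * m := by group
        _ = m⁻¹ * (e1 * (y * e1 * y⁻¹ * e2) * (y * e2 * y⁻¹)) * m := by rw [hAA e2 h2 e1 h1]
        _ = _ := by group
    rw [e3]
    exact hM.mul _ (hmX' _ (hdX e1 h1 o1 c1)) _ (hmX' _ (hdX e2 h2 o2 c2)) (fact5 e1 h1 o1 c1)
      (fact5 e2 h2 o2 c2)
  have expTwo : ∀ b ∈ A, (∀ x ∈ M, x * b = b * x) → b * b = 1 := by
    intro b hb hbc
    by_contra hne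
    obtain ⟨k, hk⟩ := hSp ⟨b, hAS hb⟩
    have hk' : b ^ 2 ^ k = 1 := congrArg Subtype.val hk
    have h1 : ∃ j, b ^ 2 ^ (j + 1) ≠ 1 ∧ b ^ 2 ^ (j + 2) = 1 := by
      by_contra hcon
      push Not at hcon
      have h2 : ∀ j, b ^ 2 ^ (j + 1) ≠ 1 := by
        intro j
        induction j with
        | zero => simpa only [pow_two, _root_.zero_add, _root_.pow_one, _root_.ne_eq] using hne
        | succ j ih => exact hcon j ih
      apply h2 k
      rw [pow_succ, pow_mul, hk', one_pow]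
    obtain ⟨j, hj1, hj2⟩ := h1
    set b' : G := b ^ 2 ^ j with hb'
    have hb'A : b' ∈ A := pow_mem hb _
    have hb'2 : b' * b' = b ^ 2 ^ (j + 1) := by
      rw [hb', ← pow_add, ← two_mul, ← pow_succ']
    have hb'4 : (b' * b') * (b' * b') = 1 := by
      rw [hb'2, ← pow_add, ← two_mul, ← pow_succ']; exact hj2
    have hb'c : ∀ x ∈ M, x * b' = b' * x := by
      intro x hx
      exact ((show Commute x b from hbc x hx).pow_right _).eq
    have hb'bA : b' * b' ∈ A := mul_mem hb'A hb'A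
    have hb'bc : ∀ x ∈ M, x * (b' * b') = b' * b' * x := by
      intro x hx
      exact ((show Commute x b' from hb'c x hx).mul_right (hb'c x hx)).eq
    have hob : orderOf (b' * b') = 2 := orderOf_eq_two_of_sq hb'4 (by rw [hb'2]; exact hj1)
    set z : G := b' * (y * b' * y⁻¹) with hz
    have hzX : z ∈ X := by
      refine mem_of_comm hB (mul_mem (hAS hb'A) (mul_mem (mul_mem (hXS hyX) (hAS hb'A)) (inv_mem (hXS hyX)))) ?_
      have hzM : ∀ x ∈ M, x * z = z * x := by
        intro x hx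
        have h3 := hb'c x hx
        have h4 := hyc x (hM.le hx)
        have h5 : x * (y * b' * y⁻¹) = y * b' * y⁻¹ * x := by
          calc x * (y * b' * y⁻¹) = (x * y) * b' * y⁻¹ := by group
            _ = y * (x * b') * y⁻¹ := by rw [← h4]; group
            _ = y * b' * (x * y⁻¹) := by rw [h3]; group
            _ = y * b' * (y⁻¹ * (y * x) * y⁻¹) := by group
            _ = y * b' * (y⁻¹ * (x * y) * y⁻¹) := by rw [h4]
            _ = y * b' * y⁻¹ * x := by group
        calc x * z = (x * b') * (y * b' * y⁻¹) := by rw [hz]; group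
          _ = b' * (x * (y * b' * y⁻¹)) := by rw [h3]; group
          _ = z * x := by rw [h5, hz]; group
      have hyi : y⁻¹ = y := inv_eq_of_mul_eq_one_left hy2
      have hzy : y * z = z * y := by
        have h6 := hAA b' hb'A b' hb'A
        calc y * z = (y * b' * y⁻¹) * (y * y) * b' * y⁻¹ := by rw [hz]; group
          _ = (y * b' * y⁻¹ * b') * y⁻¹ := by rw [hy2]; group
          _ = (b' * (y * b' * y⁻¹)) * y⁻¹ := by rw [← h6]
          _ = z * y := by rw [hz, hyi]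
      intro x hx
      by_cases hxM : x ∈ M
      · exact hzM x hxM
      · obtain ⟨a, ha, rfl⟩ := hM.exists_eq hx hxM hyX hyM
        calc y * a * z = y * (a * z) := by group
          _ = (y * z) * a := by rw [hzM a ha]; group
          _ = z * (y * a) := by rw [hzy]; group
    refine fact5 (b' * b') hb'bA hob hb'bc ?_
    have e3 : m⁻¹ * (b' * b' * (y * (b' * b') * y⁻¹)) * m = (m⁻¹ * z * m) * (m⁻¹ * z * m) := by
      calc m⁻¹ * (b' * b' * (y * (b' * b') * y⁻¹)) * m
          = m⁻¹ * (b' * (b' * (y * b' * y⁻¹)) * (y * b' * y⁻¹)) * m := by group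
        _ = m⁻¹ * (b' * (y * b' * y⁻¹ * b') * (y * b' * y⁻¹)) * m := by rw [hAA b' hb'A b' hb'A]
        _ = _ := by rw [hz]; group
    rw [e3]
    exact hM.sq (hmX' z hzX)
  have hBe : ∀ b ∈ A, (∀ x ∈ M, x * b = b * x) → b = 1 ∨ b = e := by
    intro b hb hbc
    by_contra hcon
    rw [not_or] at hcon
    have hb2 := expTwo b hb hbc
    have hbe := expTwo (b * e) (mul_mem hb heA) (fun x hx => by
      exact ((show Commute x b from hbc x hx).mul_right (hec x hx)).eq)
    have hb2' : b⁻¹ = b := inv_eq_of_mul_eq_one_left hb2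
    have he2' : e⁻¹ = e := inv_eq_of_mul_eq_one_left (sq_of_orderOf oe)
    have hcom : b * e = e * b := by
      have h1 : (b * e)⁻¹ = b * e := inv_eq_of_mul_eq_one_left hbe
      rw [mul_inv_rev, hb2', he2'] at h1
      exact h1.symm
    exact noFour b hb e heA (orderOf_eq_two_of_sq hb2 hcon.1) oe hbc hec hcon.2 hcom
  -- the element `p`
  obtain ⟨e', he'A, oe', hne', -⟩ := h.rich A hA e heA oe
  set Q : Subgroup G := M ⊔ zpowers e with hQ
  have hQA : ∀ q ∈ Q, q ∈ A → q = 1 ∨ q = e := by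
    intro q hq hqA
    obtain ⟨a, ha, hqa⟩ := exists_of_mem_sup (fun x hx => (hec x hx).symm) (sq_of_orderOf oe) hq
    have haA : a ∈ A := by
      rcases hqa with rfl | rfl
      · exact hqA
      · have e1 : a = a * e * e⁻¹ := by group
        rw [e1]; exact mul_mem hqA (inv_mem heA)
    have ha1 := hAX a haA (hM.le ha)
    rcases hqa with rfl | rfl
    · left; exact ha1
    · right; rw [ha1, one_mul]
  have hQT : Q < M ⊔ A := by
    refine lt_of_le_of_ne (sup_le le_sup_left (by rw [zpowers_le]; exact mem_sup_right heA)) fun h1 => ?_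
    have h2 : e' ∈ Q := by rw [h1]; exact mem_sup_right he'A
    rcases hQA e' h2 he'A with h3 | h3
    · exact ne_one_of_orderOf oe' h3
    · exact hne' h3
  have hTp : IsPGroup 2 (M ⊔ A : Subgroup G) := hSp.to_le (sup_le (hM.le.trans hXS) hAS)
  obtain ⟨t, ht, htQ⟩ := SetLike.exists_of_lt (lt_inf_normalizer (p := 2) hTp hQT)
  have htT : t ∈ ((M ⊔ A : Subgroup G) : Set G) := ht.1
  rw [coe_mul_of_left_le_normalizer_right M A hMA] at htT
  obtain ⟨a, ha, p, hp, hap⟩ := Set.mem_mul.1 htT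
  have hpt : p = a⁻¹ * t := by rw [← hap]; group
  have haQ : a ∈ Q := mem_sup_left ha
  have hpN : p ∈ normalizer (Q : Set G) := by
    rw [hpt]; exact mul_mem (inv_mem (le_normalizer haQ)) ht.2
  have hpQ : p ∉ Q := by
    intro h1
    apply htQ
    rw [← hap]; exact mul_mem haQ h1
  have hpA : p ∈ A := hp
  have heQ : e ∈ Q := mem_sup_right (mem_zpowers e)
  have hpq : ∀ q ∈ M, p * q * p⁻¹ = q ∨ p * q * p⁻¹ = e * q := by
    intro q hq
    have h1 : p * q * p⁻¹ ∈ Q := (mem_normalizer_iff.1 hpN q).1 (mem_sup_left hq)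
    have h2 : p * q * p⁻¹ * q⁻¹ ∈ Q := mul_mem h1 (inv_mem (mem_sup_left hq))
    have h3 : p * q * p⁻¹ * q⁻¹ ∈ A := by
      have e1 : p * q * p⁻¹ * q⁻¹ = p * (q * p⁻¹ * q⁻¹) := by group
      rw [e1]
      exact mul_mem hpA ((mem_normalizer_iff.1 (hMA hq) _).1 (inv_mem hpA))
    rcases hQA _ h2 h3 with h4 | h4
    · left; exact mul_inv_eq_one.1 h4
    · right; exact mul_inv_eq_iff_eq_mul.1 h4
  have hpe : p * e = e * p := by
    have h1 : p * e * p⁻¹ ∈ Q := (mem_normalizer_iff.1 hpN e).1 heQ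
    rcases hQA _ h1 (mul_mem (mul_mem hpA heA) (inv_mem hpA)) with h4 | h4
    · exfalso
      apply ne_one_of_orderOf oe
      have h5 : e = p⁻¹ * (p * e * p⁻¹) * p := by group
      rw [h5, h4]; group
    · exact mul_inv_eq_iff_eq_mul.1 h4
  have hexq : ∃ q ∈ M, p * q * p⁻¹ = e * q := by
    by_contra hcon
    push Not at hcon
    have h1 : ∀ x ∈ M, x * p = p * x := by
      intro x hx
      rcases hpq x hx with h2 | h2
      · exact (mul_inv_eq_iff_eq_mul.1 h2).symm
      · exact absurd h2 (hcon x hx)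
    rcases hBe p hpA h1 with h2 | h2
    · exact hpQ (h2 ▸ one_mem _)
    · exact hpQ (h2 ▸ heQ)
  obtain ⟨q, hq, hqq⟩ := hexq
  have hyi : y⁻¹ = y := inv_eq_of_mul_eq_one_left hy2
  set f : G := p * (y * p * y⁻¹) with hf
  have hype : y * p * y⁻¹ * (y * e * y⁻¹) = y * e * y⁻¹ * (y * p * y⁻¹) := by
    calc y * p * y⁻¹ * (y * e * y⁻¹) = y * (p * e) * y⁻¹ := by group
      _ = y * (e * p) * y⁻¹ := by rw [hpe]
      _ = _ := by group
  have hyp1 : ∀ x ∈ M, p * x * p⁻¹ = x → f * x * f⁻¹ = x := by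
    intro x hx h1
    have h2 := hyc x (hM.le hx)
    have h3 : y * p * y⁻¹ * x * (y * p * y⁻¹)⁻¹ = x := by
      calc y * p * y⁻¹ * x * (y * p * y⁻¹)⁻¹ = y * p * y⁻¹ * (x * y) * p⁻¹ * y⁻¹ := by group
        _ = y * (p * x * p⁻¹) * y⁻¹ := by rw [← h2]; group
        _ = (y * x) * y⁻¹ := by rw [h1]
        _ = x := by rw [h2]; group
    calc f * x * f⁻¹ = p * (y * p * y⁻¹ * x * (y * p * y⁻¹)⁻¹) * p⁻¹ := by rw [hf]; group
      _ = x := by rw [h3, h1]
  have hyp2 : ∀ x ∈ M, p * x * p⁻¹ = e * x → f * x * f⁻¹ = d * x := by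
    intro x hx h1
    have h2 := hyc x (hM.le hx)
    have h3 : y * p * y⁻¹ * x * (y * p * y⁻¹)⁻¹ = y * e * y⁻¹ * x := by
      calc y * p * y⁻¹ * x * (y * p * y⁻¹)⁻¹ = y * p * y⁻¹ * (x * y) * p⁻¹ * y⁻¹ := by group
        _ = y * (p * x * p⁻¹) * y⁻¹ := by rw [← h2]; group
        _ = y * (e * x) * y⁻¹ := by rw [h1]
        _ = y * e * (x * y) * y⁻¹ * y⁻¹ := by group
        _ = y * e * (y * x) * y⁻¹ * y⁻¹ := by rw [h2]
        _ = y * e * y⁻¹ * (y * y) * x * (y * y)⁻¹ := by group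
        _ = y * e * y⁻¹ * x := by rw [hy2]; group
    calc f * x * f⁻¹ = p * (y * p * y⁻¹ * x * (y * p * y⁻¹)⁻¹) * p⁻¹ := by rw [hf]; group
      _ = (p * (y * e * y⁻¹)) * x * p⁻¹ := by rw [h3]; group
      _ = (y * e * y⁻¹) * (p * x * p⁻¹) := by rw [hAA p hpA e heA]; group
      _ = (y * e * y⁻¹ * e) * x := by rw [h1]; group
      _ = d * x := by rw [← hAA e heA e heA, hde]
  have hfy : f * y = y * f := by
    have h6 := hAA p hpA p hpA
    calc f * y = (p * (y * p * y⁻¹)) * y := by rw [hf]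
      _ = (y * p * y⁻¹ * p) * y := by rw [h6]
      _ = y * p * (y⁻¹ * p * y) := by group
      _ = y * (p * (y * p * y⁻¹)) := by rw [hyi]; group
      _ = y * f := by rw [hf]
  have hfX : f ∉ X := by
    intro h1
    have h2 := hyp2 q hq hqq
    have h3 : d = f * q * f⁻¹ * q⁻¹ := by rw [h2]; group
    refine fact5 e heA oe hec ?_
    rw [← hde, h3]
    have e1 : m⁻¹ * (f * q * f⁻¹ * q⁻¹) * m =
        (m⁻¹ * f * m) * (m⁻¹ * q * m) * (m⁻¹ * f * m)⁻¹ * (m⁻¹ * q * m)⁻¹ := by group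
    rw [e1]
    exact hM.comm (hmX' f h1) (hmX' q (hM.le hq))
  have hfS : f ∈ (S : Subgroup G) :=
    mul_mem (hAS hpA) (mul_mem (mul_mem (hXS hyX) (hAS hpA)) (inv_mem (hXS hyX)))
  have hfd : f * d = d * f := by
    have h1 := hAA p hpA e heA
    have h2 := hAA e heA p hpA
    have c1 : Commute p e := hpe
    have c2 : Commute p (y * e * y⁻¹) := h1
    have c3 : Commute (y * p * y⁻¹) e := h2.symm
    have c4 : Commute (y * p * y⁻¹) (y * e * y⁻¹) := hype
    rw [hf, hde]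
    exact ((c1.mul_right c2).mul_left (c3.mul_right c4)).eq
  have htrf : Tr (S : Subgroup G) X f d := by
    refine ⟨hfS, hfX, htr.dmem, htr.sq, htr.cen, hfd, fun x hx => ?_⟩
    have hM' : ∀ x ∈ M, f * x * f⁻¹ = x ∨ f * x * f⁻¹ = d * x := by
      intro x hx
      rcases hpq x hx with h1 | h1
      · left; exact hyp1 x hx h1
      · right; exact hyp2 x hx h1
    by_cases hxM : x ∈ M
    · exact hM' x hxM
    · obtain ⟨a, ha, rfl⟩ := hM.exists_eq hx hxM hyX hyM
      have e1 : f * (y * a) * f⁻¹ = y * (f * a * f⁻¹) := by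
        calc f * (y * a) * f⁻¹ = (f * y) * a * f⁻¹ := by group
          _ = y * (f * a * f⁻¹) := by rw [hfy]; group
      rw [e1]
      rcases hM' a ha with h1 | h1
      · left; rw [h1]
      · right
        rw [h1]
        calc y * (d * a) = (y * d) * a := by group
          _ = d * (y * a) := by rw [hyc d htr.dmem]; group
  exact hmM (Tr.mem_star hB.ess htr htrf hm hfy)

end Bad

/-- **`N_G(X) ≤ H` for every essential subgroup `X`.** -/
theorem Frame.normalizer_le [Finite G] {S : Sylow 2 G} {H : Subgroup G} {𝓛 : Set (Subgroup G)}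
    (h : Frame (S : Subgroup G) H 𝓛) {X : Subgroup G} (hX : IsEss 2 (S : Subgroup G) X) :
    normalizer (X : Set G) ≤ H := by
  by_contra hn
  exact Bad.false h ⟨hX, hn⟩

end Cfsg.Agent.OddHalf.D3.Fus
end
end

-- part: UGT/ThEL34/Facts
section
set_option linter.all false
open scoped Cfsg.Agent.FastGrp

/-!
# Facts on `L₃(4)` used by Theorem E (node `L₃(4)`)

`L = L₃(4)`, `x` an involutory automorphism of `L` with `C_L(x) = 3² : Q₈` (unitary polarity); everything
is stated in `MulAut L`. `Wild x a`: `a` is an involutory automorphism that is neither inner nor in `x Inn L`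
(field type: `C_L(a) = L₃(2)`; graph type: `C_L(a) = A₅`).
-/

set_option autoImplicit false

open Subgroup

namespace Cfsg.Agent.UGT.ThEL34

variable {L : Type*} [Group L]

/-- involutory automorphisms of field or graph type: the image in `Out L` is neither trivial nor that of `x` -/
structure Wild (x a : MulAut L) : Prop where
  sq : a * a = 1
  inn : ∀ l, a ≠ MulAut.conj l
  xinn : ∀ l, a ≠ x * MulAut.conj l

/-- the fixed points of an automorphism -/
def fx (a : MulAut L) : Subgroup L where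
  carrier := {l | a l = l}
  mul_mem' {l m} hl hm := by
    change a (l * m) = l * m
    rw [map_mul, show a l = l from hl, show a m = m from hm]
  one_mem' := map_one a
  inv_mem' {l} hl := by
    change a l⁻¹ = l⁻¹
    rw [map_inv, show a l = l from hl]

theorem mem_fx {a : MulAut L} {l : L} : l ∈ fx a ↔ a l = l := Iff.rfl

/-- The facts on `L = L₃(4)` and its automorphisms. -/
structure Facts (x : MulAut L) : Prop where
  xx : x * x = 1
  /-- `Z(L) = 1` -/
  cl : ∀ l : L, MulAut.conj l = 1 → l = 1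
  simp : IsSimpleGroup L
  /-- `Out L` is solvable -/
  inn : ∀ (ψ : L →* MulAut L) (l : L), ∃ l', ψ l = MulAut.conj l'
  chi0 : ∃ χ : MulAut L →* ℤˣ, χ x = -1
  chi1 : ∃ χ : MulAut L →* ℤˣ, χ x = 1 ∧ ∀ a, Wild x a → χ a = -1
  /-- the involutions of `x Inn L` are conjugate under `L` -/
  xconj : ∀ l, (x * MulAut.conj l) * (x * MulAut.conj l) = 1 →
    ∃ m, MulAut.conj m * (x * MulAut.conj l) * (MulAut.conj m)⁻¹ = x
  /-- an involution of `L` is a commutator in its centraliser (a Sylow 2-subgroup of `L`) -/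
  cmt : ∀ s : L, s * s = 1 → s ≠ 1 → ∃ a b : L, a * s = s * a ∧ b * s = s * b ∧ s = a * b * a⁻¹ * b⁻¹
  solx : Group.IsSolvable (centralizer ({x} : Set (MulAut L)))
  sols : ∀ s : L, s * s = 1 → s ≠ 1 → Group.IsSolvable (centralizer ({MulAut.conj s} : Set (MulAut L)))
  /-- commuting involutions of `C_L(x) = 3² : Q₈` are equal -/
  comm : ∀ s s' : L, s * s = 1 → s' * s' = 1 → s ≠ 1 → s' ≠ 1 → x s = s → x s' = s' →
    s * s' = s' * s → s = s'
  /-- `C_L(x)` is irreducible on `O(C_L(x)) = 3²` -/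
  irr : ∀ y z : L, y ^ 3 = 1 → y ≠ 1 → x y = y → z ^ 3 = 1 → x z = z →
    z ∈ closure {w | ∃ r, x r = r ∧ w = r * y * r⁻¹}
  /-- elements of order 3 of `C_L(x)` form a subgroup -/
  three : ∀ y z : L, y ^ 3 = 1 → x y = y → z ^ 3 = 1 → x z = z → (y * z) ^ 3 = 1
  /-- `O(C_L(x))` is not cyclic -/
  indep : ∃ y z : L, y ^ 3 = 1 ∧ x y = y ∧ z ^ 3 = 1 ∧ x z = z ∧ y ≠ 1 ∧ z ≠ 1 ∧ y ≠ z ∧ y ≠ z⁻¹
  /-- the Sylow 3-subgroup of `Out L` has order 3 -/
  out3 : ∀ b c : MulAut L, b ^ 3 = 1 → c ^ 3 = 1 → (∃ l, c = MulAut.conj l) ∨ (∃ l, b = MulAut.conj l) ∨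
    (∃ l, b = c * MulAut.conj l) ∨ ∃ l, b = c⁻¹ * MulAut.conj l
  wsimp : ∀ a, Wild x a → IsSimpleGroup (fx a)
  wperf : ∀ a, Wild x a → commutator (fx a) = ⊤
  weven : ∀ a, Wild x a → 2 ∣ Nat.card (fx a)
  wgen : ∀ a, Wild x a → ∀ i : L, i * i = 1 → i ≠ 1 → a i = i →
    fx a ⊔ centralizer ({i} : Set L) = ⊤
  /-- `C_L(C_L(a)) = 1` -/
  wcl : ∀ a, Wild x a → ∀ l : L, (∀ j, a j = j → l * j = j * l) → l = 1
  wpair : ∀ a b, Wild x a → Wild x b → a * b = b * a → (∃ l, a * b = x * MulAut.conj l) →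
    fx a ⊔ fx b = ⊤
  wthree : ∀ a, Wild x a → a * x = x * a → ∃ y : L, y ^ 3 = 1 ∧ y ≠ 1 ∧ a y = y ∧ x y = y
  /-- a root element `i` in the centre of the Sylow subgroup `C_L(s)` and an involution `j` outside -/
  p3 : ∀ s i j : L, s * s = 1 → s ≠ 1 → i * i = 1 → i ≠ 1 → j * j = 1 → j ≠ 1 →
    (∀ p, p * s = s * p → p * i = i * p) → i ≠ s → j * s = s * j → j * i = i * j →
    j ≠ i → j ≠ s → j ≠ i * s →
    ∃ n p : L, n * j = j * n ∧ p * i = i * p ∧ s = p * (n * i * n⁻¹ * i⁻¹) * p⁻¹ * (n * i * n⁻¹ * i⁻¹)⁻¹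
  /-- `C_L(s)` has class two -/
  p4 : ∀ s : L, s * s = 1 → s ≠ 1 → ∀ p q r : L, p * s = s * p → q * s = s * q → r * s = s * r →
    (p * q * p⁻¹ * q⁻¹) * r = r * (p * q * p⁻¹ * q⁻¹)
  /-- with elementary abelian centre -/
  p4' : ∀ s : L, s * s = 1 → s ≠ 1 → ∀ p : L, p * s = s * p → (∀ r, r * s = s * r → r * p = p * r) →
    p * p = 1
  /-- `x` interchanges the two `2⁴` of `C_L(s)`, `s ∈ C_L(x)` -/
  p5 : ∀ s i : L, s * s = 1 → s ≠ 1 → x s = s → i * i = 1 → i * s = s * i →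
    (∃ p, p * s = s * p ∧ p * i ≠ i * p) → i * x i ≠ x i * i

end Cfsg.Agent.UGT.ThEL34
end

-- part: UGT/L34/TwoGp
section
prune_inst 0x602044203222120000000592310020744400049200600001c8000e04024187600000210036801110080aaa0000080020128800d040000000200004000000040180a842060340a10426000f808004000000000000000000000000000000000004200000000
set_option linter.all false
open scoped Cfsg.Agent.FastGrp

-- part: UGT/L34/Model
section
/-!
# A Sylow 2-subgroup of `Aut L₃(4)`

`E` = `Heis F4` extended by the field automorphism `φ` and the graph automorphism `γ` (order 256). `px = φγ` is the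
unitary polarity.
-/

set_option autoImplicit false

open Cfsg.Agent.SporadicA.FieldFour
open Cfsg.Agent.StdL3.Heis

namespace Cfsg.Agent.UGT.L34

/-- the Sylow 2-subgroup of `L₃(4)` -/
abbrev H : Type := Heis F4

theorem fadd_self (u : F4) : u + u = 0 := by revert u; decide

theorem fsq_add (u v : F4) : (u + v) * (u + v) = u * u + v * v := by revert u v; decide

theorem fsq_sq (u : F4) : (u * u) * (u * u) = u := by revert u; decide

theorem add_add_cancel' (u v : F4) : u + v + v = u := by rw [add_assoc, fadd_self, add_zero]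

/-- field automorphism -/
def ph (h : H) : H := ⟨h.a * h.a, h.b * h.b, h.c * h.c⟩

/-- graph automorphism -/
def gr (h : H) : H := ⟨h.b, h.a, h.c + h.a * h.b⟩

theorem ph_mul (u v : H) : ph (u * v) = ph u * ph v := by
  apply Heis.ext
  · exact fsq_add _ _
  · exact fsq_add _ _
  · change (u.c + v.c + u.a * v.b) * (u.c + v.c + u.a * v.b) = u.c * u.c + v.c * v.c + u.a * u.a * (v.b * v.b)
    rw [fsq_add, fsq_add]; ring

theorem gr_mul (u v : H) : gr (u * v) = gr u * gr v := by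
  apply Heis.ext
  · rfl
  · rfl
  · change u.c + v.c + u.a * v.b + (u.a + v.a) * (u.b + v.b) = u.c + u.a * u.b + (v.c + v.a * v.b) + u.b * v.a
    have h := fadd_self (u.a * v.b)
    linear_combination h

theorem ph_ph (u : H) : ph (ph u) = u := Heis.ext (fsq_sq _) (fsq_sq _) (fsq_sq _)

theorem gr_gr (u : H) : gr (gr u) = u := by
  apply Heis.ext
  · rfl
  · rfl
  · change u.c + u.a * u.b + u.b * u.a = u.c
    rw [mul_comm u.b, add_add_cancel']

theorem ph_gr (u : H) : ph (gr u) = gr (ph u) := by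
  apply Heis.ext
  · rfl
  · rfl
  · change (u.c + u.a * u.b) * (u.c + u.a * u.b) = u.c * u.c + u.a * u.a * (u.b * u.b)
    rw [fsq_add]; ring

/-- the action of the four-group `⟨φ, γ⟩` -/
def act (f g : Bool) (h : H) : H := cond f (ph (cond g (gr h) h)) (cond g (gr h) h)

theorem act_mul (f g : Bool) (u v : H) : act f g (u * v) = act f g u * act f g v := by
  cases f <;> cases g <;> simp [act, ph_mul, gr_mul]

theorem act_act (f g f' g' : Bool) (u : H) : act f g (act f' g' u) = act (xor f f') (xor g g') u := by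
  cases f <;> cases g <;> cases f' <;> cases g' <;> simp [act, ph_ph, gr_gr, ← ph_gr]

theorem act_ff (u : H) : act false false u = u := rfl

/-- The Sylow 2-subgroup of `Aut L₃(4)`. -/
@[ext]
structure E : Type where
  h : H
  f : Bool
  g : Bool

namespace E

instance instMul : Mul E := ⟨fun s t => ⟨s.h * act s.f s.g t.h, xor s.f t.f, xor s.g t.g⟩⟩
instance instOne : One E := ⟨⟨1, false, false⟩⟩
instance instInv : Inv E := ⟨fun s => ⟨act s.f s.g s.h⁻¹, s.f, s.g⟩⟩

theorem mul_def (s t : E) : s * t = ⟨s.h * act s.f s.g t.h, xor s.f t.f, xor s.g t.g⟩ := rfl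

theorem one_def : (1 : E) = ⟨1, false, false⟩ := rfl

theorem act_one (f g : Bool) : act f g 1 = 1 := by
  have h := act_mul f g 1 1
  rw [mul_one] at h
  exact (mul_eq_left.mp h.symm)

theorem act_inv (f g : Bool) (u : H) : act f g u⁻¹ = (act f g u)⁻¹ := by
  rw [eq_inv_iff_mul_eq_one, ← act_mul, inv_mul_cancel, act_one]

instance instGroup : Group E :=
  Group.ofLeftAxioms
    (by
      intro x y z
      simp only [mul_def]
      ext1
      · rw [act_mul, act_act, mul_assoc]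
      · exact Bool.xor_assoc _ _ _
      · exact Bool.xor_assoc _ _ _)
    (by
      intro x
      simp only [mul_def, one_def]
      ext1
      · rw [act_ff, one_mul]
      · exact Bool.false_xor _
      · exact Bool.false_xor _)
    (by
      intro x
      change (⟨act x.f x.g x.h⁻¹ * act x.f x.g x.h, xor x.f x.f, xor x.g x.g⟩ : E) = ⟨1, false, false⟩
      ext1
      · change act x.f x.g x.h⁻¹ * act x.f x.g x.h = 1
        rw [← act_mul, inv_mul_cancel, act_one]
      · exact Bool.xor_self _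
      · exact Bool.xor_self _)

end E

end Cfsg.Agent.UGT.L34
end

-- part: UGT/L34/Facts
section
/-!
# Facts on the Sylow 2-subgroup `E` of `Aut L₃(4)`
-/

set_option autoImplicit false
set_option linter.constructorNameAsVariable false
set_option linter.unusedVariables false

open Cfsg.Agent.SporadicA.FieldFour
open Cfsg.Agent.StdL3.Heis
open Subgroup

namespace Cfsg.Agent.UGT.L34

instance decH : DecidableEq H := fun u v =>
  decidable_of_iff (u.a = v.a ∧ u.b = v.b ∧ u.c = v.c)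
    ⟨fun h => Heis.ext h.1 h.2.1 h.2.2, fun h => by subst h; exact ⟨rfl, rfl, rfl⟩⟩

instance decE : DecidableEq E := fun u v =>
  decidable_of_iff (u.h = v.h ∧ u.f = v.f ∧ u.g = v.g)
    ⟨fun h => E.ext h.1 h.2.1 h.2.2, fun h => by subst h; exact ⟨rfl, rfl, rfl⟩⟩

/-- element by coordinates -/
def el (a b c : F4) (f g : Bool) : E := ⟨⟨a, b, c⟩, f, g⟩

theorem eta (s : E) : s = el s.h.a s.h.b s.h.c s.f s.g := rfl

/-- unitary polarity -/
def px : E := el 0 0 0 true true
/-- field automorphism -/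
def pf : E := el 0 0 0 true false
/-- graph automorphism -/
def pg : E := el 0 0 0 false true
/-- the central involution -/
def pb : E := el 0 0 1 false false

/-- the inner part -/
def U : Subgroup E where
  carrier := {s | s.f = false ∧ s.g = false}
  mul_mem' {s t} hs ht := by
    change xor s.f t.f = false ∧ xor s.g t.g = false
    rw [hs.1, hs.2, ht.1, ht.2]; exact ⟨rfl, rfl⟩
  one_mem' := ⟨rfl, rfl⟩
  inv_mem' {s} hs := hs

theorem mem_U {s : E} : s ∈ U ↔ s.f = false ∧ s.g = false := Iff.rfl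

instance (s : E) : Decidable (s ∈ U) := decidable_of_iff (s.f = false ∧ s.g = false) mem_U.symm

/-- sign of a label -/
def sg (b : Bool) : ℤˣ := cond b (-1) 1

theorem sg_xor (b c : Bool) : sg (xor b c) = sg b * sg c := by cases b <;> cases c <;> decide

/-- field part -/
def lf : E →* ℤˣ where
  toFun s := sg s.f
  map_one' := rfl
  map_mul' s t := sg_xor _ _

/-- graph part -/
def lg : E →* ℤˣ where
  toFun s := sg s.g
  map_one' := rfl
  map_mul' s t := sg_xor _ _

theorem sg_eq_one {b : Bool} : sg b = 1 ↔ b = false := by cases b <;> decide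

theorem lf_eq_one {s : E} : lf s = 1 ↔ s.f = false := sg_eq_one
theorem lg_eq_one {s : E} : lg s = 1 ↔ s.g = false := sg_eq_one

theorem mem_U_iff {s : E} : s ∈ U ↔ lf s = 1 ∧ lg s = 1 := by rw [lf_eq_one, lg_eq_one]; rfl

theorem unit_sq (u : ℤˣ) : u * u = 1 := by
  rcases Int.units_eq_one_or u with h | h <;> rw [h] <;> rfl

theorem sq_mem_U (s : E) : s * s ∈ U := by
  rw [mem_U_iff, map_mul, map_mul]
  exact ⟨unit_sq _, unit_sq _⟩

theorem conj_mem_U {s u : E} (hu : u ∈ U) : s * u * s⁻¹ ∈ U := by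
  rw [mem_U_iff] at hu ⊢
  simp only [map_mul, map_inv, hu.1, hu.2, mul_one, mul_inv_cancel]
  exact ⟨trivial, trivial⟩

theorem comm_mem_U (s t : E) : s * t * s⁻¹ * t⁻¹ ∈ U := by
  rw [mem_U_iff]
  simp only [map_mul, map_inv]
  constructor
  · rw [mul_comm (lf s), mul_inv_cancel_right, mul_inv_cancel]
  · rw [mul_comm (lg s), mul_inv_cancel_right, mul_inv_cancel]

/-- elements of `E` as tuples: induction principle for `decide` -/
theorem forall_E {p : E → Prop} (h : ∀ (a b c : F4) (f g : Bool), p (el a b c f g)) (s : E) : p s :=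
  h s.h.a s.h.b s.h.c s.f s.g

theorem forall_U {p : E → Prop} (h : ∀ (a b c : F4), p (el a b c false false)) {s : E} (hs : s ∈ U) : p s := by
  have h1 : s = el s.h.a s.h.b s.h.c false false := by
    conv_lhs => rw [eta s, hs.1, hs.2]
  rw [h1]; exact h _ _ _

theorem mk_mem_U (a b c : F4) : el a b c false false ∈ U := ⟨rfl, rfl⟩

theorem pb_mem : pb ∈ U := ⟨rfl, rfl⟩

theorem pb_ne : pb ≠ 1 := by decide

theorem pb_sq : pb * pb = 1 := by decide

theorem px_sq : px * px = 1 := by decide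

theorem pb_central : ∀ s : E, pb * s = s * pb := forall_E (by decide +kernel)

/-- (E2) -/
theorem cent_top (z : E) (hU : ∀ u ∈ U, z * u = u * z) (hx : z * px = px * z) : z = 1 ∨ z = pb := by
  have h1 := hU _ (mk_mem_U .o .z .z)
  have h2 := hU _ (mk_mem_U .w .z .z)
  have h3 := hU _ (mk_mem_U .z .o .z)
  have h4 := hU _ (mk_mem_U .z .w .z)
  revert z
  exact fun z _ hx h1 h2 h3 h4 => forall_E (p := fun z => z * px = px * z →
    z * el .o .z .z false false = el .o .z .z false false * z →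
    z * el .w .z .z false false = el .w .z .z false false * z →
    z * el .z .o .z false false = el .z .o .z false false * z →
    z * el .z .w .z false false = el .z .w .z false false * z →
    z = 1 ∨ z = pb) (by decide +kernel) z hx h1 h2 h3 h4

/-- two generators of the quaternion group `C_U(px)` -/
def q1 : E := el 1 1 .w false false
/-- two generators of the quaternion group `C_U(px)` -/
def q2 : E := el .w .v .w false false

theorem q1_mem : q1 ∈ U := ⟨rfl, rfl⟩
theorem q2_mem : q2 ∈ U := ⟨rfl, rfl⟩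
theorem q1_px : q1 * px = px * q1 := by decide
theorem q2_px : q2 * px = px * q2 := by decide
theorem q1_sq : q1 * q1 = pb := by decide
theorem q2_sq : q2 * q2 = pb := by decide
theorem q_comm : q1 * q2 * q1⁻¹ * q2⁻¹ = pb := by decide

/-- (E3) -/
theorem cent_x (z : E) (hx : z * px = px * z) (h1 : z * q1 = q1 * z) (h2 : z * q2 = q2 * z) :
    z = 1 ∨ z = pb ∨ z = px ∨ z = px * pb := by
  revert z
  exact forall_E (by decide +kernel)

/-- (E5) -/
theorem inv_cent_x (z : E) (hz : z ∈ U) (hx : z * px = px * z) (h2 : z * z = 1) : z = 1 ∨ z = pb := by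
  revert hx h2
  exact forall_U (p := fun z => z * px = px * z → z * z = 1 → z = 1 ∨ z = pb) (by decide +kernel) hz

/-- involutions of label `x` are conjugate -/
theorem conj_x (y : E) (h1 : y.f = true) (h2 : y.g = true) (hy : y * y = 1) :
    ∃ u ∈ U, u * px * u⁻¹ = y := by
  have key : ∀ a b c : F4, el a b c true true * el a b c true true = 1 →
      ∃ p q r : F4, el p q r false false * px * (el p q r false false)⁻¹ = el a b c true true := by
    decide +kernel
  have e : y = el y.h.a y.h.b y.h.c true true := by conv_lhs => rw [eta y, h1, h2]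
  rw [e] at hy ⊢
  obtain ⟨p, q, r, h⟩ := key _ _ _ hy
  exact ⟨_, mk_mem_U p q r, h⟩

theorem conj_f (y : E) (h1 : y.f = true) (h2 : y.g = false) (hy : y * y = 1) :
    ∃ u ∈ U, u * pf * u⁻¹ = y := by
  have key : ∀ a b c : F4, el a b c true false * el a b c true false = 1 →
      ∃ p q r : F4, el p q r false false * pf * (el p q r false false)⁻¹ = el a b c true false := by
    decide +kernel
  have e : y = el y.h.a y.h.b y.h.c true false := by conv_lhs => rw [eta y, h1, h2]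
  rw [e] at hy ⊢
  obtain ⟨p, q, r, h⟩ := key _ _ _ hy
  exact ⟨_, mk_mem_U p q r, h⟩

theorem conj_g (y : E) (h1 : y.f = false) (h2 : y.g = true) (hy : y * y = 1) :
    ∃ u ∈ U, u * pg * u⁻¹ = y := by
  have key : ∀ a b c : F4, el a b c false true * el a b c false true = 1 →
      ∃ p q r : F4, el p q r false false * pg * (el p q r false false)⁻¹ = el a b c false true := by
    decide +kernel
  have e : y = el y.h.a y.h.b y.h.c false true := by conv_lhs => rw [eta y, h1, h2]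
  rw [e] at hy ⊢
  obtain ⟨p, q, r, h⟩ := key _ _ _ hy
  exact ⟨_, mk_mem_U p q r, h⟩

/-- the centre of `U` -/
def ZU : Subgroup E where
  carrier := {s | (s.f = false ∧ s.g = false) ∧ s.h.a = 0 ∧ s.h.b = 0}
  mul_mem' {s t} hs ht := by
    refine ⟨U.mul_mem hs.1 ht.1, ?_, ?_⟩
    · change s.h.a + (act s.f s.g t.h).a = 0
      rw [hs.1.1, hs.1.2, hs.2.1]; change 0 + t.h.a = 0; rw [ht.2.1, add_zero]
    · change s.h.b + (act s.f s.g t.h).b = 0
      rw [hs.1.1, hs.1.2, hs.2.2]; change 0 + t.h.b = 0; rw [ht.2.2, add_zero]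
  one_mem' := ⟨⟨rfl, rfl⟩, rfl, rfl⟩
  inv_mem' {s} hs := by
    refine ⟨hs.1, ?_, ?_⟩
    · change (act s.f s.g s.h⁻¹).a = 0
      rw [hs.1.1, hs.1.2]; change -s.h.a = 0; rw [hs.2.1, neg_zero]
    · change (act s.f s.g s.h⁻¹).b = 0
      rw [hs.1.1, hs.1.2]; change -s.h.b = 0; rw [hs.2.2, neg_zero]

/-- the elementary abelian subgroup `a = 0` -/
def A1 : Subgroup E where
  carrier := {s | (s.f = false ∧ s.g = false) ∧ s.h.a = 0}
  mul_mem' {s t} hs ht := by
    refine ⟨U.mul_mem hs.1 ht.1, ?_⟩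
    · change s.h.a + (act s.f s.g t.h).a = 0
      rw [hs.1.1, hs.1.2, hs.2]; change 0 + t.h.a = 0; rw [ht.2, add_zero]
  one_mem' := ⟨⟨rfl, rfl⟩, rfl⟩
  inv_mem' {s} hs := by
    refine ⟨hs.1, ?_⟩
    · change (act s.f s.g s.h⁻¹).a = 0
      rw [hs.1.1, hs.1.2]; change -s.h.a = 0; rw [hs.2, neg_zero]

/-- the elementary abelian subgroup `b = 0` -/
def A2 : Subgroup E where
  carrier := {s | (s.f = false ∧ s.g = false) ∧ s.h.b = 0}
  mul_mem' {s t} hs ht := by
    refine ⟨U.mul_mem hs.1 ht.1, ?_⟩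
    · change s.h.b + (act s.f s.g t.h).b = 0
      rw [hs.1.1, hs.1.2, hs.2]; change 0 + t.h.b = 0; rw [ht.2, add_zero]
  one_mem' := ⟨⟨rfl, rfl⟩, rfl⟩
  inv_mem' {s} hs := by
    refine ⟨hs.1, ?_⟩
    · change (act s.f s.g s.h⁻¹).b = 0
      rw [hs.1.1, hs.1.2]; change -s.h.b = 0; rw [hs.2, neg_zero]

theorem mem_A1 {s : E} : s ∈ A1 ↔ s ∈ U ∧ s.h.a = 0 := Iff.rfl
theorem mem_A2 {s : E} : s ∈ A2 ↔ s ∈ U ∧ s.h.b = 0 := Iff.rfl
theorem mem_ZU {s : E} : s ∈ ZU ↔ s ∈ U ∧ s.h.a = 0 ∧ s.h.b = 0 := Iff.rfl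

theorem A1_inf_A2 : A1 ⊓ A2 = ZU := by
  ext s
  rw [mem_inf, mem_A1, mem_A2, mem_ZU]
  tauto

theorem forall_A1 {p : E → Prop} (h : ∀ (b c : F4), p (el 0 b c false false)) {s : E} (hs : s ∈ A1) : p s := by
  have h1 : s = el 0 s.h.b s.h.c false false := by
    conv_lhs => rw [eta s, hs.1.1, hs.1.2, hs.2]
  rw [h1]; exact h _ _

theorem forall_A2 {p : E → Prop} (h : ∀ (a c : F4), p (el a 0 c false false)) {s : E} (hs : s ∈ A2) : p s := by
  have h1 : s = el s.h.a 0 s.h.c false false := by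
    conv_lhs => rw [eta s, hs.1.1, hs.1.2, hs.2]
  rw [h1]; exact h _ _

theorem forall_ZU {p : E → Prop} (h : ∀ (c : F4), p (el 0 0 c false false)) {s : E} (hs : s ∈ ZU) : p s := by
  have h1 : s = el 0 0 s.h.c false false := by
    conv_lhs => rw [eta s, hs.1.1, hs.1.2, hs.2.1, hs.2.2]
  rw [h1]; exact h _

/-- elementary abelian -/
def Elem {X : Type*} [Group X] (V : Subgroup X) : Prop :=
  (∀ u ∈ V, u * u = 1) ∧ ∀ u ∈ V, ∀ v ∈ V, u * v = v * u

theorem elem_A1 : Elem A1 :=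
  ⟨fun _ hu => forall_A1 (p := fun u => u * u = 1) (by decide +kernel) hu, fun u hu v hv =>
    forall_A1 (p := fun u => u * v = v * u) (fun b c => forall_A1
      (p := fun v => el 0 b c false false * v = v * el 0 b c false false)
      (by revert b c; decide +kernel) hv) hu⟩

theorem elem_A2 : Elem A2 :=
  ⟨fun _ hu => forall_A2 (p := fun u => u * u = 1) (by decide +kernel) hu, fun u hu v hv =>
    forall_A2 (p := fun u => u * v = v * u) (fun b c => forall_A2
      (p := fun v => el b 0 c false false * v = v * el b 0 c false false)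
      (by revert b c; decide +kernel) hv) hu⟩

theorem card_A1 : Nat.card A1 = 16 := by
  have e : A1 ≃ F4 × F4 :=
    { toFun := fun s => (s.1.h.b, s.1.h.c)
      invFun := fun t => ⟨el 0 t.1 t.2 false false, ⟨⟨rfl, rfl⟩, rfl⟩⟩
      left_inv := fun s => Subtype.ext (by
        change el 0 s.1.h.b s.1.h.c false false = s.1
        conv_rhs => rw [eta s.1, s.2.1.1, s.2.1.2, s.2.2])
      right_inv := fun _ => rfl }
  rw [Nat.card_congr e, Nat.card_eq_fintype_card]
  decide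

theorem card_A2 : Nat.card A2 = 16 := by
  have e : A2 ≃ F4 × F4 :=
    { toFun := fun s => (s.1.h.a, s.1.h.c)
      invFun := fun t => ⟨el t.1 0 t.2 false false, ⟨⟨rfl, rfl⟩, rfl⟩⟩
      left_inv := fun s => Subtype.ext (by
        change el s.1.h.a 0 s.1.h.c false false = s.1
        conv_rhs => rw [eta s.1, s.2.1.1, s.2.1.2, s.2.2])
      right_inv := fun _ => rfl }
  rw [Nat.card_congr e, Nat.card_eq_fintype_card]
  decide

theorem card_ZU : Nat.card ZU = 4 := by
  have e : ZU ≃ F4 :=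
    { toFun := fun s => s.1.h.c
      invFun := fun t => ⟨el 0 0 t false false, ⟨⟨rfl, rfl⟩, rfl, rfl⟩⟩
      left_inv := fun s => Subtype.ext (by
        change el 0 0 s.1.h.c false false = s.1
        conv_rhs => rw [eta s.1, s.2.1.1, s.2.1.2, s.2.2.1, s.2.2.2])
      right_inv := fun _ => rfl }
  rw [Nat.card_congr e, Nat.card_eq_fintype_card]
  decide

/-- (E13) -/
theorem inv_U {u : E} (hu : u ∈ U) (h2 : u * u = 1) : u ∈ A1 ∨ u ∈ A2 := by
  have key : u.h.a * u.h.b = 0 := by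
    revert h2
    exact forall_U (p := fun u => u * u = 1 → u.h.a * u.h.b = 0) (by decide +kernel) hu
  rcases mul_eq_zero.mp key with h | h
  · exact Or.inl ⟨hu, h⟩
  · exact Or.inr ⟨hu, h⟩

theorem comm_U {u v : E} (hu : u ∈ U) (hv : v ∈ U) (h : u * v = v * u) : u.h.a * v.h.b = v.h.a * u.h.b := by
  have e1 : u = ⟨u.h, false, false⟩ := by
    conv_lhs => rw [show u = ⟨u.h, u.f, u.g⟩ from rfl, hu.1, hu.2]
  have e2 : v = ⟨v.h, false, false⟩ := by
    conv_lhs => rw [show v = ⟨v.h, v.f, v.g⟩ from rfl, hv.1, hv.2]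
  rw [e1, e2] at h
  have h1 : u.h * v.h = v.h * u.h := congrArg E.h h
  exact (commute_iff _ _).mp h1

instance finE : Finite E := by
  have : Function.Injective (fun s : E => ((s.h.a, s.h.b, s.h.c), (s.f, s.g))) := by
    intro s t h
    simp only [Prod.mk.injEq] at h
    exact E.ext (Heis.ext h.1.1 h.1.2.1 h.1.2.2) h.2.1 h.2.2
  exact Finite.of_injective _ this

/-- (E8) -/
theorem conj_px : ∃ u ∈ U, u * px * u⁻¹ = px * pb := ⟨el .o .o .z false false, mk_mem_U _ _ _, by decide⟩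

/-- (E9) -/
theorem exists_comm_A : ∃ u ∈ A1, ∃ v ∈ A2, u * v * u⁻¹ * v⁻¹ = pb :=
  ⟨el .z .o .z false false, ⟨⟨rfl, rfl⟩, rfl⟩, el .o .z .z false false, ⟨⟨rfl, rfl⟩, rfl⟩, by decide⟩

/-- (E12) -/
theorem cent_g (y z : E) (h1 : y.f = false) (hz : z ∈ ZU) : y * z = z * y := by
  have e : y = el y.h.a y.h.b y.h.c false y.g := by conv_lhs => rw [eta y, h1]
  rw [e]
  have key : ∀ (a b c : F4) (g : Bool) (d : F4), el a b c false g * el 0 0 d false false =
      el 0 0 d false false * el a b c false g := by decide +kernel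
  exact forall_ZU (p := fun z => el y.h.a y.h.b y.h.c false y.g * z =
    z * el y.h.a y.h.b y.h.c false y.g) (fun d => key _ _ _ _ d) hz

/-- the centralizer of the graph automorphism -/
theorem cent_pg (s : E) (h : s * pg = pg * s) : s.h.a = 0 ∧ s.h.b = 0 := by
  revert s
  exact forall_E (by decide +kernel)

theorem cent_pf (u : E) (hu : u ∈ U) (h : u * pf = pf * u) (h2 : u * u = 1) :
    (u.h.a = 0 ∧ u.h.b = 0 ∧ (u.h.c = 0 ∨ u.h.c = 1)) ∨ (u.h.a = 1 ∧ u.h.b = 0 ∧ (u.h.c = 0 ∨ u.h.c = 1)) ∨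
    (u.h.a = 0 ∧ u.h.b = 1 ∧ (u.h.c = 0 ∨ u.h.c = 1)) := by
  revert h h2
  exact forall_U (p := fun u => u * pf = pf * u → u * u = 1 →
    (u.h.a = 0 ∧ u.h.b = 0 ∧ (u.h.c = 0 ∨ u.h.c = 1)) ∨ (u.h.a = 1 ∧ u.h.b = 0 ∧ (u.h.c = 0 ∨ u.h.c = 1)) ∨
    (u.h.a = 0 ∧ u.h.b = 1 ∧ (u.h.c = 0 ∨ u.h.c = 1))) (by decide +kernel) hu

/-- (E11) for the standard graph automorphism -/
theorem comm_of_cent_pg (s t : E) (hs : s * pg = pg * s) (ht : t * pg = pg * t) (hs2 : s * s ≠ 1)
    (ht2 : t * t ≠ 1) : s * t = t * s := by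
  have e1 : s = el 0 0 s.h.c s.f s.g := by
    conv_lhs => rw [eta s, (cent_pg s hs).1, (cent_pg s hs).2]
  have e2 : t = el 0 0 t.h.c t.f t.g := by
    conv_lhs => rw [eta t, (cent_pg t ht).1, (cent_pg t ht).2]
  have key : ∀ (c : F4) (f g : Bool) (c' : F4) (f' g' : Bool), el 0 0 c f g * el 0 0 c f g ≠ 1 →
      el 0 0 c' f' g' * el 0 0 c' f' g' ≠ 1 →
      el 0 0 c f g * el 0 0 c' f' g' = el 0 0 c' f' g' * el 0 0 c f g := by decide +kernel
  rw [e1] at hs2 ⊢
  rw [e2] at ht2 ⊢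
  exact key _ _ _ _ _ _ hs2 ht2

/-- (E11) -/
theorem comm_of_cent_g {y : E} (h1 : y.f = false) (h2 : y.g = true) (hy : y * y = 1) {s t : E}
    (hs : s * y = y * s) (ht : t * y = y * t) (hs2 : s * s ≠ 1) (ht2 : t * t ≠ 1) : s * t = t * s := by
  obtain ⟨u, -, rfl⟩ := conj_g y h1 h2 hy
  have hc : ∀ s : E, s * (u * pg * u⁻¹) = (u * pg * u⁻¹) * s →
      (u⁻¹ * s * u) * pg = pg * (u⁻¹ * s * u) := by
    intro s h
    calc (u⁻¹ * s * u) * pg = u⁻¹ * (s * (u * pg * u⁻¹)) * u := by group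
      _ = u⁻¹ * ((u * pg * u⁻¹) * s) * u := by rw [h]
      _ = _ := by group
  have hn : ∀ s : E, s * s ≠ 1 → (u⁻¹ * s * u) * (u⁻¹ * s * u) ≠ 1 := by
    intro s h1 h2
    apply h1
    calc s * s = u * ((u⁻¹ * s * u) * (u⁻¹ * s * u)) * u⁻¹ := by group
      _ = 1 := by rw [h2]; group
  have h := comm_of_cent_pg _ _ (hc s hs) (hc t ht) (hn s hs2) (hn t ht2)
  calc s * t = u * ((u⁻¹ * s * u) * (u⁻¹ * t * u)) * u⁻¹ := by group
    _ = u * ((u⁻¹ * t * u) * (u⁻¹ * s * u)) * u⁻¹ := by rw [h]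
    _ = _ := by group

/-- index at most two -/
theorem card_le_two_mul {X : Type*} [Group X] [Finite X] (V : Subgroup X) (χ : X →* ℤˣ) :
    Nat.card V ≤ 2 * Nat.card (V ⊓ χ.ker : Subgroup X) := by
  have h1 := (Subgroup.card_eq_card_quotient_mul_card_subgroup (χ.comp V.subtype).ker)
  have h2 : Nat.card (V ⧸ (χ.comp V.subtype).ker) ≤ 2 := by
    have h3 := Nat.card_le_card_of_injective _ (QuotientGroup.kerLift_injective (χ.comp V.subtype))
    have h4 : Nat.card ℤˣ = 2 := by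
      rw [Nat.card_eq_fintype_card, Fintype.card_units_int]
    rwa [h4] at h3
  have h5 : Nat.card (χ.comp V.subtype).ker = Nat.card (V ⊓ χ.ker : Subgroup X) := by
    have e : (V ⊓ χ.ker : Subgroup X) = ((χ.comp V.subtype).ker).map V.subtype := by
      ext x
      rw [mem_inf, mem_map]
      constructor
      · rintro ⟨h1, h2⟩
        exact ⟨⟨x, h1⟩, h2, rfl⟩
      · rintro ⟨⟨y, hy⟩, h1, rfl⟩
        exact ⟨hy, h1⟩
    rw [e, card_map_of_injective V.subtype_injective]
  rw [h1, h5]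
  exact Nat.mul_le_mul_right _ h2

theorem elem_mono {X : Type*} [Group X] {V W : Subgroup X} (h : V ≤ W) (hW : Elem W) : Elem V :=
  ⟨fun u hu => hW.1 u (h hu), fun u hu v hv => hW.2 u (h hu) v (h hv)⟩

theorem elem_map {X Y : Type*} [Group X] [Group Y] {V : Subgroup X} (hV : Elem V) (ψ : X →* Y) :
    Elem (V.map ψ) := by
  constructor
  · rintro _ ⟨u, hu, rfl⟩
    rw [← map_mul, hV.1 u hu, map_one]
  · rintro _ ⟨u, hu, rfl⟩ _ ⟨v, hv, rfl⟩
    rw [← map_mul, hV.2 u hu v hv, map_mul]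

/-- (E4) outside `U` -/
theorem card_lt_of_not_le {V : Subgroup E} (hV : Elem V) (hne : ¬ V ≤ U) : Nat.card V < 16 := by
  -- an element of label `x`
  have hx : ∀ V : Subgroup E, Elem V → px ∈ V → Nat.card V ≤ 8 := by
    intro V hV hx
    have h1 := card_le_two_mul V lf
    have h2 := card_le_two_mul (V ⊓ lf.ker) lg
    have h3 : Nat.card ((V ⊓ lf.ker) ⊓ lg.ker : Subgroup E) ≤ 2 := by
      have hf : ∀ s : ((V ⊓ lf.ker) ⊓ lg.ker : Subgroup E), s.1 = 1 ∨ s.1 = pb := fun s =>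
        inv_cent_x s.1 (mem_U_iff.mpr ⟨s.2.1.2, s.2.2⟩) (hV.2 _ s.2.1.1 _ hx) (hV.1 _ s.2.1.1)
      classical
      have hinj : Function.Injective
          (fun s : ((V ⊓ lf.ker) ⊓ lg.ker : Subgroup E) => decide (s.1 = 1)) := by
        intro s t h
        have h' : decide (s.1 = 1) = decide (t.1 = 1) := h
        rw [decide_eq_decide] at h'
        apply Subtype.ext
        rcases hf s with h1 | h1
        · rw [h1, h'.mp h1]
        · rcases hf t with h2 | h2
          · rw [h'.mpr h2, h2]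
          · rw [h1, h2]
      have h4 := Nat.card_le_card_of_injective _ hinj
      have h5 : Nat.card Bool = 2 := by rw [Nat.card_eq_fintype_card]; rfl
      rwa [h5] at h4
    omega
  -- conjugation
  have hcj : ∀ (V : Subgroup E) (u : E), Elem V → Elem (V.map (MulAut.conj u).toMonoidHom) ∧
      Nat.card (V.map (MulAut.conj u).toMonoidHom) = Nat.card V := by
    intro V u hV
    exact ⟨elem_map hV _, card_map_of_injective (MulAut.conj u).injective⟩
  by_cases hlx : ∃ y ∈ V, y.f = true ∧ y.g = true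
  · obtain ⟨y, hyV, h1, h2⟩ := hlx
    obtain ⟨u, -, hu⟩ := conj_x y h1 h2 (hV.1 y hyV)
    have h3 := hcj V u⁻¹ hV
    have h4 := hx _ h3.1 ⟨y, hyV, by
      change u⁻¹ * y * u⁻¹⁻¹ = px
      rw [← hu]; group⟩
    omega
  -- the labels of `V`
  have hker : ∀ V : Subgroup E, (¬ ∃ y ∈ V, y.f = true ∧ y.g = true) →
      Nat.card V ≤ 2 * Nat.card (V ⊓ U : Subgroup E) := by
    intro V hV
    have h1 := card_le_two_mul V (lf * lg)
    refine h1.trans (Nat.mul_le_mul_left _ ?_)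
    apply Subgroup.card_le_of_le
    rintro s ⟨h2, h3⟩
    refine ⟨h2, ?_⟩
    have h4 : sg s.f * sg s.g = 1 := h3
    have h5 : ¬ (s.f = true ∧ s.g = true) := fun h => hV ⟨s, h2, h⟩
    change s.f = false ∧ s.g = false
    revert h4 h5
    cases s.f <;> cases s.g <;> decide
  have h16 := hker V hlx
  obtain ⟨y, hyV, hyU⟩ := SetLike.not_le_iff_exists.mp hne
  have hcjU : ∀ u : E, Nat.card (V.map (MulAut.conj u).toMonoidHom ⊓ U : Subgroup E) =
      Nat.card (V ⊓ U : Subgroup E) := by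
    intro u
    have e : (V.map (MulAut.conj u).toMonoidHom ⊓ U : Subgroup E) =
        (V ⊓ U).map (MulAut.conj u).toMonoidHom := by
      ext s
      constructor
      · rintro ⟨⟨v, hv, rfl⟩, h⟩
        refine ⟨v, ⟨hv, ?_⟩, rfl⟩
        have := conj_mem_U (s := u⁻¹) h
        have e2 : u⁻¹ * (u * v * u⁻¹) * u⁻¹⁻¹ = v := by group
        change u⁻¹ * (u * v * u⁻¹) * u⁻¹⁻¹ ∈ U at this
        rw [e2] at this
        exact this
      · rintro ⟨v, ⟨hv, hvU⟩, rfl⟩
        exact ⟨⟨v, hv, rfl⟩, conj_mem_U hvU⟩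
    rw [e, card_map_of_injective (MulAut.conj u).injective]
  -- `|V ∩ U| ≤ 6`
  have hle : Nat.card (V ⊓ U : Subgroup E) ≤ 6 := by
    rcases hyf : y.f with _ | _
    · rcases hyg : y.g with _ | _
      · exact absurd (mem_U.mpr ⟨hyf, hyg⟩) hyU
      · obtain ⟨u, -, hu⟩ := conj_g y hyf hyg (hV.1 y hyV)
        rw [← hcjU u⁻¹]
        have h3 := (hcj V u⁻¹ hV).1
        have h4 : pg ∈ V.map (MulAut.conj u⁻¹).toMonoidHom := ⟨y, hyV, by
          change u⁻¹ * y * u⁻¹⁻¹ = pg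
          rw [← hu]; group⟩
        have h5 : (V.map (MulAut.conj u⁻¹).toMonoidHom ⊓ U : Subgroup E) ≤ ZU := by
          rintro s ⟨hs, hsU⟩
          exact ⟨hsU, cent_pg s (h3.2 _ hs _ h4)⟩
        have h6 := Subgroup.card_le_of_le h5
        rw [card_ZU] at h6
        omega
    · rcases hyg : y.g with _ | _
      · obtain ⟨u, -, hu⟩ := conj_f y hyf hyg (hV.1 y hyV)
        rw [← hcjU u⁻¹]
        have h3 := (hcj V u⁻¹ hV).1
        have h4 : pf ∈ V.map (MulAut.conj u⁻¹).toMonoidHom := ⟨y, hyV, by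
          change u⁻¹ * y * u⁻¹⁻¹ = pf
          rw [← hu]; group⟩
        have hinj : Function.Injective
            (fun s : (V.map (MulAut.conj u⁻¹).toMonoidHom ⊓ U : Subgroup E) =>
              ((if s.1.h.a = 1 then (0 : Fin 3) else if s.1.h.b = 1 then 1 else 2), decide (s.1.h.c = 0))) := by
          intro s t h
          have e1 := cent_pf s.1 s.2.2 (h3.2 _ s.2.1 _ h4) (h3.1 _ s.2.1)
          have e2 := cent_pf t.1 t.2.2 (h3.2 _ t.2.1 _ h4) (h3.1 _ t.2.1)
          simp only [Prod.mk.injEq, decide_eq_decide] at h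
          obtain ⟨h1, h2⟩ := h
          have hne : (0 : F4) ≠ 1 := zero_ne_one
          apply Subtype.ext
          refine E.ext (Heis.ext ?_ ?_ ?_) (s.2.2.1.trans t.2.2.1.symm) (s.2.2.2.trans t.2.2.2.symm)
          · rcases e1 with ⟨a1, b1, c1⟩ | ⟨a1, b1, c1⟩ | ⟨a1, b1, c1⟩ <;>
              rcases e2 with ⟨a2, b2, c2⟩ | ⟨a2, b2, c2⟩ | ⟨a2, b2, c2⟩ <;>
              simp only [a1, b1, a2, b2, hne, _root_.MulEquiv.toMonoidHom_eq_coe, ↓ _root_.reduceIte, _root_.Fin.isValue, _root_.Fin.reduceEq, _root_.zero_ne_one, _root_.one_ne_zero] at h1 ⊢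
          · rcases e1 with ⟨a1, b1, c1⟩ | ⟨a1, b1, c1⟩ | ⟨a1, b1, c1⟩ <;>
              rcases e2 with ⟨a2, b2, c2⟩ | ⟨a2, b2, c2⟩ | ⟨a2, b2, c2⟩ <;>
              simp only [a1, b1, a2, b2, hne, _root_.MulEquiv.toMonoidHom_eq_coe, ↓ _root_.reduceIte, _root_.Fin.isValue, _root_.Fin.reduceEq, _root_.zero_ne_one, _root_.one_ne_zero] at h1 ⊢
          · have c1 : s.1.h.c = 0 ∨ s.1.h.c = 1 := by (clear * - e1; tauto)
            have c2 : t.1.h.c = 0 ∨ t.1.h.c = 1 := by (clear * - e2; tauto)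
            rcases c1 with c1 | c1
            · rw [c1, h2.mp c1]
            · rcases c2 with c2 | c2
              · rw [h2.mpr c2, c2]
              · rw [c1, c2]
        have h5 := Nat.card_le_card_of_injective _ hinj
        have h6 : Nat.card (Fin 3 × Bool) = 6 := by rw [Nat.card_eq_fintype_card]; rfl
        rwa [h6] at h5
      · exact absurd ⟨y, hyV, hyf, hyg⟩ hlx
  omega

/-- (E4) -/
theorem elem_big {V : Subgroup E} (hV : Elem V) (h16 : 16 ≤ Nat.card V) : V = A1 ∨ V = A2 := by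
  have hU : V ≤ U := by
    by_contra h
    have := card_lt_of_not_le hV h
    omega
  by_cases ha : ∀ v ∈ V, v.h.a = 0
  · left
    have h1 : V ≤ A1 := fun v hv => ⟨hU hv, ha v hv⟩
    exact Subgroup.eq_of_le_of_card_ge h1 (by rw [card_A1]; exact h16)
  · right
    push Not at ha
    obtain ⟨v, hv, hva⟩ := ha
    have hvb : v.h.b = 0 := by
      rcases inv_U (hU hv) (hV.1 v hv) with h | h
      · exact absurd h.2 hva
      · exact h.2
    have h1 : V ≤ A2 := by
      intro w hw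
      refine ⟨hU hw, ?_⟩
      have h2 := comm_U (hU hv) (hU hw) (hV.2 v hv w hw)
      rw [hvb, mul_zero] at h2
      exact (mul_eq_zero.mp h2).resolve_left hva
    exact Subgroup.eq_of_le_of_card_ge h1 (by rw [card_A2]; exact h16)

theorem px_not_mem : px ∉ U := by rw [mem_U]; rintro ⟨h, -⟩; exact absurd h (by decide)

/-- an elementary abelian subgroup commuting with `px` has order at most 8 -/
theorem card_le_eight {V : Subgroup E} (hV : Elem V) (h : ∀ v ∈ V, v * px = px * v) : Nat.card V ≤ 8 := by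
  obtain ⟨n, hn⟩ : ∃ n, Nat.card V = 2 ^ n := by
    have h2 : IsPGroup 2 V := by
      intro v
      exact ⟨1, Subtype.ext (by
        change (v.1) ^ (2 ^ 1) = 1
        rw [pow_one, pow_two, hV.1 _ v.2])⟩
    have : Fact (Nat.Prime 2) := ⟨Nat.prime_two⟩
    exact IsPGroup.iff_card.mp h2
  by_contra hlt
  have h16 : 16 ≤ Nat.card V := by
    rw [hn] at hlt ⊢
    have : 3 < n := by
      by_contra h3
      exact hlt ((Nat.pow_le_pow_right (by norm_num) (by omega : n ≤ 3)).trans (by norm_num))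
    calc 16 = 2 ^ 4 := by norm_num
      _ ≤ 2 ^ n := Nat.pow_le_pow_right (by norm_num) (by omega)
  rcases elem_big hV h16 with rfl | rfl
  · exact absurd (h (el 0 1 0 false false) ⟨⟨rfl, rfl⟩, rfl⟩) (by decide)
  · exact absurd (h (el 1 0 0 false false) ⟨⟨rfl, rfl⟩, rfl⟩) (by decide)

end Cfsg.Agent.UGT.L34
end

-- part: UGT/L34/TwoGp
section
/-!
# 2-groups acting on `L₃(4)`

`ψ : T → E` with kernel `Q`, `P ≤ T` mapped isomorphically onto the inner part `U` of `E`, `[P, Q] = 1`.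

* `Mod.not_fusion` : no automorphism of `T` maps `b` to `b a`, `1 ≠ a ∈ Q` (`b ∈ P` the central involution).
-/

set_option autoImplicit false

open Subgroup

namespace Cfsg.Agent.UGT.L34

variable {T : Type*} [Group T]

/-- `ψ : T → E` maps `P` isomorphically onto `U` and its kernel centralizes `P`. -/
structure Mod (ψ : T →* E) (P : Subgroup T) : Prop where
  mem : ∀ p ∈ P, ψ p ∈ U
  surj : ∀ u ∈ U, ∃ p ∈ P, ψ p = u
  inj : ∀ p ∈ P, ψ p = 1 → p = 1
  comm : ∀ p ∈ P, ∀ q, ψ q = 1 → p * q = q * p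
  norm : ∀ t, ∀ p ∈ P, t * p * t⁻¹ ∈ P

theorem card_eq_inf_mul_map {X Y : Type*} [Group X] [Group Y] [Finite X] (ψ : X →* Y) (V : Subgroup X) :
    Nat.card V = Nat.card (V ⊓ ψ.ker : Subgroup X) * Nat.card (V.map ψ) := by
  have h1 := (Subgroup.card_eq_card_quotient_mul_card_subgroup (ψ.comp V.subtype).ker)
  have h2 : Nat.card (V ⧸ (ψ.comp V.subtype).ker) = Nat.card (V.map ψ) := by
    rw [Nat.card_congr (QuotientGroup.quotientKerEquivRange (ψ.comp V.subtype)).toEquiv]
    congr 1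
    rw [MonoidHom.range_eq_map, ← Subgroup.map_map, ← MonoidHom.range_eq_map, Subgroup.range_subtype]
  have h5 : Nat.card (ψ.comp V.subtype).ker = Nat.card (V ⊓ ψ.ker : Subgroup X) := by
    have e : (V ⊓ ψ.ker : Subgroup X) = ((ψ.comp V.subtype).ker).map V.subtype := by
      ext x
      rw [mem_inf, mem_map]
      constructor
      · rintro ⟨h1, h2⟩
        exact ⟨⟨x, h1⟩, h2, rfl⟩
      · rintro ⟨⟨y, hy⟩, h1, rfl⟩
        exact ⟨hy, h1⟩
    rw [e, card_map_of_injective V.subtype_injective]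
  rw [h1, h5, h2, mul_comm]

section

variable {ψ : T →* E} {P : Subgroup T}

theorem Mod.split (M : Mod ψ P) {t : T} (ht : ψ t ∈ U) : ∃ p ∈ P, ∃ q, ψ q = 1 ∧ t = p * q := by
  obtain ⟨p, hp, h⟩ := M.surj _ ht
  refine ⟨p, hp, p⁻¹ * t, ?_, ?_⟩
  · rw [map_mul, map_inv, h, inv_mul_cancel]
  · rw [mul_inv_cancel_left]

theorem Mod.ext (M : Mod ψ P) {p p' : T} (hp : p ∈ P) (hp' : p' ∈ P) (h : ψ p = ψ p') : p = p' := by
  have h1 := M.inj (p * p'⁻¹) (P.mul_mem hp (P.inv_mem hp')) (by rw [map_mul, map_inv, h, mul_inv_cancel])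
  exact mul_inv_eq_one.mp h1

/-- squares of `p q` -/
theorem Mod.sq_split (M : Mod ψ P) {p q : T} (hp : p ∈ P) (hq : ψ q = 1) (h : (p * q) * (p * q) = 1) :
    p * p = 1 ∧ q * q = 1 := by
  have h1 := M.comm p hp q hq
  have h2 : (p * p) * (q * q) = 1 := by
    rw [← h]
    calc p * p * (q * q) = p * (p * q) * q := by group
      _ = p * (q * p) * q := by rw [h1]
      _ = _ := by group
  have h3 : p * p = 1 := by
    apply M.inj _ (P.mul_mem hp hp)
    have := congrArg ψ h2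
    rwa [map_mul ψ (p * p), map_mul ψ q, hq, mul_one, mul_one, map_one] at this
  rw [h3, one_mul] at h2
  exact ⟨h3, h2⟩

/-- adjoin an involution to an elementary abelian subgroup -/
theorem exists_adjoin {X : Type*} [Group X] {F : Subgroup X} (hF : Elem F) {q : X} (hq : q * q = 1)
    (hc : ∀ f ∈ F, q * f = f * q) : ∃ F' : Subgroup X, F ≤ F' ∧ q ∈ F' ∧ Elem F' ∧
      ∀ y ∈ F', y ∈ F ∨ ∃ f ∈ F, y = q * f := by
  have hqi : q⁻¹ = q := inv_eq_of_mul_eq_one_left hq
  let F' : Subgroup X :=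
    { carrier := {y | y ∈ F ∨ ∃ f ∈ F, y = q * f}
      mul_mem' := by
        rintro y z (hy | ⟨f, hf, rfl⟩) (hz | ⟨f', hf', rfl⟩)
        · exact Or.inl (F.mul_mem hy hz)
        · refine Or.inr ⟨y * f', F.mul_mem hy hf', ?_⟩
          rw [← mul_assoc, ← hc y hy, mul_assoc]
        · exact Or.inr ⟨f * z, F.mul_mem hf hz, by rw [mul_assoc]⟩
        · refine Or.inl ?_
          have : q * f * (q * f') = (q * q) * (f * f') := by
            calc q * f * (q * f') = q * (f * q) * f' := by group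
              _ = q * (q * f) * f' := by rw [hc f hf]
              _ = _ := by group
          rw [this, hq, one_mul]
          exact F.mul_mem hf hf'
      one_mem' := Or.inl F.one_mem
      inv_mem' := by
        rintro y (hy | ⟨f, hf, rfl⟩)
        · exact Or.inl (F.inv_mem hy)
        · refine Or.inr ⟨f⁻¹, F.inv_mem hf, ?_⟩
          rw [mul_inv_rev, hqi, ← hc _ (F.inv_mem hf)] }
  refine ⟨F', fun f hf => Or.inl hf, Or.inr ⟨1, F.one_mem, (mul_one q).symm⟩, ⟨?_, ?_⟩, fun y hy => hy⟩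
  · rintro y (hy | ⟨f, hf, rfl⟩)
    · exact hF.1 y hy
    · calc q * f * (q * f) = q * (f * q) * f := by group
        _ = q * (q * f) * f := by rw [hc f hf]
        _ = (q * q) * (f * f) := by group
        _ = 1 := by rw [hq, hF.1 f hf, one_mul]
  · rintro y (hy | ⟨f, hf, rfl⟩) z (hz | ⟨f', hf', rfl⟩)
    · exact hF.2 y hy z hz
    · rw [← mul_assoc, ← hc y hy, mul_assoc, mul_assoc, hF.2 y hy f' hf']
    · rw [mul_assoc, hF.2 f hf z hz, ← mul_assoc, hc z hz, mul_assoc]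
    · calc q * f * (q * f') = q * (f * q) * f' := by group
        _ = q * (q * f) * f' := by rw [hc f hf]
        _ = q * q * (f * f') := by group
        _ = q * q * (f' * f) := by rw [hF.2 f hf f' hf']
        _ = q * (q * f') * f := by group
        _ = q * (f' * q) * f := by rw [hc f' hf']
        _ = _ := by group

/-- The 2-group part of the proof that `a`, `b`, `ab` are not conjugate. -/
theorem Mod.not_fusion [Finite T] (M : Mod ψ P) {a b : T} (ha : ψ a = 1) (ha1 : a ≠ 1) (hb : b ∈ P)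
    (hψb : ψ b = pb) (ν : T ≃* T) : ν b ≠ b * a := by
  classical
  intro hν
  -- a maximal elementary abelian subgroup of the kernel
  obtain ⟨F, ⟨hFQ, hFe⟩, hFmax⟩ : ∃ F : Subgroup T, (F ≤ ψ.ker ∧ Elem F) ∧
      ∀ F' : Subgroup T, F' ≤ ψ.ker → Elem F' → Nat.card F' ≤ Nat.card F := by
    obtain ⟨F, hF⟩ := Set.Finite.exists_maximalFor (fun F : Subgroup T => Nat.card F)
      {F : Subgroup T | F ≤ ψ.ker ∧ Elem F} (Set.toFinite _) ⟨⊥, bot_le, by
        constructor
        · rintro u hu; rw [mem_bot] at hu; rw [hu, one_mul]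
        · rintro u hu v hv; rw [mem_bot] at hu hv; rw [hu, hv]⟩
    refine ⟨F, hF.1, fun F' h1 h2 => ?_⟩
    by_contra hlt
    push Not at hlt
    exact absurd (hF.2 ⟨h1, h2⟩ hlt.le) (not_le.mpr hlt)
  have hFpos : 0 < Nat.card F := Nat.card_pos
  -- `Aᵢ F`
  have key : ∀ A : Subgroup E, A ≤ U → Elem A → ∃ V : Subgroup T, Elem V ∧ F ≤ V ∧
      V.map ψ = A ∧ (V ⊓ ψ.ker : Subgroup T) = F ∧ ∀ p ∈ P, ψ p ∈ A → p ∈ V := by
    intro A hAU hA
    let V : Subgroup T :=
      { carrier := {t | ∃ p ∈ P, ∃ q ∈ F, ψ p ∈ A ∧ t = p * q}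
        mul_mem' := by
          rintro _ _ ⟨p, hp, q, hq, h, rfl⟩ ⟨p', hp', q', hq', h', rfl⟩
          refine ⟨p * p', P.mul_mem hp hp', q * q', F.mul_mem hq hq', by rw [map_mul]; exact A.mul_mem h h', ?_⟩
          calc p * q * (p' * q') = p * (q * p') * q' := by group
            _ = p * (p' * q) * q' := by rw [M.comm p' hp' q (hFQ hq)]
            _ = _ := by group
        one_mem' := ⟨1, P.one_mem, 1, F.one_mem, by rw [map_one]; exact A.one_mem, (mul_one 1).symm⟩
        inv_mem' := by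
          rintro _ ⟨p, hp, q, hq, h, rfl⟩
          refine ⟨p⁻¹, P.inv_mem hp, q⁻¹, F.inv_mem hq, by rw [map_inv]; exact A.inv_mem h, ?_⟩
          rw [mul_inv_rev, M.comm _ (P.inv_mem hp) _ (hFQ (F.inv_mem hq))] }
    have hsq : ∀ p ∈ P, ψ p ∈ A → p * p = 1 := fun p hp h =>
      M.inj _ (P.mul_mem hp hp) (by rw [map_mul, hA.1 _ h])
    have hcm : ∀ p ∈ P, ψ p ∈ A → ∀ p' ∈ P, ψ p' ∈ A → p * p' = p' * p := fun p hp h p' hp' h' =>
      M.ext (P.mul_mem hp hp') (P.mul_mem hp' hp) (by rw [map_mul, hA.2 _ h _ h', map_mul])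
    refine ⟨V, ⟨?_, ?_⟩, fun q hq => ⟨1, P.one_mem, q, hq, by rw [map_one]; exact A.one_mem,
      (one_mul q).symm⟩, ?_, ?_, fun p hp h => ⟨p, hp, 1, F.one_mem, h, (mul_one p).symm⟩⟩
    · rintro _ ⟨p, hp, q, hq, h, rfl⟩
      calc p * q * (p * q) = p * (q * p) * q := by group
        _ = p * (p * q) * q := by rw [M.comm p hp q (hFQ hq)]
        _ = (p * p) * (q * q) := by group
        _ = 1 := by rw [hsq p hp h, hFe.1 q hq, one_mul]
    · rintro _ ⟨p, hp, q, hq, h, rfl⟩ _ ⟨p', hp', q', hq', h', rfl⟩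
      calc p * q * (p' * q') = p * (q * p') * q' := by group
        _ = p * (p' * q) * q' := by rw [M.comm p' hp' q (hFQ hq)]
        _ = (p * p') * (q * q') := by group
        _ = (p' * p) * (q' * q) := by rw [hcm p hp h p' hp' h', hFe.2 q hq q' hq']
        _ = p' * (p * q') * q := by group
        _ = p' * (q' * p) * q := by rw [M.comm p hp q' (hFQ hq')]
        _ = _ := by group
    · ext u
      constructor
      · rintro ⟨_, ⟨p, hp, q, hq, h, rfl⟩, rfl⟩
        rw [map_mul, show ψ q = 1 from hFQ hq, mul_one]; exact h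
      · intro hu
        obtain ⟨p, hp, rfl⟩ := M.surj u (hAU hu)
        exact ⟨p, ⟨p, hp, 1, F.one_mem, hu, (mul_one p).symm⟩, rfl⟩
    · ext t
      constructor
      · rintro ⟨⟨p, hp, q, hq, h, rfl⟩, h2⟩
        have h3 : ψ (p * q) = 1 := h2
        rw [map_mul, show ψ q = 1 from hFQ hq, mul_one] at h3
        rw [M.inj p hp h3, one_mul]
        exact hq
      · intro ht
        exact ⟨⟨1, P.one_mem, t, ht, by rw [map_one]; exact A.one_mem, (one_mul t).symm⟩, hFQ ht⟩
  obtain ⟨V1, hV1, hF1, hm1, hi1, hp1⟩ := key A1 (fun s hs => hs.1) elem_A1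
  obtain ⟨V2, hV2, hF2, hm2, hi2, hp2⟩ := key A2 (fun s hs => hs.1) elem_A2
  have hc1 : Nat.card V1 = Nat.card F * 16 := by
    rw [card_eq_inf_mul_map ψ V1, hi1, hm1, card_A1]
  have hc2 : Nat.card V2 = Nat.card F * 16 := by
    rw [card_eq_inf_mul_map ψ V2, hi2, hm2, card_A2]
  have hc12 : Nat.card F * 4 ≤ Nat.card (V1 ⊓ V2 : Subgroup T) := by
    have h1 : Nat.card F ≤ Nat.card ((V1 ⊓ V2) ⊓ ψ.ker : Subgroup T) :=
      Subgroup.card_le_of_le (fun q hq => ⟨⟨hF1 hq, hF2 hq⟩, hFQ hq⟩)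
    have h2 : 4 ≤ Nat.card ((V1 ⊓ V2).map ψ) := by
      rw [← card_ZU]
      apply Subgroup.card_le_of_le
      intro u hu
      obtain ⟨p, hp, rfl⟩ := M.surj u hu.1
      exact ⟨p, ⟨hp1 p hp ⟨hu.1, hu.2.1⟩, hp2 p hp ⟨hu.1, hu.2.2⟩⟩, rfl⟩
    rw [card_eq_inf_mul_map ψ (V1 ⊓ V2)]
    exact Nat.mul_le_mul h1 h2
  -- the images under `ν`
  have himg : ∀ V : Subgroup T, Elem V → Nat.card V = Nat.card F * 16 →
      V.map ψ = A1 ∨ V.map ψ = A2 := by
    intro V hV hc
    apply elem_big (elem_map hV ψ)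
    have h1 := card_eq_inf_mul_map ψ V
    have h2 := hFmax (V ⊓ ψ.ker) inf_le_right (elem_mono inf_le_left hV)
    rw [hc] at h1
    by_contra hlt
    push Not at hlt
    have h3 : Nat.card (V ⊓ ψ.ker : Subgroup T) * Nat.card (V.map ψ) ≤ Nat.card F * 15 :=
      Nat.mul_le_mul h2 (by omega)
    omega
  obtain ⟨e1, he1, e2, he2, he⟩ := exists_comm_A
  obtain ⟨p1, hp1P, rfl⟩ := M.surj e1 he1.1
  obtain ⟨p2, hp2P, rfl⟩ := M.surj e2 he2.1
  have hpb : p1 * p2 * p1⁻¹ * p2⁻¹ = b := by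
    apply M.ext _ hb
    · rw [map_mul, map_mul, map_mul, map_inv, map_inv, he, hψb]
    · exact P.mul_mem (P.mul_mem (P.mul_mem hp1P hp2P) (P.inv_mem hp1P)) (P.inv_mem hp2P)
  have hm1V : p1 ∈ V1 := hp1 p1 hp1P he1
  have hm2V : p2 ∈ V2 := hp2 p2 hp2P he2
  let W1 := V1.map (ν : T →* T)
  let W2 := V2.map (ν : T →* T)
  have hW1 : Elem W1 := elem_map hV1 _
  have hW2 : Elem W2 := elem_map hV2 _
  have hcW1 : Nat.card W1 = Nat.card F * 16 := by
    rw [← hc1]; exact card_map_of_injective ν.injective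
  have hcW2 : Nat.card W2 = Nat.card F * 16 := by
    rw [← hc2]; exact card_map_of_injective ν.injective
  have hn1 : ν p1 ∈ W1 := ⟨p1, hm1V, rfl⟩
  have hn2 : ν p2 ∈ W2 := ⟨p2, hm2V, rfl⟩
  have hcomm : ν p1 * ν p2 * (ν p1)⁻¹ * (ν p2)⁻¹ = b * a := by
    rw [← hν, ← hpb, map_mul, map_mul, map_mul, map_inv, map_inv]
  have hcommψ : ψ (ν p1) * ψ (ν p2) * (ψ (ν p1))⁻¹ * (ψ (ν p2))⁻¹ = pb := by
    have := congrArg ψ hcomm
    rwa [map_mul, map_mul, map_mul, map_inv, map_inv, map_mul ψ b, ha, mul_one, hψb] at this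
  -- the images in `E` are different
  have habel : ∀ A : Subgroup E, Elem A → W1.map ψ = A → W2.map ψ = A → False := by
    intro A hA h1 h2
    have h3 : ψ (ν p1) ∈ A := h1 ▸ mem_map_of_mem ψ hn1
    have h4 : ψ (ν p2) ∈ A := h2 ▸ mem_map_of_mem ψ hn2
    rw [hA.2 _ h3 _ h4, mul_inv_cancel_right, mul_inv_cancel] at hcommψ
    exact pb_ne hcommψ.symm
  have hZ : (W1.map ψ) ⊓ (W2.map ψ) = ZU := by
    rcases himg W1 hW1 hcW1 with h1 | h1 <;> rcases himg W2 hW2 hcW2 with h2 | h2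
    · exact (habel A1 elem_A1 h1 h2).elim
    · rw [h1, h2, A1_inf_A2]
    · rw [h1, h2, inf_comm, A1_inf_A2]
    · exact (habel A2 elem_A2 h1 h2).elim
  have hWU : W1.map ψ ≤ U ∧ W2.map ψ ≤ U := by
    constructor
    · rcases himg W1 hW1 hcW1 with h1 | h1 <;> rw [h1] <;> exact fun s hs => hs.1
    · rcases himg W2 hW2 hcW2 with h1 | h1 <;> rw [h1] <;> exact fun s hs => hs.1
  -- `F' = W1 ∩ W2 ∩ Q`
  have hcW : Nat.card F * 4 ≤ Nat.card (W1 ⊓ W2 : Subgroup T) := by
    have e : (W1 ⊓ W2 : Subgroup T) = (V1 ⊓ V2).map (ν : T →* T) :=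
      (Subgroup.map_inf V1 V2 (ν : T →* T) ν.injective).symm
    rw [e, card_map_of_injective (f := (ν : T →* T)) ν.injective]
    exact hc12
  obtain ⟨F', hF'⟩ : ∃ F' : Subgroup T, F' = (W1 ⊓ W2) ⊓ ψ.ker := ⟨_, rfl⟩
  have hF'e : Elem F' := hF' ▸ elem_mono (inf_le_left.trans inf_le_left) hW1
  have hF'Q : F' ≤ ψ.ker := hF' ▸ inf_le_right
  have hF'c : Nat.card F ≤ Nat.card F' := by
    have h1 := card_eq_inf_mul_map ψ (W1 ⊓ W2)
    have h2 : Nat.card ((W1 ⊓ W2).map ψ) ≤ 4 := by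
      rw [← card_ZU, ← hZ]
      exact Subgroup.card_le_of_le (Subgroup.map_inf_le W1 W2 ψ)
    rw [← hF'] at h1
    have h3 : Nat.card F' * Nat.card ((W1 ⊓ W2).map ψ) ≤ Nat.card F' * 4 := Nat.mul_le_mul_left _ h2
    omega
  -- the components in the kernel are in `F'`
  have hin : ∀ W : Subgroup T, Elem W → F' ≤ W → ∀ p ∈ P, ∀ q, ψ q = 1 → p * q ∈ W → q ∈ F' := by
    intro W hW hFW p hp q hq hpq
    have hqc : ∀ f ∈ F', q * f = f * q := by
      intro f hf
      have h1 := hW.2 _ hpq f (hFW hf)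
      have h2 := M.comm p hp f (hF'Q hf)
      have h3 : p * (q * f) = p * (f * q) := by
        calc p * (q * f) = p * q * f := by group
          _ = f * (p * q) := h1
          _ = (f * p) * q := by group
          _ = (p * f) * q := by rw [h2]
          _ = _ := by group
      exact mul_left_cancel h3
    have hq2 := (M.sq_split hp hq (hW.1 _ hpq)).2
    obtain ⟨F'', h1, h2, h3, h4⟩ := exists_adjoin hF'e hq2 hqc
    have h5 : F'' ≤ ψ.ker := by
      intro y hy
      rcases h4 y hy with h | ⟨f, hf, rfl⟩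
      · exact hF'Q h
      · change ψ (q * f) = 1
        rw [map_mul, hq, show ψ f = 1 from hF'Q hf, one_mul]
    have h6 := hFmax F'' h5 h3
    have h7 : F' = F'' := Subgroup.eq_of_le_of_card_ge h1 (h6.trans hF'c)
    rw [h7]; exact h2
  obtain ⟨r1, hr1, s1, hs1, e1'⟩ := M.split (hWU.1 (mem_map_of_mem ψ hn1))
  obtain ⟨r2, hr2, s2, hs2, e2'⟩ := M.split (hWU.2 (mem_map_of_mem ψ hn2))
  have hs1F : s1 ∈ F' := hin W1 hW1 (hF' ▸ inf_le_left.trans inf_le_left) r1 hr1 s1 hs1 (e1' ▸ hn1)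
  have hs2F : s2 ∈ F' := hin W2 hW2 (hF' ▸ inf_le_left.trans inf_le_right) r2 hr2 s2 hs2 (e2' ▸ hn2)
  have h12 := hF'e.2 s1 hs1F s2 hs2F
  rw [e1', e2'] at hcomm
  have c1 := M.comm r1 hr1 s1 hs1
  have c2 := M.comm r2 hr2 s2 hs2
  have c3 := M.comm r1 hr1 s2 hs2
  have c4 := M.comm r2 hr2 s1 hs1
  have hfin : r1 * s1 * (r2 * s2) * (r1 * s1)⁻¹ * (r2 * s2)⁻¹ = r1 * r2 * r1⁻¹ * r2⁻¹ := by
    have h1 : r1 * s1 * (r2 * s2) = (r1 * r2) * (s1 * s2) := by
      calc r1 * s1 * (r2 * s2) = r1 * (s1 * r2) * s2 := by group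
        _ = r1 * (r2 * s1) * s2 := by rw [c4]
        _ = _ := by group
    have h2 : r2 * s2 * (r1 * s1) = (r2 * r1) * (s2 * s1) := by
      calc r2 * s2 * (r1 * s1) = r2 * (s2 * r1) * s1 := by group
        _ = r2 * (r1 * s2) * s1 := by rw [c3]
        _ = _ := by group
    have h3 : r1 * s1 * (r2 * s2) * (r1 * s1)⁻¹ * (r2 * s2)⁻¹ =
        (r1 * s1 * (r2 * s2)) * (r2 * s2 * (r1 * s1))⁻¹ := by group
    rw [h3, h1, h2, h12]
    group
  rw [hfin] at hcomm
  have hr : r1 * r2 * r1⁻¹ * r2⁻¹ ∈ P :=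
    P.mul_mem (P.mul_mem (P.mul_mem hr1 hr2) (P.inv_mem hr1)) (P.inv_mem hr2)
  have hlast : r1 * r2 * r1⁻¹ * r2⁻¹ = b := by
    apply M.ext hr hb
    rw [hcomm, map_mul, ha, mul_one]
  rw [hlast] at hcomm
  exact ha1 (mul_eq_left.mp hcomm.symm)

end

end Cfsg.Agent.UGT.L34
end

private theorem dce_1067be339726 : _root_.True := by
  try have : _root_.True := by simp only [_root_.Cfsg.Agent.UGT.L34.act.eq_1]
  exact _root_.True.intro
end

-- part: StdL3/OuterForm
section
set_option linter.all false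
open scoped Cfsg.Agent.FastGrp

/-!
# Symmetric and hermitian forms of degree three over the field with four elements

A table of orthonormal rows checked by the kernel (all the matrices at once, on bit planes): every nondegenerate symmetric (hermitian) matrix
of degree three over `F4` is congruent to the identity.
-/

set_option autoImplicit false
set_option linter.constructorNameAsVariable false
set_option linter.unusedVariables false
set_option exponentiation.threshold 5000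

namespace Cfsg.Agent.StdL3.OuterForm

open Cfsg.Agent.SporadicA.FieldFour

/-- vectors -/
structure V : Type where
  x : F4
  y : F4
  z : F4

/-- evaluate the argument first -/
def frc {α : Type} (a : F4) (k : F4 → α) : α :=
  match a with
  | .z => k .z
  | .o => k .o
  | .w => k .w
  | .v => k .v

theorem frc_eq {α : Type} (a : F4) (k : F4 → α) : frc a k = k a := by cases a <;> rfl

/-- evaluate a vector first -/
def frcV {α : Type} (a : V) (k : V → α) : α :=
  frc a.x fun x => frc a.y fun y => frc a.z fun z => k ⟨x, y, z⟩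

theorem frcV_eq {α : Type} (a : V) (k : V → α) : frcV a k = k a := by
  rw [frcV, frc_eq, frc_eq, frc_eq]

/-- the conjugation: the Frobenius map if `b` is true -/
def bar (b : Bool) (a : F4) : F4 :=
  match b with
  | false => a
  | true =>
    match a with
    | .z => .z
    | .o => .o
    | .w => .v
    | .v => .w

theorem bar_true (a : F4) : bar true a = a * a := by cases a <;> rfl

/-- symmetric or hermitian matrix with rows `(a, b, c), (b̄, d, e), (c̄, ē, f)` applied to two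
vectors -/
def h (t : Bool) (a b c d e f : F4) (u v : V) : F4 :=
  frc (bar t v.x) fun p => frc (bar t v.y) fun q => frc (bar t v.z) fun r =>
    F4.add (F4.add
      (F4.mul u.x (F4.add (F4.add (F4.mul a p) (F4.mul b q)) (F4.mul c r)))
      (F4.mul u.y (F4.add (F4.add (F4.mul (bar t b) p) (F4.mul d q)) (F4.mul e r))))
      (F4.mul u.z (F4.add (F4.add (F4.mul (bar t c) p) (F4.mul (bar t e) q)) (F4.mul f r)))

def smV (s : F4) (u : V) : V := ⟨F4.mul s u.x, F4.mul s u.y, F4.mul s u.z⟩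

def is1 (a : F4) : Bool :=
  match a with
  | .o => true
  | _ => false

def is0 (a : F4) : Bool :=
  match a with
  | .z => true
  | _ => false

theorem is1_iff {a : F4} (ha : is1 a = true) : a = 1 := by
  cases a <;> first | rfl | exact absurd ha (by decide)

theorem is0_iff {a : F4} (ha : is0 a = true) : a = 0 := by
  cases a <;> first | rfl | exact absurd ha (by decide)

/-- the rows are orthonormal -/
def ok (t : Bool) (a b c d e f : F4) (r0 r1 r2 : V) : Bool :=
  is1 (h t a b c d e f r0 r0) && is1 (h t a b c d e f r1 r1) && is1 (h t a b c d e f r2 r2) &&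
  is0 (h t a b c d e f r0 r1) && is0 (h t a b c d e f r0 r2) && is0 (h t a b c d e f r1 r2) &&
  is0 (h t a b c d e f r1 r0) && is0 (h t a b c d e f r2 r0) && is0 (h t a b c d e f r2 r1)

/-- 4096 elements at once: two bit planes -/
private def Q : Type := ℕ × ℕ

private def fb : Bool → Bool → F4
  | false, false => .z
  | true, false => .o
  | false, true => .w
  | true, true => .v

/-- the element number `i` -/
private def Q.at (p : Q) (i : ℕ) : F4 := fb (p.1.testBit i) (p.2.testBit i)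

private noncomputable def T0 : List ℕ :=
  [0xaaaaaaaaaaaaaaaa000000000000000000000000000000000000000000000000aaaaaaaaaaaaaaaa000000000000000000000000000000000000000000000000aaaaaaaaaaaaaaaa0000000000000000000000000000000000000000000000000000000000000000,
  0xcccccccccccccccc000000000000000000000000000000000000000000000000cccccccccccccccc000000000000000000000000000000000000000000000000cccccccccccccccc0000000000000000000000000000000000000000000000000000000000000000,
  0x8882022440411100000000000000000000000000000000000000000000000000000000000000000000000000000000080882202044411100000000000000000000000000000000088080222404411100000000000000000000000000000000000000000000000000000000000000000000000000000000088802220444011100000000000000000000000000000000022020444808811100000000000000000000000000000000002224044880811100000000000000000000000000000000020224404088811100000000000000000000000000000000000000000000000000000000000000000000000000000000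00000000000000000222044408880111000000000000000004044880802221110000000000000000000000000000000004404088820221110000000000000000000000000000000000000000000000000000000000000000000000000000000000444808822021110000000000000000000000000000000000000000000000000000000000000000044408880222011107777ddddbbbbeeee0000000000000000ddddbbbb7777eeee0000000000000000bbbb7777ddddeeee00000000000000007777ddddbbbbeeee0000000000000000ddddbbbb7777eeee0000000000000000bbbb7777ddddeeee0000000000000000ffffffffffff00000000000000000000ffffffffffff00000000000000000000,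
  0x7777ddddbbbbeeeebbbb7777ddddeeee00000000000000000000000000000000bbbb7777ddddeeeeddddbbbb7777eeee00000000000000000000000000000000ddddbbbb7777eeee7777ddddbbbbeeee00000000000000000000000000000000ffffffffffff0000ffffffffffff000000000000000000000000000000000000,
  0x777d0ddbb0beee07beded7bdeb7b7de7edbbde7e7bddb7e7dbe7dbe7dbe7dbee7bd7edbbde7db7ed7ebebd7be7d7dbe7077dd0d0bbbeee0b7deb7deb7deb7deed7bdeb77bedb7deff0f0ffff0fffff0be7dd7ebebd77dbedb7edb7edb7edb7eebd7be7dd7eb7dbebde7e7bd7edbdb7edeb77beded7bb7defff0fff0fff0fff000000000000000000000000000000000000000000000000000000000000000000000000000000000022240448808111000000000000000000000000000000000202244040888111000000000000000000000000000000000000000000000000000000000000000000000000000000000000000000000000000000000000000007beded7bdeb7b7deb0bb77070dddeee0ebd7be7dd7eb7dbedb7edb7edb7edb7eff0f0ffff0fffff0deb77beded7bb7dee7bd7edbbde7db7e7dbe7dbe7dbe7dbebde7e7bd7edbdb7ebe7dd7ebebd77dbe0bbb7077dd0deee0b7deb7deb7deb7ded7ebebd7be7d7dbe7edbbde7e7bddb7eed7bdeb77bedb7defff0fff0fff0fff0000000000000000000000000000000000000000000000000000000000000000e000000000000000000000000000000000000000000000000000000000000000e000000000000000000000000000000000000000000000000000000000000000e8241824182410000248124812481000048214821482100000000000000000000,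
  0xffff0ffff0ffff07beded7bdeb7b7de7edbbde7e7bddb7e7dbe7dbe7dbe7dbee7bd7edbbde7db7ed7ebebd7be7d7dbe7077dd0d0bbbeee0b7deb7deb7deb7deed7bdeb77bedb7de77070dddb0bbeee0be7dd7ebebd77dbedb7edb7edb7edb7eebd7be7dd7eb7dbebde7e7bd7edbdb7edeb77beded7bb7defff0fff0fff0fff07edbbde7e7bddb7eebd7be7dd7eb7dbedd0d0bbb7077eee0b7deb7deb7deb7dedeb77beded7bb7de0ffff0ffff0ffff0d7ebebd7be7d7dbedb7edb7edb7edb7ed0ddbb0b0777eee0ed7bdeb77bedb7debde7e7bd7edbdb7e7dbe7dbe7dbe7dbebe7dd7ebebd77dbee7bd7edbbde7db7e7beded7bdeb7b7defff0fff0fff0fff000000000000000004044880802221110000000000000000000000000000000004404088820221110000000000000000000000000000000000000000000000000000000000000000000000000000000000000000000000000000000000000000000000000000000000000000000000000000000000000000000000000000000000000000000000000000000000000000000000000000000000000000000000000000000000000000000000000000000000000000000000000000000000000000000000000000000000000000000000000000000000000000000000000000000000000000000000000000000000000000000000000000000000000000000000000,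
  0xdd57057ea0eabb000000000000000000000000000000000000000000000000000000000000000000000000000000000d05d75070eeaabb000000000000000000000000000000000d50d0775e0aeabb0000000000000000000000000000000000000000000000000000000000000000000000000000000005dd05770aee0abb00000000000000000000000000000000075070eead05dabb0000000000000000000000000000000000775e0aed50dabb0000000000000000000000000000000007057ea0e0dd5abb00000000000000000000000000000000000000000000000000000000000000000000000000000000000000000000000005770aee05dd0abb00000000000000000e0aed50d0775abb000000000000000000000000000000000ea0e0dd57057abb0000000000000000000000000000000000000000000000000000000000000000000000000000000000eead05d7507abb00000000000000000000000000000000000000000000000000000000000000000aee05dd05770abb0000000000000000000000000000000000000000000000000aaaaaaaaaaaaaaaa000000000000000000000000000000000000000000000000aaaaaaaaaaaaaaaa000000000000000000000000000000000000000000000000aaaaaaaaaaaaaaaa55aad7ebd7eb00005a5a7edb7edb0000a55aed7bed7b00000000000000000000,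
  0x3bbc0ee7703ddc00000000000000000000000000000000000000000000000000000000000000000000000000000000030bbee0c0377ddc000000000000000000000000000000000bb030cee3077ddc000000000000000000000000000000000000000000000000000000000000000000000000000000000bb30eec07730ddc000000000000000000000000000000000ee0c037730bbddc0000000000000000000000000000000000cee3077bb03ddc000000000000000000000000000000000c0ee770303bbddc0000000000000000000000000000000000000000000000000000000000000000000000000000000000000000000000000eec07730bb30ddc000000000000000003077bb030ceeddc000000000000000000000000000000000770303bbc0eeddc000000000000000000000000000000000000000000000000000000000000000000000000000000000037730bbee0cddc000000000000000000000000000000000000000000000000000000000000000007730bb30eec0ddc0000000000000000000000000000000000000000000000000cccccccccccccccc000000000000000000000000000000000000000000000000cccccccccccccccc000000000000000000000000000000000000000000000000ccccccccccccccccbe7dbe7d3c3c0000e7bde7bdc33c00007bed7bed33cc00000000000000000000,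
  0x7beded7bdeb7b7de00000000000000007dbe7dbe7dbe7dbe0000000000000000d7ebebd7be7d7dbe0000000000000000b7deb7deb7deb7deed7bdeb77bedb7de0000000000000000be7dd7ebebd77dbe0000000000000000ebd7be7dd7eb7dbe0000000000000000deb77beded7bb7de00000000000000000000000000000000ebd7be7dd7eb7dbe0000000000000000b7deb7deb7deb7dedeb77beded7bb7de0000000000000000d7ebebd7be7d7dbe00000000000000000000000000000000ed7bdeb77bedb7de00000000000000007dbe7dbe7dbe7dbebe7dd7ebebd77dbe00000000000000007beded7bdeb7b7de00000000000000007beded7bdeb7b7de0000000000000000ebd7be7dd7eb7dbe00000000000000000000000000000000deb77beded7bb7de00000000000000007dbe7dbe7dbe7dbe0000000000000000be7dd7ebebd77dbe0000000000000000b7deb7deb7deb7ded7ebebd7be7d7dbe0000000000000000ed7bdeb77bedb7de00000000000000007777ddddbbbbeeee0000000000000000ddddbbbb7777eeee000000000000ca60bbbb7777ddddeeee00000000000000007777ddddbbbbeeee000000000000ca6eddddbbbb7777eeee0000000000000000bbbb7777ddddeeee000000000000ca6ed9315b3159710000eae0ee60cee000009371d3519b5100000000000000000000,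
  0x7edbbde7e7bddb7e7dbe7dbe7dbe7dbee7bd7edbbde7db7ed7ebebd7be7d7dbe0000000000000000000000000000000000000000000000000000000000000000be7dd7ebebd77dbedb7edb7edb7edb7eebd7be7dd7eb7dbebde7e7bd7edbdb7e000000000000000000000000000000007edbbde7e7bddb7eebd7be7dd7eb7dbe0000000000000000000000000000000000000000000000000000000000000000d7ebebd7be7d7dbedb7edb7edb7edb7e00000000000000000000000000000000bde7e7bd7edbdb7e7dbe7dbe7dbe7dbebe7dd7ebebd77dbee7bd7edbbde7db7e0000000000000000000000000000000000000000000000000000000000000000ebd7be7dd7eb7dbedb7edb7edb7edb7e00000000000000000000000000000000e7bd7edbbde7db7e7dbe7dbe7dbe7dbebde7e7bd7edbdb7ebe7dd7ebebd77dbe00000000000000000000000000000000d7ebebd7be7d7dbe7edbbde7e7bddb7e000000000000000000000000000000007777ddddbbbbeeeebbbb7777ddddeeee0000000000000000000000000000a6cebbbb7777ddddeeeeddddbbbb7777eeee0000000000000000000000000000a6ceddddbbbb7777eeee7777ddddbbbbeeee0000000000000000000000000000a6c0379135d1b591000093d1b35197510000aee0e6e0eec000000000000000000000,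
  0x55d909b330711107beded7bdeb7b7de00000000000000007dbe7dbe7dbe7dbee7bd7edbbde7db7e000000000000000050d5b90907331110b7deb7deb7deb7de00000000000000005d0509b970331110be7dd7ebebd77dbedb7edb7edb7edb7e000000000000000000000000000000000000000000000000d5509b90337011107edbbde7e7bddb7eebd7be7dd7eb7dbeee0c0eeae0e600000000000000000000deb77beded7bb7de0ceee0ae6e0e0000d7ebebd7be7d7dbe0000000000000000c0eeea0e0e6e0000ed7bdeb77bedb7debde7e7bd7edbdb7e0000000000000000000000000000000000000000000000000000000000000000eec0aee0e6e000007beded7bdeb7b7de909d330b055711100000000000000000db7edb7edb7edb7ed9090b33507511100000000000000000e7bd7edbbde7db7e7dbe7dbe7dbe7dbe0000000000000000be7dd7ebebd77dbe09d9b03357051110b7deb7deb7deb7de0000000000000000000000000000000000000000000000009d9033b0755011107777ddddbbbbeeeebbbb7777ddddeeee0000000000000000ccccaaaa66660000bbbb7777ddddeeee00000000000000007777ddddbbbbeeeeccccaaaa6666000000000000000000007777ddddbbbbeeeebbbb7777ddddeeeeccccaaaa666600000000000000000000000000000000000000000000000000000000000000000000,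
  0xb335075d909111000000000000000007edbbde7e7bddb7e7dbe7dbe7dbe7dbe0000000000000000d7ebebd7be7d7dbeb033570509d91110b7deb7deb7deb7deed7bdeb77bedb7de330b0557909d11100000000000000000db7edb7edb7edb7e00000000000000000000000000000000000000000000000033b075509d9011107edbbde7e7bddb7e0000000000000000b909073350d51110b7deb7deb7deb7de000000000000000009b970335d051110d7ebebd7be7d7dbedb7edb7edb7edb7e909b3307055d1110ed7bdeb77bedb7de00000000000000007dbe7dbe7dbe7dbe0000000000000000000000000000000000000000000000009b903370d55011107beded7bdeb7b7dee0ae6e0e0cee0000ebd7be7dd7eb7dbe0000000000000000ea0e0e6ec0ee0000deb77beded7bb7dee7bd7edbbde7db7e0000000000000000bde7e7bd7edbdb7ebe7dd7ebebd77dbe0eeae0e6ee0c00000000000000000000000000000000000000000000000000000000000000000000aee0e6e0eec000007777ddddbbbbeeee0000000000000000ddddbbbb7777eeeeaaaa6666cccc00000000000000000000ddddbbbb7777eeee7777ddddbbbbeeeeaaaa6666cccc0000ddddbbbb7777eeee7777ddddbbbbeeee0000000000000000aaaa6666cccc00000000000000000000000000000000000000000000000000000000000000000000,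
  0xdd57057ea0eabb05aa5a55a5aa5a55a5a5aa5a5a5a55a5a55aa55aa55aa55aaa5a55a5aa5a55a5a55aaaa55aa5555aad05d75070eeaabb0a55aa55aa55aa55aa55a5aa55aa5a55ad50d0775e0aeabb0aa5555aaaa5555aa5a5a5a5a5a5a5a5aaa55aa5555aa55aaa5a5a5a55a5a5a5a5aa55aa5a55aa55a5dd05770aee0abb05a5aa5a5a5a55a5aaa55aa5555aa55aa75070eead05dabb0a55aa55aa55aa55a5aa55aa5a55aa55a0775e0aed50dabb055aaaa55aa5555aa5a5a5a5a5a5a5a5a7057ea0e0dd5abb0a55a5aa55aa5a55aa5a5a5a55a5a5a5a55aa55aa55aa55aaaa5555aaaa5555aaa5a55a5aa5a55a5a5aa5a55a5aa5a55a5770aee05dd0abb05aa5a55a5aa5a55ae0aed50d0775abb0aa55aa5555aa55aa5a5a5a5a5a5a5a5aea0e0dd57057abb05aa55aa5a55aa55aa5a55a5aa5a55a5a55aa55aa55aa55aaa5a5a5a55a5a5a5aaa5555aaaa5555aa0eead05d7507abb0a55aa55aa55aa55a55aaaa55aa5555aa5a5aa5a5a5a55a5aa55a5aa55aa5a55aaee05dd05770abb055555555aaaaaaaaaaaa55555555aaaa5555aaaa5555aaaaaaaaaaaaaaaaaaaaaaaa55555555aaaa5555aaaa5555aaaa55555555aaaaaaaaaaaaaaaaaaaaaaaa5555aaaa5555aaaa55555555aaaaaaaaaaaa55555555aaaaaaaaaaaaaaaaaaaa55aad7ebd7eb00005a5a7edb7edb0000a55aed7bed7b00000000000000000000,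
  0x3bbc0ee7703ddc033cccc33cc3333cc3cc33cc3c33cc33c3c3c3c3c3c3c3c3cc33c3cc33cc3c33cc3c3c3c33c3c3c3c30bbee0c0377ddc033cc33cc33cc33cccc33cc3333cc33ccbb030cee3077ddc03c3cc3c3c3c33c3cc33cc33cc33cc33cc3c33c3cc3c33c3c3cc3c33c3cc3c33ccc3333cccc3333ccbb30eec07730ddc03cc33cc3c33cc33cc3c33c3cc3c33c3cee0c037730bbddc033cc33cc33cc33cccc3333cccc3333cc0cee3077bb03ddc0c3c3c3c33c3c3c3cc33cc33cc33cc33cc0ee770303bbddc0cc33cc3333cc33cc3cc3c33c3cc3c33c3c3c3c3c3c3c3c3c3c3cc3c3c3c33c3cc33c3cc33cc3c33c33cccc33cc3333cceec07730bb30ddc033cccc33cc3333cc3077bb030ceeddc0c3c33c3cc3c33c3cc33cc33cc33cc33c770303bbc0eeddc0cc3333cccc3333ccc33c3cc33cc3c33c3c3c3c3c3c3c3c3c3cc3c33c3cc3c33c3c3cc3c3c3c33c3c037730bbee0cddc033cc33cc33cc33ccc3c3c3c33c3c3c3c3cc33cc3c33cc33ccc33cc3333cc33cc7730bb30eec0ddc03333cccc3333cccc33333333cccccccccccc33333333cccccccccccccccccccc33333333cccccccccccc33333333cccc3333cccc3333cccccccccccccccccccccccc33333333cccc3333cccc3333cccc33333333ccccccccccccccccccccccccbe7dbe7d3c3c0000e7bde7bdc33c00007bed7bed33cc00000000000000000000,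
  0xedbb0e7e70ddb700ac9a063c6059350065390c5a309ca600c9a30a6650c593060355c0909a3ca60c0a96a030c655930e0bd7e0b0de7db70a09c360a05c69350c90a0a36506c9350db0e0b7ed07edb709a0c036ac05659305306095c903aca60a9c0a63056c059303560c5903a90ca609ca063a06c509350bde0e7b07ed0db705c0909a36035ca606a030c65c0a959307e0b0de7e0bddb70360a05c6a09c93500a36506cc90a93500b7ed07edb0edb70036ac0569a0c5930095c903a5306ca60b0e7e70d0edbdb70a063c6050ac9935090c5a3090653ca6030a6650c0c9a5930a63056c0a9c05930c5903a903560ca6063a06c509ca09350e7b07ed0bde0db70506cc90a0a369350d07edb0e0b7edb70c0569a0c036a5930903a5306095cca60e70d0edbb0e7db70c6050ac9a0639350a309065390c5ca60650c0c9a30a6593009a360355c09ca600c65c0a96a0359300de7e0bd7e0bdb7005c6a09c360a935056c0a9c0a63059303a903560c590ca606c509ca063a093507ed0bde0e7b0db705555999933330000aaaa6666cccc00005555999933330000aaaa6666ccccca603333555599990000ccccaaaa666600003333555599990000ccccaaaa6666ca6e99993333555500006666ccccaaaa000099993333555500006666ccccaaaaca6ed9315b3159710000eae0ee60cee000009371d3519b5100000000000000000000,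
  0x365c0599a03a6c00365c0599a03a6c00ac9a063c605935009ac603a5c063590a09c360a05c6935090caa306065c35903056950c039aa6c03056950c039aa6c065030c9530a9a6c065030c9530a9a6c0ac0906a360c53590c90a0a36506c9350ca903a60c56035909ca063a06c509350563059c0a930a6c0563059c0a930a6c0360a05c6a09c9350a306065c90ca3590950c039a3056a6c0950c039a3056a6c00c9530a96503a6c00c9530a96503a6c006a360c5ac0935900a36506cc90a9350c0599a030365a6c0c0599a030365a6c0a063c6050ac99350603a5c0609ac35903a60c560ca90359063a06c509ca0935059c0a9305630a6c059c0a9305630a6c030a965030c95a6c030a965030c95a6c060c5ac0906a33590506cc90a0a3693509a030365c059a6c09a030365c059a6c0c6050ac9a06393505c0609ac603a359005c6a09c360a9350065c90caa3063590039a3056950ca6c0039a3056950ca6c0c560ca903a6035906c509ca063a09350a930563059c0a6c0a930563059c0a6c033335555999900003333555599990000ccccaaaa66660000ccccaaaa6666a6ce999933335555000099993333555500006666ccccaaaa00006666ccccaaaaa6ce55559999333300005555999933330000aaaa6666cccc0000aaaa6666cccca6c0379135d1b591000093d1b35197510000aee0e6e0eec000000000000000000000,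
  0xb86207cd40aca60506cc90a0a3693505c0909a36035ca605930593059305930650c0c9a30a6593005c9a09336056ca0803e520e094e6ca03590359035903590c0599a030365a6c03806052c409ab7d0065c90caa30635909350935093509350aa559669c3c30000a5a566993cc300005aa56969cc330000d5509b90337011100ac9a063c605935060c5ac0906a335907b000d70d0b0a6c0a6c0a6c0a6c0a6c0c6050ac9a0639350079030d0b500db70c0a96a030c655930ca60ca60ca60ca60b050970003d07db0ac0906a360c535900c65c0a96a0359306ca06ca06ca06ca03c3c55aa69960000c33c5a5a9966000033cca55a96960000eec0aee0e6e0000009ac603a5c063590704a8d0602bc6ca0c9050a3950636ca05930593059305930430a0856902cb7d00c9530a96503a6c0a09c360a05c69350359035903590359090c5a3090653ca609a0c036ac0565930043e508e290eca6093509350935093509669c3c3aa55000066993cc3a5a500006969cc335aa500009d9033b0755011100365c0599a03a6c030a965030c95a6c0950c039a3056a6c06a0c0c6ac0a6a6cea309065390c5ca60095c903a5306ca6060355c0909a3ca6006ac60caac06ca6e509c390a05366ca0360505c9a0936ca00a395063c9056ca0a06cc60a0ac66caebe7dd7ebebd70000e7bd7edbbde700007beded7bdeb700000000000000000000,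
  0x856902c430ab7d030a965030c95a6c0360a05c6a09c93503590359035903590a309065390c5ca60036ac0569a0c5930508e290e043eca609350935093509350603a5c0609ac35908d0602bc704a6ca00a395063c9056ca05930593059305930c3c3aa55966900003cc3a5a566990000cc335aa56969000033b075509d9011100c9a30a6650c5930a093360505c96ca0520e094e803e6ca035903590359035909a030365c059a6c0052c409a3806b7d090caa306065c35909350935093509350207cd40a0b86ca60c90a0a36506c935009a360355c09ca6059305930593059309669c3c3aa55000066993cc3a5a500006969cc335aa500009b903370d55011100ac9a063c605935030d0b5000790db706a030c65c0a95930ca60ca60ca60ca60970003d0b0507db006a360c5ac093590c0a96a030c6559306ca06ca06ca06ca0a063c6050ac99350ac0906a360c535900d70d0b07b00a6c0a6c0a6c0a6c0a6c055aa69963c3c00005a5a9966c33c0000a55a969633cc0000aee0e6e0eec00000065390c5a309ca60903a5306095cca605c0909a36035ca6060caac0606acca60390a0536509c6ca005c9a09336056ca05063c9050a396ca0c60a0ac6a06c6ca0c0599a030365a6c065030c9530a9a6c0039a3056950ca6c00c6ac0a66a0ca6c055aa69963c3c00005a5a9966c33c0000a55a969633cc00000000000000000000]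

private noncomputable def T1 : List ℕ :=
  [0x0,
  0x0,
  0x22111221212122221122211212122222000000000000000000000000000000002121221112212222121211222112222200000000000000000000000000000000122121212211222221121212112222220000000000000000000000000000000033333333333300000000000000000000,
  0x0,
  0x330303333033333022121222212211120000000000000000000000000000000030333303033333302122221212221112000000000000000000000000000000000333303333033330122221222212111200000000000000000000000000000000222122212221111233303330333033300000000000000000000000000000000000000000000000001122211212122222000000000000000000000000000000000000000000000000121211222112222200000000000000000000000000000000000000000000000000000000000000000000000000000000000000000000000000000000000000000000000000000000,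
  0x21121212112222220000000000000000000000000000000000000000000000000000000000000000,
  0x330303333033333000000000000000000000000000000000000000000000000030333303033333300000000000000000000000000000000000000000000000000333303333033330000000000000000000000000000000000000000000000000000000000000000033303330333033300000000000000000000000000000000000000000000000000000000000000000000000000000000000000000000000000000000000000000000000000000000000000000000000000000000000000000000000000000000000000000000000000000000000000000000000000000000033333333333300000000000000000000,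
  0x0,
  0x220000220022110022121222212211120000000000000000000000000000000000222200002211002122221212221112000000000000000000000000000000000022002222001100122221222212111200000000000000000000000000000000222122212221111222002200220011000000000000000000000000000000000022111221212122221122211212122222000000000000000000000000000000002121221112212222121211222112222200000000000000000000000000000000122121212211222221121212112222220000000000000000000000000000000030303030303000000000000000000000,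
  0x202002000001000000000000000000000000000000000000000000000000020000002020000100000000000000000000000000000000000000000000000000200200000020010000000000000000000000000000000000000000000000000000000000000000000200020002000100000000000000000000000000000000000000000000000000000000000000000000000000000000000000000000000000000000000000000000000000000000000000000000000000000000000000000000000000000000000000000000000000000000000000000000000000000000033003300330000000000000000000000,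
  0x110102221011111022121222212211120000000000000000000000000000000010330002013300100000000000000000000000000000000000000000000000000311002211031100122221222212111200000000000000000000000000000000000000000000000033300000333000000000000000000000000000000000000022111221212122220000000000000000000000000000000000000000000000000000000000000000121211222112222200000000000000000000000000000000122121212211222221121212112222220000000000000000000000000000000022212221000000000000000000000000,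
  0x110303110022110022121222212211120000000000000000000000000000000010111101022211102122221212221112000000000000000000000000000000000133103300020010000000000000000000000000000000000000000000000000000000000000000033303330000000000000000000000000000000000000000022111221212122221122211212122222000000000000000000000000000000002121221112212222121211222112222200000000000000000000000000000000000000000000000021121212112222220000000000000000000000000000000000000000222100000000000000000000,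
  0x330303333033333022121222212211120000000000000000000000000000000030333303033333302122221212221112000000000000000000000000000000000333303333033330122221222212111200000000000000000000000000000000222122212221111233303330333033300000000000000000000000000000000022111221212122221122211212122222000000000000000000000000000000002121221112212222121211222112222200000000000000000000000000000000122121212211222221121212112222220000000000000000000000000000000033333333333300000000000000000000,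
  0x0,
  0x210303213012213002020202202010100000000000000000000000000000000030122103032121302020020202021010000000000000000000000000000000000321301221032130020220200202101000000000000000000000000000000000202020202020101012301230123021300000000000000000000000000000000022111221000000001122211200000000000000000000000000000000000000000000221112210000000011222112000000000000000000000000000000000000122100002211000021120000112200000000000000000000000000000000000030303030303000000000000000000000,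
  0x330202332033331022000022002211000000000000000000000000000000000020333302023333100022220000221100000000000000000000000000000000000233203333023310002200222200110000000000000000000000000000000000220022002200110033203320332033100000000000000000000000000000000000001221212100000000211212120000000000000000000000000000000000002121000012210000121200002112000000000000000000000000000000000000122121210000000021121212000000000000000000000000000000000000000033003300330000000000000000000000,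
  0x210201122012122002100220012001100000000000000000000000000000000010003302010033102100220012001100000000000000000000000000000000000012301212002130102020202010101000000000000000000000000000000000222100002221000033300000333000000000000000000000000000000000000020010220200102200120011002100220000000000000000000000000000000000021220000212200120011002100220000000000000000000000000000000000020120200201202020101010102020200000000000000000000000000000000011122221333300000000000000000000,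
  0x120000123012213020101020202010100000000000000000000000000000000020122102011212200120021002200110000000000000000000000000000000000100100033023310120021002200110000000000000000000000000000000000222122210000000033303330000000000000000000000000000000000000000002010201202020201020201010102020000000000000000000000000000000002001200102200220021001200110022000000000000000000000000000000000002100212200220021001200110022000000000000000000000000000000000033333333222100000000000000000000]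

private noncomputable def pl (t : Bool) (k : ℕ) : Q :=
  ⟨(cond t T1 T0).getD (2 * k) 0, (cond t T1 T0).getD (2 * k + 1) 0⟩

private def ix (a b c d e f : F4) : ℕ :=
  a.toNat + 4 * (b.toNat + 4 * (c.toNat + 4 * (d.toNat + 4 * (e.toNat + 4 * f.toNat))))

private noncomputable def row (t : Bool) (k i : ℕ) : V := ⟨(pl t k).at i, (pl t (k + 1)).at i, (pl t (k + 2)).at i⟩

/-- the rows of the table are orthonormal -/
noncomputable def search (t : Bool) (a b c d e f : F4) : Bool :=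
  ok t a b c d e f (row t 0 (ix a b c d e f)) (row t 3 (ix a b c d e f)) (row t 6 (ix a b c d e f))

theorem exists_of_search {t : Bool} {a b c d e f : F4} (hs : search t a b c d e f = true) :
    ∃ r0 r1 r2, ok t a b c d e f r0 r1 r2 = true := ⟨_, _, _, hs⟩

/-- the determinant -/
def dt (t : Bool) (a b c d e f : F4) : F4 :=
  F4.add (F4.add
    (F4.mul a (F4.add (F4.mul d f) (F4.mul e (bar t e))))
    (F4.mul b (F4.add (F4.mul (bar t b) f) (F4.mul e (bar t c)))))
    (F4.mul c (F4.add (F4.mul (bar t b) (bar t e)) (F4.mul d (bar t c))))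

def allF (k : F4 → Bool) : Bool := k .z && (k .o && (k .w && k .v))

theorem allF_iff {k : F4 → Bool} (hk : allF k = true) (a : F4) : k a = true := by
  simp only [allF, Bool.and_eq_true] at hk
  cases a
  · exact hk.1
  · exact hk.2.1
  · exact hk.2.2.1
  · exact hk.2.2.2

def all01 (k : F4 → Bool) : Bool := k .z && k .o

theorem all01_iff {k : F4 → Bool} (hk : all01 k = true) (a : F4) (ha : a = 0 ∨ a = 1) :
    k a = true := by
  simp only [all01, Bool.and_eq_true] at hk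
  rcases ha with rfl | rfl
  · exact hk.1
  · exact hk.2

private def qa (p q : Q) : Q := ⟨p.1 ^^^ q.1, p.2 ^^^ q.2⟩

private def qm (p q : Q) : Q := ⟨(p.1 &&& q.1) ^^^ (p.2 &&& q.2), (p.1 &&& q.2) ^^^ (p.2 &&& (q.1 ^^^ q.2))⟩

private def qb (t : Bool) (p : Q) : Q := ⟨cond t (p.1 ^^^ p.2) p.1, p.2⟩

private theorem qa_at (p q : Q) (i : ℕ) : (qa p q).at i = F4.add (p.at i) (q.at i) := by
  simp only [Q.at, qa, Nat.testBit_xor]
  cases p.1.testBit i <;> cases p.2.testBit i <;> cases q.1.testBit i <;> cases q.2.testBit i <;> rfl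

private theorem qm_at (p q : Q) (i : ℕ) : (qm p q).at i = F4.mul (p.at i) (q.at i) := by
  simp only [Q.at, qm, Nat.testBit_xor, Nat.testBit_and]
  cases p.1.testBit i <;> cases p.2.testBit i <;> cases q.1.testBit i <;> cases q.2.testBit i <;> rfl

private theorem qb_at (t : Bool) (p : Q) (i : ℕ) : (qb t p).at i = bar t (p.at i) := by
  cases t
  · rfl
  · simp only [Q.at, qb, cond_true, Nat.testBit_xor]
    cases p.1.testBit i <;> cases p.2.testBit i <;> rfl

private def qh (t : Bool) (a b c d e f x y z p q r : Q) : Q :=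
  qa (qa (qm x (qa (qa (qm a (qb t p)) (qm b (qb t q))) (qm c (qb t r))))
    (qm y (qa (qa (qm (qb t b) (qb t p)) (qm d (qb t q))) (qm e (qb t r)))))
    (qm z (qa (qa (qm (qb t c) (qb t p)) (qm (qb t e) (qb t q))) (qm f (qb t r))))

private theorem qh_at (t : Bool) (a b c d e f x y z p q r : Q) (i : ℕ) : (qh t a b c d e f x y z p q r).at i =
    h t (a.at i) (b.at i) (c.at i) (d.at i) (e.at i) (f.at i) ⟨x.at i, y.at i, z.at i⟩ ⟨p.at i, q.at i, r.at i⟩ := by
  simp only [qh, h, frc_eq, qa_at, qm_at, qb_at]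

private def qd (t : Bool) (a b c d e f : Q) : Q :=
  qa (qa (qm a (qa (qm d f) (qm e (qb t e)))) (qm b (qa (qm (qb t b) f) (qm e (qb t c)))))
    (qm c (qa (qm (qb t b) (qb t e)) (qm d (qb t c))))

private theorem qd_at (t : Bool) (a b c d e f : Q) (i : ℕ) : (qd t a b c d e f).at i =
    dt t (a.at i) (b.at i) (c.at i) (d.at i) (e.at i) (f.at i) := by
  simp only [qd, dt, qa_at, qm_at, qb_at]

/-- on the lanes of `m` the value is zero -/
private def z0 (m : ℕ) (p : Q) : Bool := Nat.beq (m &&& (p.1 ||| p.2)) 0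

/-- on the lanes of `m` the value is one -/
private def z1 (m : ℕ) (p : Q) : Bool := Nat.beq (m &&& p.1) m && Nat.beq (m &&& p.2) 0

private theorem z0_at {m i : ℕ} {p : Q} (hm : m.testBit i = true) (h : z0 m p = true) : is0 (p.at i) = true := by
  have h1 := congrArg (fun x => Nat.testBit x i) (Nat.eq_of_beq_eq_true h)
  simp only [Nat.testBit_and, Nat.testBit_or, hm, Nat.zero_testBit] at h1
  revert h1
  rw [Q.at]
  cases p.1.testBit i <;> cases p.2.testBit i <;> decide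

private theorem z1_at {m i : ℕ} {p : Q} (hm : m.testBit i = true) (h : z1 m p = true) : is1 (p.at i) = true := by
  rw [z1, Bool.and_eq_true] at h
  have h1 := congrArg (fun x => Nat.testBit x i) (Nat.eq_of_beq_eq_true h.1)
  have h2 := congrArg (fun x => Nat.testBit x i) (Nat.eq_of_beq_eq_true h.2)
  simp only [Nat.testBit_and, hm, Nat.zero_testBit] at h1 h2
  revert h1 h2
  rw [Q.at]
  cases p.1.testBit i <;> cases p.2.testBit i <;> decide

/-- the lanes (`2 ^ n` of them) on which bit `k` of the number of the lane is one -/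
private noncomputable def bq (k n : ℕ) : ℕ :=
  Nat.rec 0 (fun n ih => 2 ^ 2 ^ n * cond (Nat.beq k n) (2 ^ 2 ^ n - 1) ih + ih) n

private theorem bq_spec (k : ℕ) : ∀ n : ℕ, bq k n < 2 ^ 2 ^ n ∧ ∀ i < 2 ^ n, (bq k n).testBit i = i.testBit k
  | 0 => ⟨Nat.two_pow_pos _, fun i hi => by
      obtain rfl : i = 0 := by omega
      exact (Nat.zero_testBit 0).trans (Nat.zero_testBit k).symm⟩
  | n + 1 => by
    obtain ⟨h1, h2⟩ := bq_spec k n
    have e : bq k (n + 1) = 2 ^ 2 ^ n * cond (Nat.beq k n) (2 ^ 2 ^ n - 1) (bq k n) + bq k n := rfl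
    have h3 : cond (Nat.beq k n) (2 ^ 2 ^ n - 1) (bq k n) ≤ 2 ^ 2 ^ n - 1 := by
      cases Nat.beq k n
      · exact Nat.le_sub_one_of_lt h1
      · exact le_rfl
    have h4 : 2 ^ (n + 1) = 2 ^ n + 2 ^ n := by rw [pow_succ, mul_two]
    refine ⟨?_, fun i hi => ?_⟩
    · have h5 := Nat.mul_le_mul_left (2 ^ 2 ^ n) h3
      rw [Nat.mul_sub_one] at h5
      have h6 := Nat.le_mul_self (2 ^ 2 ^ n)
      rw [e, h4, pow_add]
      omega
    · rw [e, Nat.testBit_two_pow_mul_add _ h1]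
      split_ifs with h5
      · exact h2 i h5
      · obtain ⟨j, rfl⟩ : ∃ j, i = 2 ^ n + j := ⟨i - 2 ^ n, by omega⟩
        have hj : j < 2 ^ n := by omega
        rw [Nat.add_sub_cancel_left]
        cases h6 : Nat.beq k n with
        | true =>
          rw [Nat.eq_of_beq_eq_true h6, cond_true, Nat.testBit_two_pow_sub_one, Nat.testBit_two_pow_add_eq,
            Nat.testBit_lt_two_pow hj]
          exact decide_eq_true hj
        | false =>
          have h7 := Nat.testBit_two_pow_mul_add 1 hj k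
          rw [mul_one] at h7
          rw [cond_false, h2 j hj, h7]
          split_ifs with h8
          · rfl
          · have h9 := Nat.ne_of_beq_eq_false h6
            rw [Nat.testBit_lt_two_pow (hj.trans_le (Nat.pow_le_pow_right (by decide) (by omega))),
              Nat.testBit_lt_two_pow (Nat.one_lt_two_pow (by omega))]

private noncomputable def bp (k : ℕ) : ℕ := bq k 12

private noncomputable def en (k : ℕ) : Q := ⟨bp (2 * k), bp (2 * k + 1)⟩

private theorem ix_lt (a b c d e f : F4) : ix a b c d e f < 4096 := by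
  have h4 : ∀ x : F4, x.toNat < 4 := fun x => by cases x <;> decide
  have := h4 a; have := h4 b; have := h4 c; have := h4 d; have := h4 e; have := h4 f
  rw [ix]
  omega

private theorem dg0 (x : F4) (r : ℕ) : fb ((x.toNat + 4 * r).testBit 0) ((x.toNat + 4 * r).testBit 1) = x := by
  have h4 : x.toNat < 2 ^ 2 := by cases x <;> decide
  rw [add_comm, show 4 = 2 ^ 2 from rfl, Nat.testBit_two_pow_mul_add _ h4, Nat.testBit_two_pow_mul_add _ h4]
  cases x <;> rfl

private def dg (n k : ℕ) : F4 := fb (n.testBit (2 * k)) (n.testBit (2 * k + 1))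

private theorem dg1 (x : F4) (r k : ℕ) : dg (x.toNat + 4 * r) (k + 1) = dg r k := by
  have h4 : x.toNat < 2 ^ 2 := by cases x <;> decide
  rw [dg, add_comm, show 4 = 2 ^ 2 from rfl, Nat.testBit_two_pow_mul_add _ h4, Nat.testBit_two_pow_mul_add _ h4,
    if_neg (by omega), if_neg (by omega), show 2 * (k + 1) - 2 = 2 * k by omega,
    show 2 * (k + 1) + 1 - 2 = 2 * k + 1 by omega]
  rfl

private theorem en_at (a b c d e f : F4) :
    (en 0).at (ix a b c d e f) = a ∧ (en 1).at (ix a b c d e f) = b ∧ (en 2).at (ix a b c d e f) = c ∧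
      (en 3).at (ix a b c d e f) = d ∧ (en 4).at (ix a b c d e f) = e ∧ (en 5).at (ix a b c d e f) = f := by
  have h1 : ∀ k, (en k).at (ix a b c d e f) = dg (ix a b c d e f) k := fun k =>
    congrArg₂ fb ((bq_spec _ 12).2 _ (ix_lt a b c d e f)) ((bq_spec _ 12).2 _ (ix_lt a b c d e f))
  rw [h1, h1, h1, h1, h1, h1, ix]
  exact ⟨dg0 _ _, (dg1 _ _ 0).trans (dg0 _ _), (dg1 _ _ 1).trans ((dg1 _ _ 0).trans (dg0 _ _)),
    (dg1 _ _ 2).trans ((dg1 _ _ 1).trans ((dg1 _ _ 0).trans (dg0 _ _))),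
    (dg1 _ _ 3).trans ((dg1 _ _ 2).trans ((dg1 _ _ 1).trans ((dg1 _ _ 0).trans (dg0 _ _)))),
    (dg1 _ _ 4).trans ((dg1 _ _ 3).trans ((dg1 _ _ 2).trans ((dg1 _ _ 1).trans ((dg1 _ _ 0).trans (dg0 f 0)))))⟩

private noncomputable def qq (t : Bool) (j k : ℕ) : Q :=
  qh t (en 0) (en 1) (en 2) (en 3) (en 4) (en 5) (pl t j) (pl t (j + 1)) (pl t (j + 2)) (pl t k) (pl t (k + 1)) (pl t (k + 2))

private noncomputable def okQ (t : Bool) (m : ℕ) : Bool :=
  z1 m (qq t 0 0) && z1 m (qq t 3 3) && z1 m (qq t 6 6) && z0 m (qq t 0 3) && z0 m (qq t 0 6) && z0 m (qq t 3 6) &&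
    z0 m (qq t 3 0) && z0 m (qq t 6 0) && z0 m (qq t 6 3)

private noncomputable def dq (t : Bool) : Q := qd t (en 0) (en 1) (en 2) (en 3) (en 4) (en 5)

private theorem lane {t : Bool} {m : ℕ} (hk : okQ t (m &&& ((dq t).1 ||| (dq t).2)) = true) {a b c d e f : F4}
    (hm : m.testBit (ix a b c d e f) = true) : (is0 (dt t a b c d e f) || search t a b c d e f) = true := by
  obtain ⟨ea, eb, ec, ed, ee, ef⟩ := en_at a b c d e f
  have hd : (dq t).at (ix a b c d e f) = dt t a b c d e f := by rw [dq, qd_at, ea, eb, ec, ed, ee, ef]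
  have hq : ∀ j k, (qq t j k).at (ix a b c d e f) = h t a b c d e f (row t j (ix a b c d e f)) (row t k (ix a b c d e f)) :=
    fun j k => by rw [qq, qh_at, ea, eb, ec, ed, ee, ef]; rfl
  rw [search, ok, ← hd]
  simp only [← hq]
  generalize ix a b c d e f = i at hm ⊢
  cases h0 : is0 ((dq t).at i) with
  | true => rfl
  | false =>
    have h1 : (m &&& ((dq t).1 ||| (dq t).2)).testBit i = true := by
      rw [Nat.testBit_and, Nat.testBit_or, hm]
      revert h0
      rw [Q.at]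
      cases (dq t).1.testBit i <;> cases (dq t).2.testBit i <;> decide
    simp only [okQ, Bool.and_eq_true] at hk
    obtain ⟨⟨⟨⟨⟨⟨⟨⟨h00, h11⟩, h22⟩, h01⟩, h02⟩, h12⟩, h10⟩, h20⟩, h21⟩ := hk
    rw [z1_at h1 h00, z1_at h1 h11, z1_at h1 h22, z0_at h1 h01, z0_at h1 h02, z0_at h1 h12, z0_at h1 h10, z0_at h1 h20,
      z0_at h1 h21]
    rfl

private theorem allF_of {k l : F4 → Bool} (h : ∀ a, k a = true → l a = true) (hk : allF k = true) : allF l = true := by
  rw [allF, h _ (allF_iff hk .z), h _ (allF_iff hk .o), h _ (allF_iff hk .w), h _ (allF_iff hk .v)]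
  rfl

private theorem all01_of {k l : F4 → Bool} (h : ∀ a, k a = true → l a = true) (hk : all01 k = true) :
    all01 l = true := by
  rw [all01, Bool.and_eq_true] at hk
  rw [all01, h _ hk.1, h _ hk.2]
  rfl

theorem symCheck : (allF fun a => allF fun d => allF fun f => allF fun b => allF fun c =>
    allF fun e => is0 (dt false a b c d e f) || search false a b c d e f) = true := by
  have hk : okQ false ((2 ^ 4096 - 1) &&& ((dq false).1 ||| (dq false).2)) = true := by decide +kernel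
  have hm : ∀ a b c d e f : F4, (2 ^ 4096 - 1).testBit (ix a b c d e f) = true := fun a b c d e f => by
    rw [Nat.testBit_two_pow_sub_one]
    exact decide_eq_true (ix_lt a b c d e f)
  have h0 : allF (fun _ => true) = true := rfl
  exact allF_of (fun a _ => allF_of (fun d _ => allF_of (fun f _ => allF_of (fun b _ => allF_of (fun c _ =>
    allF_of (fun e _ => lane hk (hm a b c d e f)) h0) h0) h0) h0) h0) h0

theorem hermCheck : (all01 fun a => all01 fun d => all01 fun f => allF fun b => allF fun c =>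
    allF fun e => is0 (dt true a b c d e f) || search true a b c d e f) = true := by
  have hk : okQ true (((2 ^ 4096 - 1) ^^^ (bp 1 ||| bp 7 ||| bp 11)) &&& ((dq true).1 ||| (dq true).2)) = true := by
    decide +kernel
  have hm : (all01 fun a => all01 fun d => all01 fun f => allF fun b => allF fun c => allF fun e =>
      ((2 ^ 4096 - 1) ^^^ (bp 1 ||| bp 7 ||| bp 11)).testBit (ix a b c d e f)) = true := by decide +kernel
  exact all01_of (fun a => all01_of fun d => all01_of fun f => allF_of fun b => allF_of fun c =>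
    allF_of fun e => lane hk) hm

end Cfsg.Agent.StdL3.OuterForm

private theorem dce_8ee00efc1928 : _root_.True := by
  try have : _root_.True := by simp only [_root_.Cfsg.Agent.StdL3.OuterForm.allF.eq_1]
  try have : _root_.True := by simp only [_root_.Cfsg.Agent.StdL3.OuterForm.all01.eq_1]
  try have : _root_.True := by simp only [_root_.Cfsg.Agent.StdL3.OuterForm.frcV.eq_1]
  try have : _root_.True := by simp only [_root_.Cfsg.Agent.StdL3.OuterForm.tryL.eq_1]
  try have : _root_.True := by simp only [_root_.Cfsg.Agent.StdL3.OuterForm.tryL.eq_def]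
  try have : _root_.True := by simp only [_root_.Cfsg.Agent.StdL3.OuterForm.tryL.eq_2]
  exact _root_.True.intro
end

-- part: StdL3/OuterQuot
section
set_option linter.all false
open scoped Cfsg.Agent.FastGrp

/-!
# The outer automorphism group of `PSL(3,4)`

The automorphisms induced by `GL(3,4)` form a normal subgroup `N` of the automorphism group
containing its commutator subgroup; the cube of every element of `N` is inner and the index of `N`
is at most four.
-/

set_option autoImplicit false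
set_option linter.constructorNameAsVariable false
set_option linter.unusedVariables false

namespace Cfsg.Agent.StdL3.OuterQuot

open Matrix
open Cfsg.Agent.ClassicalGeometry.AutPSL.Root
open Cfsg.Agent.ClassicalGeometry.AutPSL.Auto
open Cfsg.Agent.ClassicalGeometry.AutPSL.Main
open Cfsg.Agent.SporadicA.FieldFour
open Cfsg.Agent.ONType.Psl
open Cfsg.Agent.ONType.OuterL
open Cfsg.Agent.StdL3.OuterMat
open scoped commutatorElement

/-- automorphisms induced by `GL(3,4)` -/
noncomputable def N : Subgroup (MulAut PSL3) := (lift.comp cj).range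

theorem mem_N (A : GL (Fin 3) F4) : lift (cj A) ∈ N := ⟨A, rfl⟩

instance N_normal : N.Normal := by
  refine ⟨fun n hn g => ?_⟩
  obtain ⟨A, rfl⟩ := hn
  obtain ⟨B, b, c, rfl⟩ := exists_std_form g
  obtain ⟨A', hA'⟩ := std_mul_cj b c A
  have h1 : lift (std b c) * lift (cj A) * (lift (std b c))⁻¹ = lift (cj A') := by
    rw [← map_mul, hA', map_mul, mul_inv_cancel_right]
  have h2 : lift (cj B) * lift (std b c) * (lift.comp cj) A * (lift (cj B) * lift (std b c))⁻¹ =
      lift (cj B) * (lift (std b c) * lift (cj A) * (lift (std b c))⁻¹) * (lift (cj B))⁻¹ := by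
    simp only [MonoidHom.comp_apply]
    group
  rw [h2, h1]
  exact N.mul_mem (N.mul_mem (mem_N B) (mem_N A')) (N.inv_mem (mem_N B))

theorem std_comm (b c b' c' : Bool) : std b c * std b' c' = std b' c' * std b c := by
  rw [std_mul_std, std_mul_std, Bool.xor_comm b b', Bool.xor_comm c c']

theorem commutator_le_N : commutator (MulAut PSL3) ≤ N := by
  rw [commutator_def, Subgroup.commutator_le]
  intro x _ y _
  obtain ⟨A, b, c, rfl⟩ := exists_std_form x
  obtain ⟨B, b', c', rfl⟩ := exists_std_form y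
  rw [← QuotientGroup.eq_one_iff]
  have h1 : ∀ A : GL (Fin 3) F4, ((lift (cj A) : MulAut PSL3) : MulAut PSL3 ⧸ N) = 1 :=
    fun A => (QuotientGroup.eq_one_iff _).2 (mem_N A)
  rw [commutatorElement_def]
  simp only [QuotientGroup.mk_mul, QuotientGroup.mk_inv, h1, one_mul]
  rw [← QuotientGroup.mk_inv, ← QuotientGroup.mk_inv, ← QuotientGroup.mk_mul,
    ← QuotientGroup.mk_mul, ← QuotientGroup.mk_mul, QuotientGroup.eq_one_iff]
  have h2 : lift (std b c) * lift (std b' c') * (lift (std b c))⁻¹ * (lift (std b' c'))⁻¹ = 1 := by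
    rw [← map_mul, std_comm, map_mul]
    group
  rw [h2]
  exact N.one_mem

theorem cube_inner {x : MulAut PSL3} (hx : x ∈ N) : ∃ l, x ^ 3 = MulAut.conj l := by
  obtain ⟨A, rfl⟩ := hx
  have hdet : ((A ^ 3 : GL (Fin 3) F4) : Mat).det = 1 := by
    rw [Units.val_pow_eq_pow_val, det_pow]
    have h0 : (A : Mat).det ≠ 0 := by
      have := A.isUnit.map (Matrix.detMonoidHom (n := Fin 3) (R := F4))
      exact this.ne_zero
    have key : ∀ u : F4, u ≠ 0 → u ^ 3 = 1 := by
      intro u hu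
      rw [pow_three]
      revert u
      decide
    exact key _ h0
  refine ⟨pr (mkSL _ hdet), ?_⟩
  rw [← lift_cj_of_det hdet, map_pow, map_pow]
  rfl

theorem card_quot : Nat.card (MulAut PSL3 ⧸ N) ≤ 4 := by
  have hsurj : Function.Surjective
      (fun p : Bool × Bool => ((lift (std p.1 p.2) : MulAut PSL3) : MulAut PSL3 ⧸ N)) := by
    intro q
    obtain ⟨x, rfl⟩ := QuotientGroup.mk_surjective q
    obtain ⟨A, b, c, rfl⟩ := exists_std_form x
    refine ⟨(b, c), ?_⟩
    rw [QuotientGroup.mk_mul, (QuotientGroup.eq_one_iff _).2 (mem_N A), one_mul]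
  have h := Nat.card_le_card_of_surjective _ hsurj
  simpa using h

/-- A 2-group of automorphisms meeting the inner automorphisms trivially has order dividing 4. -/
theorem card_two_group (P : Subgroup (MulAut PSL3)) (hP : IsPGroup 2 P)
    (hinn : ∀ l, MulAut.conj l ∈ P → MulAut.conj l = (1 : MulAut PSL3)) : Nat.card P ∣ 4 := by
  have hinj : Function.Injective (fun x : P => ((x : MulAut PSL3) : MulAut PSL3 ⧸ N)) := by
    intro x y hxy
    have h1 : ((x⁻¹ * y : P) : MulAut PSL3) ∈ N := by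
      have := QuotientGroup.eq.1 hxy
      exact this
    obtain ⟨l, hl⟩ := cube_inner h1
    have h2 : (x⁻¹ * y) ^ 3 = 1 := by
      apply Subtype.ext
      change ((x⁻¹ * y : P) : MulAut PSL3) ^ 3 = 1
      rw [hl]
      apply hinn
      rw [← hl]
      exact P.pow_mem (x⁻¹ * y).2 3
    obtain ⟨k, hk⟩ := hP (x⁻¹ * y)
    have h3 : orderOf (x⁻¹ * y) ∣ 3 := orderOf_dvd_of_pow_eq_one h2
    have h4 : orderOf (x⁻¹ * y) ∣ 2 ^ k := orderOf_dvd_of_pow_eq_one hk
    have h5 : orderOf (x⁻¹ * y) ∣ 1 := by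
      have h6 := Nat.dvd_gcd h3 h4
      have h7 : Nat.gcd 3 (2 ^ k) = 1 := Nat.Coprime.pow_right _ (by decide)
      rwa [h7] at h6
    rw [Nat.dvd_one, orderOf_eq_one_iff] at h5
    exact inv_mul_eq_one.1 h5
  have hfin : Finite (MulAut PSL3 ⧸ N) := inferInstance
  have hle : Nat.card P ≤ 4 :=
    (Nat.card_le_card_of_injective _ hinj).trans card_quot
  have hPfin : Finite P := Finite.of_injective _ hinj
  obtain ⟨k, hk⟩ := IsPGroup.iff_card.1 hP
  rw [hk] at hle ⊢
  have hk2 : k ≤ 2 := by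
    by_contra hcon
    have : 2 ^ 3 ≤ 2 ^ k := Nat.pow_le_pow_right (by decide) (by omega)
    omega
  exact (Nat.pow_dvd_pow 2 hk2)

end Cfsg.Agent.StdL3.OuterQuot
end

-- part: KFacts/MulSpor/SignLift
section
set_option linter.all false
open scoped Cfsg.Agent.FastGrp

/-!
# Signs of involutions in a central extension by a group of order two

`IsSq π v s` : the lifts of `v` have square `s`.

* `IsSq.of_conj` : conjugate elements have the same square.
* `seven` : the product of the squares of the seven involutions of an elementary abelian group of order 8 is 1.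
* `comm_of_isSq` : commuting involutions whose product lifts to an involution have commuting lifts.
-/

set_option autoImplicit false

namespace Cfsg.Agent.KFacts.MulSpor.SignLift

open Cfsg.Agent.KFacts.MulCov

universe u v

variable {L : Type u} {X : Type v} [Group L] [Group X] {π : L →* X} {c : L}

/-- the lifts of `v` have square `s` -/
def IsSq (π : L →* X) (v : X) (s : L) : Prop := ∀ x, π x = v → x * x = s

theorem exists_isSq (h : Ext π c) {v : X} (hv : v * v = 1) : ∃ s, (s = 1 ∨ s = c) ∧ IsSq π v s := by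
  obtain ⟨x, rfl⟩ := h.surj v
  refine ⟨x * x, h.mul_self_or hv, fun y hy => h.mul_self_eq hy⟩

theorem IsSq.of_conj (h : Ext π c) {u v : X} {s : L} (hs : IsSq π u s) (hs' : s = 1 ∨ s = c) {g : X}
    (hg : g * v = u * g) : IsSq π v s := by
  intro x hx
  obtain ⟨k, rfl⟩ := h.surj g
  have h1 : k * x * k⁻¹ * (k * x * k⁻¹) = s := by
    apply hs
    rw [map_mul, map_mul, map_inv, hx, hg, mul_inv_cancel_right]
  have h2 : k * (x * x) * k⁻¹ = s := by rw [← h1]; group
  have h3 : x * x = k⁻¹ * s * k := by rw [← h2]; group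
  rw [h3]
  rcases hs' with rfl | rfl
  · group
  · rw [mul_assoc, h.cen, inv_mul_cancel_left]

/-- commutation up to the central element -/
theorem comm_or (h : Ext π c) {x y : L} (hxy : π x * π y = π y * π x) :
    ∃ k, (k = 1 ∨ k = c) ∧ y * x = x * y * k := by
  have h1 : π (y * x) = π (x * y) := by rw [map_mul, map_mul, hxy]
  rcases h.eq_or h1 with h2 | h2
  · exact ⟨1, Or.inl rfl, by rw [h2, mul_one]⟩
  · exact ⟨c, Or.inr rfl, h2⟩

theorem seven (h : Ext π c) {a b d : X} (hab : a * b = b * a) (had : a * d = d * a) (hbd : b * d = d * b)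
    {s1 s2 s3 s4 s5 s6 s7 : L} (h1 : s1 = 1 ∨ s1 = c) (h2 : s2 = 1 ∨ s2 = c) (h3 : s3 = 1 ∨ s3 = c)
    (q1 : IsSq π a s1) (q2 : IsSq π b s2) (q3 : IsSq π d s3) (q4 : IsSq π (a * b) s4) (q5 : IsSq π (a * d) s5)
    (q6 : IsSq π (b * d) s6) (q7 : IsSq π (a * (b * d)) s7) : s1 * s2 * s3 * s4 * s5 * s6 * s7 = 1 := by
  obtain ⟨x, rfl⟩ := h.surj a
  obtain ⟨y, rfl⟩ := h.surj b
  obtain ⟨z, rfl⟩ := h.surj d
  obtain ⟨k1, hk1, e1⟩ := comm_or h hab
  obtain ⟨k2, hk2, e2⟩ := comm_or h had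
  obtain ⟨k3, hk3, e3⟩ := comm_or h hbd
  have hcen : ∀ k : L, (k = 1 ∨ k = c) → ∀ w, k * w = w * k := by
    rintro k (rfl | rfl) w
    · rw [one_mul, mul_one]
    · exact h.cen w
  have hsq : ∀ k : L, (k = 1 ∨ k = c) → k * k = 1 := by
    rintro k (rfl | rfl)
    · rw [one_mul]
    · exact h.sq
  have e4 : s4 = s1 * s2 * k1 := by
    rw [← q4 (x * y) (map_mul _ _ _), ← q1 x rfl, ← q2 y rfl]
    calc x * y * (x * y) = x * (y * x) * y := by group
      _ = x * (x * y * k1) * y := by rw [e1]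
      _ = x * x * y * (k1 * y) := by group
      _ = x * x * y * (y * k1) := by rw [hcen k1 hk1]
      _ = _ := by group
  have e5 : s5 = s1 * s3 * k2 := by
    rw [← q5 (x * z) (map_mul _ _ _), ← q1 x rfl, ← q3 z rfl]
    calc x * z * (x * z) = x * (z * x) * z := by group
      _ = x * (x * z * k2) * z := by rw [e2]
      _ = x * x * z * (k2 * z) := by group
      _ = x * x * z * (z * k2) := by rw [hcen k2 hk2]
      _ = _ := by group
  have e6 : s6 = s2 * s3 * k3 := by
    rw [← q6 (y * z) (map_mul _ _ _), ← q2 y rfl, ← q3 z rfl]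
    calc y * z * (y * z) = y * (z * y) * z := by group
      _ = y * (y * z * k3) * z := by rw [e3]
      _ = y * y * z * (k3 * z) := by group
      _ = y * y * z * (z * k3) := by rw [hcen k3 hk3]
      _ = _ := by group
  have e7 : s7 = s1 * s2 * s3 * (k1 * k2 * k3) := by
    rw [← q7 (x * (y * z)) (by rw [map_mul, map_mul]), ← q1 x rfl, ← q2 y rfl, ← q3 z rfl]
    calc x * (y * z) * (x * (y * z)) = x * y * (z * x) * y * z := by group
      _ = x * y * (x * z * k2) * y * z := by rw [e2]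
      _ = x * (y * x) * z * (k2 * (y * z)) := by group
      _ = x * (x * y * k1) * z * ((y * z) * k2) := by rw [e1, hcen k2 hk2]
      _ = x * x * y * (k1 * (z * y)) * z * k2 := by group
      _ = x * x * y * ((z * y) * k1) * z * k2 := by rw [hcen k1 hk1]
      _ = x * x * y * (y * z * k3) * (k1 * z) * k2 := by rw [e3]; group
      _ = x * x * (y * y) * z * (k3 * (z * k1)) * k2 := by rw [hcen k1 hk1 z]; group
      _ = x * x * (y * y) * z * ((z * k1) * k3) * k2 := by rw [hcen k3 hk3]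
      _ = x * x * (y * y) * (z * z) * (k1 * (k3 * k2)) := by group
      _ = _ := by rw [hcen k3 hk3 k2]; group
  rw [e4, e5, e6, e7]
  clear e4 e5 e6 e7 q1 q2 q3 q4 q5 q6 q7 e1 e2 e3
  have hcc := h.sq
  have hc4 : c * (c * 1) = 1 := by rw [mul_one]; exact hcc
  rcases h1 with rfl | rfl <;> rcases h2 with rfl | rfl <;> rcases h3 with rfl | rfl <;>
    rcases hk1 with rfl | rfl <;> rcases hk2 with rfl | rfl <;> rcases hk3 with rfl | rfl <;>
    simp only [mul_one, one_mul, hcc]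

/-- commuting involutions whose product lifts to an involution have commuting lifts -/
theorem comm_of_isSq {x y : L} (hx : x * x = 1) (hy : y * y = 1) (hxy : x * y * (x * y) = 1) : x * y = y * x := by
  have h1 : x * y = (x * y)⁻¹ := eq_inv_of_mul_eq_one_left hxy
  rw [h1, mul_inv_rev, inv_eq_of_mul_eq_one_left hx, inv_eq_of_mul_eq_one_left hy]

end Cfsg.Agent.KFacts.MulSpor.SignLift
end

-- part: UGT/I34/WOneC/Graph
section
set_option linter.all false
open scoped Cfsg.Agent.FastGrp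

/-!
# The commuting graph of a group without strongly embedded subgroups is connected
-/

set_option autoImplicit false

open Cfsg Subgroup
open Cfsg.Agent.SignalizersComponents.RelSylow

namespace Cfsg.Agent.UGT.I34.WOneC.Graph

variable {X : Type*} [Group X]

/-- `b` is an involution commuting with `a` -/
def Adj (a b : X) : Prop := orderOf b = 2 ∧ Commute a b

/-- connected by commuting involutions -/
def Path (a b : X) : Prop := Relation.ReflTransGen Adj a b

theorem orderOf_cj (g x : X) : orderOf (g * x * g⁻¹) = orderOf x := by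
  have := orderOf_injective (MulAut.conj g).toMonoidHom (MulAut.conj g).injective x
  simpa using this

theorem Path.conj {a b : X} (h : Path a b) (g : X) : Path (g * a * g⁻¹) (g * b * g⁻¹) := by
  induction h with
  | refl => exact Relation.ReflTransGen.refl
  | tail _ hbc ih =>
    refine ih.tail ⟨?_, ?_⟩
    · rw [orderOf_cj, hbc.1]
    · exact (Commute.map hbc.2 (MulAut.conj g).toMonoidHom : _)

theorem Path.symm {a b : X} (h : Path a b) (ha : orderOf a = 2) : Path b a := by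
  have key : orderOf b = 2 ∧ Path b a := by
    induction h with
    | refl => exact ⟨ha, Relation.ReflTransGen.refl⟩
    | tail _ hbc ih => exact ⟨hbc.1, Relation.ReflTransGen.head ⟨ih.1, hbc.2.symm⟩ ih.2⟩
  exact key.2

theorem Path.order {a b : X} (h : Path a b) (ha : orderOf a = 2) : orderOf b = 2 := by
  induction h with
  | refl => exact ha
  | tail _ hbc _ => exact hbc.1

/-- the stabilizer of the connected component of `u` -/
def stab (u : X) (hu : orderOf u = 2) : Subgroup X where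
  carrier := {g | Path u (g * u * g⁻¹)}
  mul_mem' := by
    intro g h hg hh
    have h1 := Path.conj hh g
    have e : g * (h * u * h⁻¹) * g⁻¹ = g * h * u * (g * h)⁻¹ := by group
    rw [e] at h1
    exact Relation.ReflTransGen.trans hg h1
  one_mem' := by
    show Path u (1 * u * 1⁻¹)
    rw [one_mul, inv_one, mul_one]
    exact Relation.ReflTransGen.refl
  inv_mem' := by
    intro g hg
    have h1 := Path.conj hg g⁻¹
    have e : g⁻¹ * (g * u * g⁻¹) * g⁻¹⁻¹ = u := by group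
    rw [e] at h1
    exact h1.symm (by rw [orderOf_cj, hu])

theorem mem_stab {u g : X} {hu : orderOf u = 2} : g ∈ stab u hu ↔ Path u (g * u * g⁻¹) := Iff.rfl

theorem mem_stab_iff {u v g : X} {hu : orderOf u = 2} (h : Path u v) :
    g ∈ stab u hu ↔ Path u (g * v * g⁻¹) := by
  rw [mem_stab]
  have h1 : Path (g * u * g⁻¹) (g * v * g⁻¹) := h.conj g
  constructor
  · intro h2
    exact Relation.ReflTransGen.trans h2 h1
  · intro h2
    exact Relation.ReflTransGen.trans h2 (h1.symm (by rw [orderOf_cj, hu]))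

variable [Finite X]

theorem zpowers_pgroup {x : X} (h : orderOf x = 2) : IsPGroup 2 (zpowers x) := by
  apply IsPGroup.of_card (n := 1)
  rw [Nat.card_zpowers, h]; norm_num

/-- the involutions of the stabilizer are in the component of `u` -/
theorem path_of_mem {u : X} (hu : orderOf u = 2) {i : X} (hi : orderOf i = 2) (hiS : i ∈ stab u hu) :
    Path u i := by
  have h2 : Fact (Nat.Prime 2) := ⟨Nat.prime_two⟩
  obtain ⟨T, hT⟩ := (zpowers_pgroup hu).exists_le_sylow
  have huT : u ∈ (T : Subgroup X) := hT (mem_zpowers u)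
  -- a central involution of `T`
  have hnt : Nontrivial T := ⟨⟨⟨u, huT⟩, 1, fun h => by
    have h1 : u = 1 := congrArg Subtype.val h
    rw [h1] at hu; simp at hu⟩⟩
  have hcn : Nontrivial (center T) := T.2.center_nontrivial
  have hcp : IsPGroup 2 (center T) := T.2.to_subgroup _
  obtain ⟨n, hn⟩ := (hcp.nontrivial_iff_card).mp hcn
  have hdvd : 2 ∣ Nat.card (center T) := by
    rw [hn.2]; exact dvd_pow_self 2 hn.1.ne'
  obtain ⟨y, hy⟩ := exists_prime_orderOf_dvd_card' 2 hdvd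
  obtain ⟨z, hz⟩ : ∃ z, z = ((y : T) : X) := ⟨_, rfl⟩
  have hz2 : orderOf z = 2 := by
    rw [hz, Subgroup.orderOf_coe, Subgroup.orderOf_coe]; exact hy
  have hzc : ∀ t ∈ (T : Subgroup X), Commute t z := by
    intro t ht
    have := mem_center_iff.mp y.2 ⟨t, ht⟩
    rw [hz]
    exact congrArg Subtype.val this
  have huz : Path u z := Relation.ReflTransGen.single ⟨hz2, hzc u huT⟩
  have hTS : (T : Subgroup X) ≤ stab u hu := by
    intro t ht
    rw [mem_stab_iff huz]
    have : t * z * t⁻¹ = z := by rw [(hzc t ht).eq, mul_inv_cancel_right]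
    rw [this]; exact huz
  have hmax : IsMaxP 2 (stab u hu) (T : Subgroup X) :=
    ⟨T.2, hTS, fun _ hR _ hTR => (T.3 hR hTR).le⟩
  obtain ⟨c, hc, hcT⟩ := hmax.exists_conj_le (zpowers_pgroup hi) ((zpowers_le).mpr hiS)
  have h3 : c * i * c⁻¹ ∈ (T : Subgroup X) := hcT ⟨i, mem_zpowers i, rfl⟩
  have h4 : Path u (c * i * c⁻¹) := by
    refine huz.tail ⟨by rw [orderOf_cj, hi], (hzc _ h3).symm⟩
  have h5 : c⁻¹ ∈ stab u hu := (stab u hu).inv_mem hc
  have h6 := (mem_stab_iff h4).mp h5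
  have e : c⁻¹ * (c * i * c⁻¹) * c⁻¹⁻¹ = i := by group
  rwa [e] at h6

/-- **The commuting graph is connected.** -/
theorem path_of_no_se (hSE : ∀ H : Subgroup X, ¬ IsStronglyEmbedded H) {u : X} (hu : orderOf u = 2)
    {t : X} (ht : orderOf t = 2) : Path u t := by
  have h2 : Fact (Nat.Prime 2) := ⟨Nat.prime_two⟩
  have htop : stab u hu = ⊤ := by
    by_contra hne
    refine hSE (stab u hu) ⟨hne, ?_, ?_⟩
    · have huS : u ∈ stab u hu := by
        rw [mem_stab, mul_inv_cancel_right]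
        exact Relation.ReflTransGen.refl
      rw [even_iff_two_dvd, ← hu]
      have := orderOf_dvd_natCard (⟨u, huS⟩ : stab u hu)
      rwa [← Subgroup.orderOf_coe] at this
    · intro g hg
      by_contra hodd
      rw [Nat.not_odd_iff_even, even_iff_two_dvd] at hodd
      obtain ⟨y, hy⟩ := exists_prime_orderOf_dvd_card' 2 hodd
      have hi2 : orderOf (y : X) = 2 := by rw [Subgroup.orderOf_coe]; exact hy
      obtain ⟨h1, w, hw, hwy⟩ := y.2
      have hwy' : g * w * g⁻¹ = (y : X) := hwy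
      have hw2 : orderOf w = 2 := by rw [← orderOf_cj g w, hwy', hi2]
      have h3 := path_of_mem hu hi2 h1
      have h4 := path_of_mem hu hw2 hw
      apply hg
      rw [mem_stab_iff h4, hwy']
      exact h3
  exact path_of_mem hu ht (by rw [htop]; exact mem_top _)

/-- a set of involutions closed under commuting involutions -/
theorem mem_of_no_se (hSE : ∀ H : Subgroup X, ¬ IsStronglyEmbedded H) {S : Set X} {u : X}
    (hu : orderOf u = 2) (huS : u ∈ S)
    (hS : ∀ t ∈ S, ∀ t' : X, orderOf t' = 2 → Commute t t' → t' ∈ S) {t : X} (ht : orderOf t = 2) :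
    t ∈ S := by
  have h := path_of_no_se hSE hu ht
  clear ht
  induction h with
  | refl => exact huS
  | tail _ hbc ih => exact hS _ ih _ hbc.1 hbc.2

end Cfsg.Agent.UGT.I34.WOneC.Graph
end

-- part: UGT/I34/Two/Syl
section
set_option linter.all false
open scoped Cfsg.Agent.FastGrp

/-!
# Covering by a Sylow subgroup

`sylow_cover`: `S` a Sylow 2-subgroup of `L`, `N0 ≤ N` normal in `L`, `N / N0` a 2-group: every element of `N` is
congruent modulo `N0` to an element of `S ⊓ N`.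
-/

set_option autoImplicit false

open Subgroup

namespace Cfsg.Agent.UGT.I34.Two

variable {G : Type*} [Group G] [Finite G]

/-- `S` a Sylow 2-subgroup of `L`, `N0 ≤ N` normal in `L`, `N / N0` a 2-group: every `n ∈ N` is congruent modulo
`N0` to an element of `S ⊓ N`. -/
theorem sylow_cover {L S N N0 : Subgroup G} (hS2 : IsPGroup 2 ↥S)
    (hS : ¬ 2 ∣ S.relIndex L) (hNL : N ≤ L) (hN : ∀ l ∈ L, ∀ n ∈ N, l * n * l⁻¹ ∈ N)
    (hN0 : ∀ l ∈ L, ∀ n ∈ N0, l * n * l⁻¹ ∈ N0)
    (h2 : ∀ n ∈ N, ∃ k : ℕ, n ^ 2 ^ k ∈ N0) :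
    ∀ n ∈ N, ∃ s ∈ S ⊓ N, s⁻¹ * n ∈ N0 ∧ n * s⁻¹ ∈ N0 := by
  intro n hn
  have : Fact (Nat.Prime 2) := ⟨Nat.prime_two⟩
  have hSp : IsPGroup 2 ↥(S.subgroupOf L) := hS2.comap_of_injective L.subtype L.subtype_injective
  have hn1 : (N.subgroupOf L).Normal := ⟨fun x hx g => hN g g.2 x hx⟩
  have hn0 : (N0.subgroupOf L).Normal := ⟨fun x hx g => hN0 g g.2 x hx⟩
  have h := Lib.SylowNormalInf.le_sup_inf (hSp.toSylow hS) (N.subgroupOf L) (N0.subgroupOf L)
    (fun x hx => by
      obtain ⟨k, hk⟩ := h2 x hx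
      exact ⟨k, hk⟩)
  have h3 : (⟨n, hNL hn⟩ : ↥L) ∈ N.subgroupOf L := hn
  obtain ⟨a, ha, s, hs, has⟩ := mem_sup_of_normal_left.mp (h h3)
  obtain ⟨hs1, hs2⟩ := hs
  have hs1' : (s : G) ∈ S := hs1
  have hs2' : (s : G) ∈ N := hs2
  have ha' : (a : G) ∈ N0 := ha
  have has' : (a : G) * s = n := congrArg Subtype.val has
  refine ⟨s, ⟨hs1', hs2'⟩, ?_, ?_⟩
  · have h4 := hN0 (s : G)⁻¹ (L.inv_mem s.2) a ha'
    have h5 : (s : G)⁻¹ * n = (s : G)⁻¹ * a * (s : G)⁻¹⁻¹ := by
      rw [← has']; group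
    rw [h5]; exact h4
  · rw [← has', mul_inv_cancel_right]
    exact ha'

end Cfsg.Agent.UGT.I34.Two
end

-- part: OddHalf/NI/SolTorus
section
prune_inst 0x430104520132212000018059233002050140004900000000090000702024614202042200178201d0088082c5028080060139801c0420000000a000c0000040521808040000340010426000f801003180c00000000000000000000000000041004200000000
set_option linter.all false
open scoped Cfsg.Agent.FastGrp

-- part: OddHalf/NI/SolArith
section
/-!
# Sol(q), the matrix lemma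

Two reflections `S`, `S'` of a free module of rank 3 over a commutative ring in which 2 is invertible, with all
entries of the roots and coroots units, and `(S S')²` diagonal: then `S S' = S' S` and the third ratio `C` of the
roots satisfies `C² + C + 2 = 0`.
-/

set_option autoImplicit false

namespace Cfsg.Agent.OddHalf.NI.Sol

open Matrix

variable {A : Type*} [CommRing A]

/-- the reflection `1 - h (1,1,1) ⊗ (2,1,1)` -/
def SA (h : A) : Matrix (Fin 3) (Fin 3) A :=
  1 - Matrix.vecMulVec (h • ![1, 1, 1]) ![2, 1, 1]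

/-- the reflection `1 - h r ⊗ (q₀, 2 q₁, q₂)` -/
def SB (h : A) (r q : Fin 3 → A) : Matrix (Fin 3) (Fin 3) A :=
  1 - Matrix.vecMulVec (h • r) ![q 0, 2 * q 1, q 2]

attribute [-instance] instNoNatZeroDivisorsOfIsAddTorsionFree instIsCharPOfIsLeftCancelAddOfCharP in
theorem SA_sq {h : A} (hh : 2 * h = 1) : SA h * SA h = 1 := by
  unfold SA
  ext i j
  (revert i j; simp only [Matrix.mul_apply, Fin.sum_univ_three, Matrix.vecMulVec_apply, Matrix.sub_apply, Matrix.one_apply, _root_.Fin.forall_fin_succ, _root_.Nat.succ_eq_add_one, Nat.reduceAdd, _root_.Matrix.smul_cons, _root_.smul_eq_mul, _root_.mul_one, _root_.Matrix.smul_empty, _root_.Matrix.vecMulVec_cons, _root_.Matrix.of_apply, Fin.isValue, _root_.Matrix.cons_val_zero, _root_.Matrix.cons_val_one, _root_.Matrix.cons_val, ↓reduceIte, _root_.one_ne_zero, _root_.zero_sub, _root_.mul_neg, Fin.reduceEq, _root_.Matrix.cons_val_succ, _root_.Fin.succ_zero_eq_one, _root_.zero_ne_one, _root_.Matrix.cons_val_fin_one,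 _root_.Fin.succ_one_eq_two, _root_.IsEmpty.forall_iff, _root_.and_true, _root_.neg_mul, _root_.neg_neg, _root_.Fin.succ_ne_zero]) <;>
    grobner

attribute [-instance] instNoNatZeroDivisorsOfIsAddTorsionFree instIsCharPOfIsLeftCancelAddOfCharP in
theorem SB_sq {h : A} {r q : Fin 3 → A} (hh : 2 * h = 1) (hr : ∀ i, r i * q i = 1) :
    SB h r q * SB h r q = 1 := by
  have h0 := hr 0
  have h1 := hr 1
  have h2 := hr 2
  unfold SB
  ext i j
  (revert i j; simp only [Matrix.mul_apply, Fin.sum_univ_three, Matrix.vecMulVec_apply, Matrix.sub_apply, Matrix.one_apply, _root_.Fin.forall_fin_succ, _root_.Nat.succ_eq_add_one, Nat.reduceAdd, Fin.isValue, _root_.Matrix.smul_vecMulVec, _root_.Matrix.vecMulVec_cons, _root_.Matrix.smul_cons, _root_.smul_eq_mul, _root_.Matrix.smul_empty, _root_.Matrix.smul_of, _root_.Matrix.of_apply, _root_.Pi.smul_apply, _root_.Matrix.cons_val_zero, _root_.Matrix.cons_val_one, _root_.Matrix.cons_val, ↓reduceIte, _root_.one_ne_zero,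 _root_.zero_sub, _root_.mul_neg, Fin.reduceEq, _root_.Matrix.cons_val_succ, _root_.Fin.succ_zero_eq_one, _root_.zero_ne_one, _root_.Matrix.cons_val_fin_one, _root_.Fin.succ_one_eq_two, _root_.IsEmpty.forall_iff, _root_.and_true, _root_.neg_mul, _root_.neg_neg, _root_.Fin.succ_ne_zero]) <;>
    grobner

attribute [-instance] instNoNatZeroDivisorsOfIsAddTorsionFree instIsCharPOfIsLeftCancelAddOfCharP in
theorem matrix_lemma {h : A} {r q : Fin 3 → A} (hh : 2 * h = 1) (hr : ∀ i, r i * q i = 1) (d : Fin 3 → A)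
    (hd : SA h * SB h r q * SA h * SB h r q = Matrix.diagonal d) :
    r 2 ^ 2 + r 0 * r 2 + 2 * r 0 ^ 2 = 0 := by
  have hS := SA_sq hh
  have hS' := SB_sq hh hr
  set S := SA h with hSdef
  set T := SB h r q with hTdef
  -- `D S D = S`
  have h1 : Matrix.diagonal d * S * Matrix.diagonal d = S := by
    rw [← hd]
    calc S * T * S * T * S * (S * T * S * T) = S * T * S * T * (S * S) * T * S * T := by
          simp only [Matrix.mul_assoc]
      _ = S * T * S * (T * T) * S * T := by rw [hS]; simp only [Matrix.mul_assoc, Matrix.mul_one, Matrix.one_mul]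
      _ = S * T * (S * S) * T := by rw [hS']; simp only [Matrix.mul_assoc, Matrix.mul_one, Matrix.one_mul]
      _ = S * (T * T) := by rw [hS]; simp only [Matrix.mul_assoc, Matrix.mul_one, Matrix.one_mul]
      _ = S := by rw [hS', Matrix.mul_one]
  have hent : ∀ i j, d i * S i j * d j = S i j := by
    intro i j
    have h2 := congrFun (congrFun h1 i) j
    rwa [Matrix.mul_diagonal, Matrix.diagonal_mul] at h2
  -- the products `d i * d j`
  have e01 : d 0 * d 1 = 1 := by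
    have h2 := hent 0 1
    simp [hSdef, SA, Matrix.vecMulVec_apply, Matrix.sub_apply, Matrix.one_apply] at h2
    (clear * - hh h2; grobner)
  have e02 : d 0 * d 2 = 1 := by
    have h2 := hent 0 2
    simp [hSdef, SA, Matrix.vecMulVec_apply, Matrix.sub_apply, Matrix.one_apply] at h2
    (clear * - hh h2; grobner)
  have e12 : d 1 * d 2 = 1 := by
    have h2 := hent 1 2
    simp [hSdef, SA, Matrix.vecMulVec_apply, Matrix.sub_apply, Matrix.one_apply] at h2
    (clear * - hh e01 e02 h2; grobner)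
  have d1 : d 1 = d 0 := by
    calc d 1 = d 1 * (d 0 * d 2) := by rw [e02, mul_one]
      _ = d 0 * (d 1 * d 2) := by ring
      _ = d 0 := by rw [e12, mul_one]
  have d2 : d 2 = d 0 := by
    calc d 2 = d 2 * (d 0 * d 1) := by rw [e01, mul_one]
      _ = d 0 * (d 1 * d 2) := by ring
      _ = d 0 := by rw [e12, mul_one]
  have hdd : d = fun _ => d 0 := by
    funext i
    fin_cases i
    · rfl
    · exact d1
    · exact d2
  have hdiag : Matrix.diagonal d = d 0 • (1 : Matrix (Fin 3) (Fin 3) A) := by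
    conv_lhs => rw [hdd]
    ext i j
    simp [Matrix.diagonal_apply, Matrix.smul_apply, Matrix.one_apply]
  rw [hdiag] at hd
  -- the trace
  have h3 : T * S * T = d 0 • S := by
    calc T * S * T = (S * S) * T * S * T := by rw [hS, Matrix.one_mul]
      _ = S * (S * T * S * T) := by simp only [Matrix.mul_assoc]
      _ = d 0 • S := by rw [hd, Matrix.mul_smul, Matrix.mul_one]
  have htr : S.trace = 1 := by
    simp [hSdef, SA, Matrix.trace, Fin.sum_univ_three, Matrix.vecMulVec_apply, Matrix.sub_apply]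
    (clear * - hh; grobner)
  have h4 : (T * S * T).trace = S.trace := by
    rw [Matrix.mul_assoc, Matrix.trace_mul_comm, Matrix.mul_assoc, hS', Matrix.mul_one]
  have hd0 : d 0 = 1 := by
    rw [h3, Matrix.trace_smul, htr, smul_eq_mul, mul_one] at h4
    exact h4
  rw [hd0, one_smul] at h3
  -- `S T = T S`
  have h5 : T * S = S * T := by
    calc T * S = T * S * (T * T) := by rw [hS', Matrix.mul_one]
      _ = (T * S * T) * T := by simp only [Matrix.mul_assoc]
      _ = S * T := by rw [h3]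
  have hr0 := hr 0
  have hr1 := hr 1
  have hr2 := hr 2
  have k02 := congrFun (congrFun h5 0) 2
  have k20 := congrFun (congrFun h5 2) 0
  simp only [hSdef, hTdef, SA, SB, Matrix.mul_apply, Fin.sum_univ_three, Matrix.vecMulVec_apply, Matrix.sub_apply,
    Matrix.one_apply, _root_.Nat.succ_eq_add_one, _root_.Nat.reduceAdd, _root_.Fin.isValue, _root_.Matrix.smul_vecMulVec, _root_.Matrix.vecMulVec_cons, _root_.Matrix.smul_cons, _root_.smul_eq_mul, _root_.Matrix.smul_empty, _root_.Matrix.smul_of, _root_.mul_one, _root_.Matrix.of_apply, _root_.Pi.smul_apply, _root_.Matrix.cons_val, ↓ _root_.reduceIte, _root_.Matrix.cons_val_zero, _root_.Fin.reduceEq, _root_.zero_sub, _root_.mul_neg, _root_.zero_ne_one, _root_.Matrix.cons_val_one, _root_.neg_mul, _root_.neg_neg, _root_.one_ne_zero] at k02 k20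
  -- `X = φ(β)`, `Y = ψ(α)`
  obtain ⟨X, hX⟩ : ∃ X, X = h * (2 * r 0 + r 1 + r 2) := ⟨_, rfl⟩
  obtain ⟨Y, hY⟩ : ∃ Y, Y = h * (q 0 + 2 * q 1 + q 2) := ⟨_, rfl⟩
  have f1 : X * q 2 = Y * r 0 := by
    have : h * (X * q 2) = h * (Y * r 0) := by (clear * - hh hr0 hr1 hr2 k02 k20 hX hY; grobner)
    calc X * q 2 = 2 * (h * (X * q 2)) := by rw [← mul_assoc, hh, one_mul]
      _ = 2 * (h * (Y * r 0)) := by rw [this]
      _ = Y * r 0 := by rw [← mul_assoc, hh, one_mul]
  have f2 : X * q 0 = 2 * (Y * r 2) := by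
    have : h * (X * q 0) = h * (2 * (Y * r 2)) := by (clear * - hh hr0 hr1 hr2 k20 hX hY f1; grobner)
    calc X * q 0 = 2 * (h * (X * q 0)) := by rw [← mul_assoc, hh, one_mul]
      _ = 2 * (h * (2 * (Y * r 2))) := by rw [this]
      _ = 2 * (Y * r 2) := by rw [← mul_assoc, hh, one_mul]
  have f3 : X = Y * r 0 * r 2 := by
    calc X = X * q 2 * r 2 := by rw [mul_assoc, mul_comm (q 2), hr2, mul_one]
      _ = Y * r 0 * r 2 := by rw [f1]
  have f4 : X = 2 * (Y * r 0 * r 2) := by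
    calc X = X * q 0 * r 0 := by rw [mul_assoc, mul_comm (q 0), hr0, mul_one]
      _ = 2 * (Y * r 0 * r 2) := by rw [f2]; ring
  have f5 : X = 0 := by linear_combination 2 * f3 - f4
  have f6 : Y = 0 := by
    have f7 : Y * r 0 * r 2 = 0 := by rw [← f3, f5]
    calc Y = (Y * r 0 * r 2) * (q 2 * q 0) := by
          rw [show Y * r 0 * r 2 * (q 2 * q 0) = Y * (r 0 * q 0) * (r 2 * q 2) by ring, hr0, hr2, mul_one, mul_one]
      _ = 0 := by rw [f7, zero_mul]
  have g1 : 2 * r 0 + r 1 + r 2 = 0 := by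
    calc 2 * r 0 + r 1 + r 2 = 2 * (h * (2 * r 0 + r 1 + r 2)) := by rw [← mul_assoc, hh, one_mul]
      _ = 0 := by rw [← hX, f5, mul_zero]
  have g2 : q 0 + 2 * q 1 + q 2 = 0 := by
    calc q 0 + 2 * q 1 + q 2 = 2 * (h * (q 0 + 2 * q 1 + q 2)) := by rw [← mul_assoc, hh, one_mul]
      _ = 0 := by rw [← hY, f6, mul_zero]
  have g3 : r 1 * r 2 + 2 * (r 0 * r 2) + r 0 * r 1 = 0 := by
    have : r 1 * r 2 + 2 * (r 0 * r 2) + r 0 * r 1 = r 0 * r 1 * r 2 * (q 0 + 2 * q 1 + q 2) := by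
      linear_combination -(r 1 * r 2) * hr0 - 2 * (r 0 * r 2) * hr1 - (r 0 * r 1) * hr2
    rw [this, g2, mul_zero]
  linear_combination -g3 + (r 0 + r 2) * g1

end Cfsg.Agent.OddHalf.NI.Sol
end

-- part: OddHalf/NI/SolTorus
section
/-!
# Sol(q): frames, the action of `s = g⁻¹ b(n) g` on the `m`-torus

`S` is `SL₂(F)`. A frame of `L` (`≃ Spin₇(F)`): `a b c : S →* G` (the `Spin₃` and the two factors of the `Spin₄⁺`) and
`g` of order 3, a 3-cycle of the three planes of the torus.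
-/

set_option autoImplicit false

namespace Cfsg.Agent.OddHalf.NI.Sol

open Subgroup

variable {S : Type*} [Group S] {G : Type*} [Group G]

/-- The torus data of `S = SL₂(F)`: `t` of odd order `m`, `n² = z`, `t ^ n = t⁻¹`, `δ` the diagonal automorphism
centralizing the torus. -/
structure Tor (δ : MulAut S) (t n z : S) (m : ℕ) : Prop where
  odd : Odd m
  one_lt : 1 < m
  ord : orderOf t = m
  zz : z * z = 1
  z1 : z ≠ 1
  zuniq : ∀ x : S, x * x = 1 → x ≠ 1 → x = z
  cen : ∀ x : S, x * z = z * x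
  cen2 : ∀ x : S, (∀ y, x * y = y * x) → x = 1 ∨ x = z
  nn : n * n = z
  nt : n * t * n⁻¹ = t⁻¹
  dt : δ t = t
  dn : δ n = z * n
  tor : ∀ A, δ A = A → A ^ m = 1 → ∃ k : ℤ, A = t ^ k
  conj : ∀ α : MulAut S, ∃ (h : S) (k : ℤ), α (h * t * h⁻¹) = t ^ k ∧
    ∀ A, α (h * δ A * h⁻¹) = δ (α (h * A * h⁻¹))
  arith : ∀ (α β : MulAut S) (k l : ℤ), α t = t ^ k → β t = t ^ l →
    ((l : ℤ) : ZMod m) ^ 2 + ((k : ℤ) : ZMod m) * ((l : ℤ) : ZMod m) + 2 * ((k : ℤ) : ZMod m) ^ 2 ≠ 0

/-- `y` centralizes the images of `a`, `b`, `c`. -/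
def Cen (a b c : S →* G) (y : G) : Prop :=
  (∀ A, y * a A = a A * y) ∧ (∀ A, y * b A = b A * y) ∧ (∀ A, y * c A = c A * y)

/-- A frame of `L`. -/
structure Fr (δ : MulAut S) (t z : S) (L : Subgroup G) (a b c : S →* G) (g : G) : Prop where
  ia : Function.Injective a
  ib : Function.Injective b
  ic : Function.Injective c
  ma : ∀ A, a A ∈ L
  mb : ∀ A, b A ∈ L
  mc : ∀ A, c A ∈ L
  mg : g ∈ L
  ab : ∀ A B, a A * b B = b B * a A
  ac : ∀ A B, a A * c B = c B * a A
  bc : ∀ A B, b A * c B = c B * b A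
  cen : ∀ x ∈ L, x * a z = a z * x
  prod : b z * c z = a z
  gv : g * b z * g⁻¹ = b z * (g⁻¹ * b z * g) ∨ g * b z * g⁻¹ = b z * (g⁻¹ * b z * g) * a z
  ea : ∀ A, (g⁻¹ * b z * g) * a A = a (δ A) * (g⁻¹ * b z * g)
  eb : ∀ A, (g⁻¹ * b z * g) * b A = b (δ A) * (g⁻¹ * b z * g)
  ec : ∀ A, (g⁻¹ * b z * g) * c A = c (δ A) * (g⁻¹ * b z * g)
  ga : g * a t * g⁻¹ = b t * c t
  gb : g * (b t * c t) * g⁻¹ = b t * (c t)⁻¹
  gc : g * (b t * (c t)⁻¹) * g⁻¹ = a t
  rig : ∀ y : G, (∀ x, x ∈ L ↔ y * x * y⁻¹ ∈ L) → Cen a b c y →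
    y * g = g * y ∨ (y * b z) * g = g * (y * b z)

theorem Fr.conj {δ : MulAut S} {t z : S} {L : Subgroup G} {a b c : S →* G} {g : G} (h : Fr δ t z L a b c g)
    {x : G} (hx : x ∈ L) :
    Fr δ t z L ((MulAut.conj x).toMonoidHom.comp a) ((MulAut.conj x).toMonoidHom.comp b)
      ((MulAut.conj x).toMonoidHom.comp c) (MulAut.conj x g) := by
  have key : ∀ {p q : G}, p = q → MulAut.conj x p = MulAut.conj x q := fun h => by rw [h]
  have kk : ∀ {p q : G} {P Q : G}, p = q → P = MulAut.conj x p → Q = MulAut.conj x q → P = Q := by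
    intro p q P Q h1 h2 h3
    rw [h2, h3, h1]
  have hL : ∀ y, y ∈ L ↔ MulAut.conj x y ∈ L := by
    intro y
    rw [MulAut.conj_apply]
    constructor
    · intro hy
      exact mul_mem (mul_mem hx hy) (inv_mem hx)
    · intro hy
      have := mul_mem (mul_mem (inv_mem hx) hy) hx
      convert this using 1
      group
  refine
    { ia := (MulAut.conj x).injective.comp h.ia
      ib := (MulAut.conj x).injective.comp h.ib
      ic := (MulAut.conj x).injective.comp h.ic
      ma := fun A => (hL _).mp (h.ma A)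
      mb := fun A => (hL _).mp (h.mb A)
      mc := fun A => (hL _).mp (h.mc A)
      mg := (hL _).mp h.mg
      ab := fun A B => kk (h.ab A B) (by rw [map_mul]; rfl) (by rw [map_mul]; rfl)
      ac := fun A B => kk (h.ac A B) (by rw [map_mul]; rfl) (by rw [map_mul]; rfl)
      bc := fun A B => kk (h.bc A B) (by rw [map_mul]; rfl) (by rw [map_mul]; rfl)
      cen := ?_
      prod := kk h.prod (by rw [map_mul]; rfl) rfl
      gv := ?_
      ea := fun A => kk (h.ea A) (by simp only [map_mul, map_inv]; rfl) (by simp only [map_mul, map_inv]; rfl)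
      eb := fun A => kk (h.eb A) (by simp only [map_mul, map_inv]; rfl) (by simp only [map_mul, map_inv]; rfl)
      ec := fun A => kk (h.ec A) (by simp only [map_mul, map_inv]; rfl) (by simp only [map_mul, map_inv]; rfl)
      ga := kk h.ga (by simp only [map_mul, map_inv]; rfl) (by simp only [map_mul, map_inv]; rfl)
      gb := kk h.gb (by simp only [map_mul, map_inv]; rfl) (by simp only [map_mul, map_inv]; rfl)
      gc := kk h.gc (by simp only [map_mul, map_inv]; rfl) rfl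
      rig := ?_ }
  · intro y hy
    have h1 : y * a z = a z * y := h.cen y hy
    have h2 : x * a z = a z * x := h.cen x hx
    have h3 : ((MulAut.conj x).toMonoidHom.comp a) z = a z := by
      change x * a z * x⁻¹ = a z
      rw [h2, mul_inv_cancel_right]
    rw [h3, h1]
  · rcases h.gv with h1 | h1
    · left; exact kk h1 (by simp only [map_mul, map_inv]; rfl) (by simp only [map_mul, map_inv]; rfl)
    · right; exact kk h1 (by simp only [map_mul, map_inv]; rfl) (by simp only [map_mul, map_inv]; rfl)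
  · intro y hy hc
    obtain ⟨h1, h2, h3⟩ := hc
    -- `y' = x⁻¹ y x`
    have e1 : ∀ p q : G, y * (MulAut.conj x p) = (MulAut.conj x q) * y ↔
        (x⁻¹ * y * x) * p = q * (x⁻¹ * y * x) := by
      intro p q
      rw [MulAut.conj_apply, MulAut.conj_apply]
      constructor
      · intro h5
        have h6 : x⁻¹ * (y * (x * p * x⁻¹)) * x = x⁻¹ * ((x * q * x⁻¹) * y) * x := by rw [h5]
        convert h6 using 1 <;> group
      · intro h5
        have h6 : x * ((x⁻¹ * y * x) * p) * x⁻¹ = x * (q * (x⁻¹ * y * x)) * x⁻¹ := by rw [h5]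
        convert h6 using 1 <;> group
    have hN : ∀ p, p ∈ L ↔ (x⁻¹ * y * x) * p * (x⁻¹ * y * x)⁻¹ ∈ L := by
      intro p
      have h5 : (x⁻¹ * y * x) * p * (x⁻¹ * y * x)⁻¹ = x⁻¹ * (y * (x * p * x⁻¹) * y⁻¹) * x := by group
      have h6 : ∀ q, q ∈ L ↔ x⁻¹ * q * x ∈ L := by
        intro q
        rw [hL (x⁻¹ * q * x), MulAut.conj_apply]
        have : x * (x⁻¹ * q * x) * x⁻¹ = q := by group
        rw [this]
      rw [h5, ← h6, ← hy, hL p, MulAut.conj_apply]
    rcases h.rig (x⁻¹ * y * x) hN ⟨fun A => (e1 _ _).mp (h1 A), fun A => (e1 _ _).mp (h2 A),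
      fun A => (e1 _ _).mp (h3 A)⟩ with h4 | h4
    · left; exact (e1 _ _).mpr h4
    · right
      change (y * (x * b z * x⁻¹)) * (x * g * x⁻¹) = (x * g * x⁻¹) * (y * (x * b z * x⁻¹))
      have h6 : x * ((x⁻¹ * y * x) * b z * g) * x⁻¹ = x * (g * ((x⁻¹ * y * x) * b z)) * x⁻¹ := by rw [h4]
      convert h6 using 1 <;> group

section torus

variable {m : ℕ} [NeZero m]

theorem pw_add {t : S} (ht : t ^ m = 1) (x y : ZMod m) : t ^ (x + y).val = t ^ x.val * t ^ y.val := by
  rw [ZMod.val_add, ← pow_add]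
  conv_rhs => rw [← Nat.mod_add_div (x.val + y.val) m, pow_add, pow_mul, ht, one_pow, mul_one]

theorem pw_intCast {t : S} (ht : t ^ m = 1) (k : ℤ) : t ^ ((k : ℤ) : ZMod m).val = t ^ k := by
  have h1 : ((((k : ℤ) : ZMod m).val : ℕ) : ℤ) = k % m := ZMod.val_intCast k
  rw [← zpow_natCast, h1]
  conv_rhs => rw [← Int.emod_add_mul_ediv k m, zpow_add, zpow_mul, zpow_natCast, ht, one_zpow, mul_one]

theorem pw_inj {t : S} (ht : orderOf t = m) {x y : ZMod m} (h : t ^ x.val = t ^ y.val) : x = y := by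
  have h1 : x.val % orderOf t = y.val % orderOf t := pow_inj_mod.mp h
  rw [ht, Nat.mod_eq_of_lt (ZMod.val_lt x), Nat.mod_eq_of_lt (ZMod.val_lt y)] at h1
  exact ZMod.val_injective m h1

/-- the torus -/
def P (t : S) (a b c : S →* G) (x : Fin 3 → ZMod m) : G :=
  a (t ^ (x 0).val) * b (t ^ (x 1).val) * c (t ^ (x 2).val)

variable {δ : MulAut S} {t z : S} {L : Subgroup G} {a b c : S →* G} {g : G}

theorem P_add (ht : t ^ m = 1) (ab : ∀ A B, a A * b B = b B * a A) (ac : ∀ A B, a A * c B = c B * a A)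
    (bc : ∀ A B, b A * c B = c B * b A) (x y : Fin 3 → ZMod m) :
    P t a b c (x + y) = P t a b c x * P t a b c y := by
  unfold P
  rw [Pi.add_apply, Pi.add_apply, Pi.add_apply, pw_add ht, pw_add ht, pw_add ht, map_mul, map_mul, map_mul]
  generalize t ^ (x 0).val = x0
  generalize t ^ (y 0).val = y0
  generalize t ^ (x 1).val = x1
  generalize t ^ (y 1).val = y1
  generalize t ^ (x 2).val = x2
  generalize t ^ (y 2).val = y2
  calc a x0 * a y0 * (b x1 * b y1) * (c x2 * c y2) = a x0 * (a y0 * b x1) * (b y1 * c x2) * c y2 := by group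
    _ = a x0 * (b x1 * a y0) * (c x2 * b y1) * c y2 := by rw [ab, bc]
    _ = a x0 * b x1 * (a y0 * c x2) * b y1 * c y2 := by group
    _ = a x0 * b x1 * (c x2 * a y0) * b y1 * c y2 := by rw [ac]
    _ = a x0 * b x1 * c x2 * (a y0 * b y1 * c y2) := by group

/-- the torus as a homomorphism -/
def Phom (t : S) (a b c : S →* G) (ht : t ^ m = 1) (ab : ∀ A B, a A * b B = b B * a A)
    (ac : ∀ A B, a A * c B = c B * a A) (bc : ∀ A B, b A * c B = c B * b A) :
    Multiplicative (Fin 3 → ZMod m) →* G where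
  toFun x := P t a b c x.toAdd
  map_one' := by simp [P]
  map_mul' x y := P_add ht ab ac bc _ _

theorem P_pow (ht : t ^ m = 1) (ab : ∀ A B, a A * b B = b B * a A) (ac : ∀ A B, a A * c B = c B * a A)
    (bc : ∀ A B, b A * c B = c B * b A) (x : Fin 3 → ZMod m) (k : ZMod m) :
    P t a b c (k • x) = P t a b c x ^ k.val := by
  have h1 : (Phom t a b c ht ab ac bc) (Multiplicative.ofAdd x ^ k.val) =
      (Phom t a b c ht ab ac bc) (Multiplicative.ofAdd x) ^ k.val := map_pow _ _ _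
  have h2 : Multiplicative.ofAdd x ^ k.val = Multiplicative.ofAdd (k • x) := by
    rw [← ofAdd_nsmul]
    congr 1
    ext i
    rw [Pi.smul_apply, Pi.smul_apply, nsmul_eq_mul, smul_eq_mul, ZMod.natCast_zmod_val]
  rw [h2] at h1
  exact h1

/-- an element acting on the images of the unit vectors by the columns of `M` acts as `M` -/
theorem act_of (ht : t ^ m = 1) (ab : ∀ A B, a A * b B = b B * a A) (ac : ∀ A B, a A * c B = c B * a A)
    (bc : ∀ A B, b A * c B = c B * b A) (M : Matrix (Fin 3) (Fin 3) (ZMod m)) (s : G)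
    (h : ∀ i, s * P t a b c (Pi.single i 1 : Fin 3 → ZMod m) * s⁻¹ = P t a b c (fun j => M j i)) (x : Fin 3 → ZMod m) :
    s * P t a b c x * s⁻¹ = P t a b c (M.mulVec x) := by
  have hx : x = x 0 • Pi.single 0 1 + x 1 • Pi.single 1 1 + x 2 • (Pi.single 2 1 : Fin 3 → ZMod m) := by
    ext i
    fin_cases i <;> simp
  have hM : M.mulVec x = x 0 • (fun j => M j 0) + x 1 • (fun j => M j 1) + x 2 • (fun j => M j 2) := by
    ext i
    simp only [Matrix.mulVec, dotProduct, Fin.sum_univ_three, _root_.Fin.isValue, _root_.Pi.add_apply, _root_.Pi.smul_apply, _root_.smul_eq_mul]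
    ring
  rw [hM, P_add ht ab ac bc, P_add ht ab ac bc, P_pow ht ab ac bc, P_pow ht ab ac bc, P_pow ht ab ac bc,
    ← h 0, ← h 1, ← h 2, conj_pow, conj_pow, conj_pow]
  conv_lhs => rw [hx]
  rw [P_add ht ab ac bc, P_add ht ab ac bc, P_pow ht ab ac bc, P_pow ht ab ac bc, P_pow ht ab ac bc]
  group

theorem P_inj (ht : orderOf t = m) (hodd : Odd m) (ia : Function.Injective a) (ib : Function.Injective b)
    (ic : Function.Injective c) (ab : ∀ A B, a A * b B = b B * a A) (ac : ∀ A B, a A * c B = c B * a A)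
    (bc : ∀ A B, b A * c B = c B * b A) (hz : z * z = 1)
    (hcen : ∀ x : S, (∀ y, x * y = y * x) → x = 1 ∨ x = z) {x : Fin 3 → ZMod m}
    (h : P t a b c x = 1) : x = 0 := by
  have ht1 : t ^ m = 1 := by rw [← ht, pow_orderOf_eq_one]
  have h2 : ∀ A : S, A ^ m = 1 → A = z → A = 1 := by
    intro A h3 h4
    obtain ⟨k, hk⟩ := hodd
    rw [hk, pow_succ, pow_mul, pow_two, h4, hz, one_pow, one_mul] at h3
    rw [h4, h3]
  have hp : ∀ k : ZMod m, (t ^ k.val) ^ m = 1 := by
    intro k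
    rw [← pow_mul, mul_comm, pow_mul, ht1, one_pow]
  have h3 : ∀ k : ZMod m, t ^ k.val = 1 → k = 0 := by
    intro k hk
    apply pw_inj (t := t) ht
    rw [hk, ZMod.val_zero, pow_zero]
  unfold P at h
  -- first coordinate
  have e0 : t ^ (x 0).val = 1 := by
    have h4 : ∀ y, t ^ (x 0).val * y = y * t ^ (x 0).val := by
      intro y
      apply ia
      rw [map_mul, map_mul]
      have h5 : a (t ^ (x 0).val) = (b (t ^ (x 1).val) * c (t ^ (x 2).val))⁻¹ := by
        rw [eq_inv_iff_mul_eq_one, ← mul_assoc, h]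
      rw [h5]
      have h6 : Commute (b (t ^ (x 1).val) * c (t ^ (x 2).val)) (a y) :=
        Commute.mul_left (ab y _).symm (ac y _).symm
      exact h6.inv_left.eq
    rcases hcen _ h4 with h5 | h5
    · exact h5
    · exact h2 _ (hp _) h5
  have e1 : t ^ (x 1).val = 1 := by
    rw [e0, map_one, one_mul] at h
    have h4 : ∀ y, t ^ (x 1).val * y = y * t ^ (x 1).val := by
      intro y
      apply ib
      rw [map_mul, map_mul]
      have h5 : b (t ^ (x 1).val) = (c (t ^ (x 2).val))⁻¹ := by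
        rw [eq_inv_iff_mul_eq_one, h]
      rw [h5]
      have h6 : Commute (c (t ^ (x 2).val)) (b y) := (bc y _).symm
      exact h6.inv_left.eq
    rcases hcen _ h4 with h5 | h5
    · exact h5
    · exact h2 _ (hp _) h5
  have e2 : t ^ (x 2).val = 1 := by
    rw [e0, e1, map_one, one_mul, map_one, one_mul, ← map_one c] at h
    exact ic h
  funext i
  fin_cases i
  · exact h3 _ e0
  · exact h3 _ e1
  · exact h3 _ e2

theorem P_inj' (ht : orderOf t = m) (hodd : Odd m) (ia : Function.Injective a) (ib : Function.Injective b)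
    (ic : Function.Injective c) (ab : ∀ A B, a A * b B = b B * a A) (ac : ∀ A B, a A * c B = c B * a A)
    (bc : ∀ A B, b A * c B = c B * b A) (hz : z * z = 1)
    (hcen : ∀ x : S, (∀ y, x * y = y * x) → x = 1 ∨ x = z) {x y : Fin 3 → ZMod m}
    (h : P t a b c x = P t a b c y) : x = y := by
  have ht1 : t ^ m = 1 := by rw [← ht, pow_orderOf_eq_one]
  have h1 : P t a b c (x - y) = 1 := by
    have h2 : P t a b c (x - y) * P t a b c y = P t a b c y := by
      rw [← P_add ht1 ab ac bc, sub_add_cancel, h]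
    exact mul_eq_right.mp h2
  exact sub_eq_zero.mp (P_inj ht hodd ia ib ic ab ac bc hz hcen h1)

end torus

end Cfsg.Agent.OddHalf.NI.Sol
end

private theorem dce_8210ecaecc2e : _root_.True := by
  try have : _root_.True := by simp only [_root_.Cfsg.Agent.OddHalf.NI.Sol.SB.eq_1]
  try have : _root_.True := by simp only [_root_.Cfsg.Agent.OddHalf.NI.Sol.SA.eq_1]
  try have : _root_.True := by simp only [_root_.Cfsg.Agent.OddHalf.NI.Sol.P.eq_1]
  exact _root_.True.intro
end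

-- part: UAlt/ClSys
section
set_option linter.all false
open scoped Cfsg.Agent.FastGrp

/-!
# Systems of alternating sections (for the multi-closing theorem with cores)

`Sys G Ω ι`: points `p : ι` (a `G`-set), subgroups `B p` normalised by the stabiliser of `p`, and homomorphisms
`φ p` from the stabiliser of `p` to `Perm Ω` mapping `B p` onto the alternating group, with kernel of odd order
on `B p`.
-/

set_option autoImplicit false

namespace Cfsg.Agent.UAlt.ClSys

open Equiv Equiv.Perm Subgroup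
open Cfsg.Agent.StdAlt.Roots

section coset

variable {G : Type*} [Group G]

/-- a `2`-group normalising a subgroup `V` of odd order and the coset `x V` centralises an element of `x V` -/
theorem coset_fix {V T : Subgroup G} (hV : Odd (Nat.card V)) (hT : IsPGroup 2 T)
    (hn : ∀ t ∈ T, ∀ v ∈ V, t * v * t⁻¹ ∈ V) {x : G} (hx : ∀ t ∈ T, x⁻¹ * (t * x * t⁻¹) ∈ V) :
    ∃ v ∈ V, ∀ t ∈ T, t * (x * v) = (x * v) * t := by
  let S : Type _ := {y : G // x⁻¹ * y ∈ V}
  let inst : MulAction T S :=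
    { smul := fun t y => ⟨t * y.1 * (t : G)⁻¹, by
        have h1 := V.mul_mem (hx t t.2) (hn t t.2 _ y.2)
        have e : x⁻¹ * (t * x * (t : G)⁻¹) * (t * (x⁻¹ * y.1) * (t : G)⁻¹) = x⁻¹ * (t * y.1 * (t : G)⁻¹) := by
          group
        rwa [e] at h1⟩
      one_smul := fun y => by
        apply Subtype.ext
        show ((1 : T) : G) * y.1 * ((1 : T) : G)⁻¹ = y.1
        simp
      mul_smul := fun s t y => by
        apply Subtype.ext
        show ((s * t : T) : G) * y.1 * ((s * t : T) : G)⁻¹ = s * (t * y.1 * (t : G)⁻¹) * (s : G)⁻¹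
        rw [Subgroup.coe_mul]; group }
  have hcard : Nat.card S = Nat.card V := by
    refine Nat.card_congr ⟨fun y => ⟨x⁻¹ * y.1, y.2⟩, fun v => ⟨x * v.1, by
      rw [inv_mul_cancel_left]; exact v.2⟩, fun y => ?_, fun v => ?_⟩
    · apply Subtype.ext; exact mul_inv_cancel_left x y.1
    · apply Subtype.ext; exact inv_mul_cancel_left x v.1
  have h2 : ¬ 2 ∣ Nat.card S := by
    rw [hcard]
    exact fun h => (Nat.not_even_iff_odd.2 hV) (even_iff_two_dvd.2 h)
  obtain ⟨y, hy⟩ := hT.nonempty_fixed_point_of_prime_not_dvd_card (p := 2) S h2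
  refine ⟨x⁻¹ * y.1, y.2, fun t ht => ?_⟩
  have h3 : t * y.1 * t⁻¹ = y.1 := congrArg Subtype.val (hy ⟨t, ht⟩)
  rw [mul_inv_cancel_left]
  exact mul_inv_eq_iff_eq_mul.1 h3

/-- the subgroup generated by two commuting elements of order two -/
theorem mem_closure_pair {t s x : G} (ht : t * t = 1) (hs : s * s = 1) (hc : t * s = s * t)
    (hx : x ∈ closure ({t, s} : Set G)) : x = 1 ∨ x = t ∨ x = s ∨ x = t * s := by
  have hti : t⁻¹ = t := inv_eq_of_mul_eq_one_left ht
  have hsi : s⁻¹ = s := inv_eq_of_mul_eq_one_left hs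
  have h1 : t * (t * s) = s := by rw [← mul_assoc, ht, one_mul]
  have h2 : s * (t * s) = t := by rw [hc, ← mul_assoc, hs, one_mul]
  have h3 : (t * s) * t = s := by rw [mul_assoc, ← hc, h1]
  have h4 : (t * s) * s = t := by rw [mul_assoc, hs, mul_one]
  have h5 : (t * s) * (t * s) = 1 := by rw [mul_assoc, h2, ht]
  induction hx using Subgroup.closure_induction with
  | mem y hy =>
    rcases hy with rfl | rfl
    · exact Or.inr (Or.inl rfl)
    · exact Or.inr (Or.inr (Or.inl rfl))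
  | one => exact Or.inl rfl
  | mul y z _ _ hy hz =>
    rcases hy with rfl | rfl | rfl | rfl <;> rcases hz with rfl | rfl | rfl | rfl <;>
      simp [ht, hs, h1, h2, h3, h4, h5, ← hc]
  | inv y _ hy =>
    rcases hy with rfl | rfl | rfl | rfl
    · left; rw [inv_one]
    · right; left; exact hti
    · right; right; left; exact hsi
    · right; right; right; rw [mul_inv_rev, hti, hsi, hc]

theorem isPGroup_pair {t s : G} (ht : t * t = 1) (hs : s * s = 1) (hc : t * s = s * t) :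
    IsPGroup 2 (closure ({t, s} : Set G)) := by
  intro x
  refine ⟨1, ?_⟩
  have h2 : s * (t * s) = t := by rw [hc, ← mul_assoc, hs, one_mul]
  apply Subtype.ext
  rw [pow_one, pow_two]
  show (x : G) * x = 1
  rcases mem_closure_pair ht hs hc x.2 with h | h | h | h
  · rw [h, one_mul]
  · rw [h, ht]
  · rw [h, hs]
  · rw [h, mul_assoc, h2, ht]

end coset

/-- A system of alternating sections. -/
structure Sys (G : Type*) [Group G] (Ω : Type*) [Fintype Ω] [DecidableEq Ω] (ι : Type*) [MulAction G ι] where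
  /-- the subgroup at a point -/
  B : ι → Subgroup G
  /-- the action of the stabiliser of a point -/
  φ : ι → G → Perm Ω
  fix : ∀ {p b}, b ∈ B p → b • p = p
  conj : ∀ {p b} (g : G), b ∈ B p → g * b * g⁻¹ ∈ B (g • p)
  map_mul : ∀ {p} {g h : G}, g • p = p → h • p = p → φ p (g * h) = φ p g * φ p h
  alt : ∀ {p b}, b ∈ B p → φ p b ∈ alternatingGroup Ω
  surj : ∀ p {σ}, σ ∈ alternatingGroup Ω → ∃ b ∈ B p, φ p b = σ
  odd' : ∀ p, Odd (Nat.card {w : G // w ∈ B p ∧ φ p w = 1})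
  tr : ∀ p (g : G), ∃ τ : Perm Ω, ∀ w : G, w • p = p → φ (g • p) (g * w * g⁻¹) = τ * φ p w * τ⁻¹

namespace Sys

variable {G : Type*} [Group G] {Ω : Type*} [Fintype Ω] [DecidableEq Ω] {ι : Type*} [MulAction G ι]
variable (D : Sys G Ω ι) {p q : ι}

theorem φ_one (p : ι) : D.φ p 1 = 1 := by
  have h := D.map_mul (p := p) (one_smul G p) (one_smul G p)
  rw [one_mul] at h
  exact mul_left_cancel (h.symm.trans (mul_one _).symm)

theorem fix_inv {g : G} (hg : g • p = p) : g⁻¹ • p = p := by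
  rw [inv_smul_eq_iff, hg]

theorem fix_mul {g h : G} (hg : g • p = p) (hh : h • p = p) : (g * h) • p = p := by
  rw [mul_smul, hh, hg]

theorem φ_inv {g : G} (hg : g • p = p) : D.φ p g⁻¹ = (D.φ p g)⁻¹ := by
  have h := D.map_mul hg (fix_inv hg)
  rw [mul_inv_cancel, D.φ_one] at h
  exact (inv_eq_of_mul_eq_one_right h.symm).symm

theorem fix_pow {g : G} (hg : g • p = p) (n : ℕ) : g ^ n • p = p := by
  induction n with
  | zero => rw [pow_zero, one_smul]
  | succ n ih => rw [pow_succ]; exact fix_mul ih hg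

theorem φ_pow {g : G} (hg : g • p = p) (n : ℕ) : D.φ p (g ^ n) = D.φ p g ^ n := by
  induction n with
  | zero => rw [pow_zero, pow_zero, D.φ_one]
  | succ n ih => rw [pow_succ, D.map_mul (fix_pow hg n) hg, ih, pow_succ]

theorem φ_conj {g h : G} (hg : g • p = p) (hh : h • p = p) :
    D.φ p (g * h * g⁻¹) = D.φ p g * D.φ p h * (D.φ p g)⁻¹ := by
  rw [D.map_mul (fix_mul hg hh) (fix_inv hg), D.map_mul hg hh, D.φ_inv hg]

/-- the stabiliser of `p` normalises `B p` -/
theorem conj_mem {g b : G} (hg : g • p = p) (hb : b ∈ D.B p) : g * b * g⁻¹ ∈ D.B p := by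
  have := D.conj g hb
  rwa [hg] at this

theorem conj_mem_iff {g b : G} : g * b * g⁻¹ ∈ D.B (g • p) ↔ b ∈ D.B p := by
  refine ⟨fun h => ?_, D.conj g⟩
  have h1 := D.conj g⁻¹ h
  rwa [inv_smul_smul, show g⁻¹ * (g * b * g⁻¹) * g⁻¹⁻¹ = b by group] at h1

/-- the kernel at a point -/
def W (p : ι) : Subgroup G where
  carrier := {w | w ∈ D.B p ∧ D.φ p w = 1}
  one_mem' := ⟨(D.B p).one_mem, D.φ_one p⟩
  mul_mem' := fun {a b} ha hb => ⟨(D.B p).mul_mem ha.1 hb.1, by
    rw [D.map_mul (D.fix ha.1) (D.fix hb.1), ha.2, hb.2, one_mul]⟩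
  inv_mem' := fun {a} ha => ⟨(D.B p).inv_mem ha.1, by rw [D.φ_inv (D.fix ha.1), ha.2, inv_one]⟩

theorem mem_W {w : G} : w ∈ D.W p ↔ w ∈ D.B p ∧ D.φ p w = 1 := Iff.rfl

theorem W_le : D.W p ≤ D.B p := fun _ h => h.1

theorem odd (p : ι) : Odd (Nat.card (D.W p)) := D.odd' p

theorem W_conj {w : G} (g : G) (hw : w ∈ D.W p) : g * w * g⁻¹ ∈ D.W (g • p) := by
  obtain ⟨τ, hτ⟩ := D.tr p g
  refine ⟨D.conj g hw.1, ?_⟩
  rw [hτ w (D.fix hw.1), hw.2]; group

theorem W_conj_mem {g w : G} (hg : g • p = p) (hw : w ∈ D.W p) : g * w * g⁻¹ ∈ D.W p := by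
  have := D.W_conj g hw
  rwa [hg] at this

/-- an element of order at most two of the kernel is trivial -/
theorem eq_one_of_sq {w : G} (hw : w ∈ D.W p) (h : w * w = 1) : w = 1 := by
  have hd : orderOf w ∣ 2 := orderOf_dvd_of_pow_eq_one (by rw [pow_two]; exact h)
  have h1 : orderOf (⟨w, hw⟩ : D.W p) ∣ Nat.card (D.W p) := orderOf_dvd_natCard _
  rw [Subgroup.orderOf_mk] at h1
  rcases (Nat.dvd_prime Nat.prime_two).1 hd with h2 | h2
  · exact orderOf_eq_one_iff.1 h2
  · exfalso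
    rw [h2] at h1
    exact (Nat.not_even_iff_odd.2 (D.odd p)) (even_iff_two_dvd.2 h1)

theorem φ_ne_one {b : G} (hb : b ∈ D.B p) (h : b * b = 1) (h1 : b ≠ 1) : D.φ p b ≠ 1 :=
  fun h2 => h1 (D.eq_one_of_sq ⟨hb, h2⟩ h)

/-- the roots at a point -/
def R (p : ι) : Set G := {u | u ∈ D.B p ∧ u * u = 1 ∧ IsRoot (D.φ p u)}

theorem mem_R {u : G} : u ∈ D.R p ↔ u ∈ D.B p ∧ u * u = 1 ∧ IsRoot (D.φ p u) := Iff.rfl

theorem R_conj {u : G} (g : G) (hu : u ∈ D.R p) : g * u * g⁻¹ ∈ D.R (g • p) := by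
  obtain ⟨τ, hτ⟩ := D.tr p g
  refine ⟨D.conj g hu.1, ?_, ?_⟩
  · rw [show g * u * g⁻¹ * (g * u * g⁻¹) = g * (u * u) * g⁻¹ by group, hu.2.1]; group
  · rw [hτ u (D.fix hu.1)]; exact hu.2.2.conj τ

end Sys

theorem IsRoot.ne_one {Ω : Type*} [Fintype Ω] [DecidableEq Ω] {σ : Perm Ω} (h : IsRoot σ) : σ ≠ 1 := by
  rintro rfl
  have := h.2
  simp at this

namespace Sys

variable {G : Type*} [Group G] {Ω : Type*} [Fintype Ω] [DecidableEq Ω] {ι : Type*} [MulAction G ι]
variable (D : Sys G Ω ι) {p q : ι}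

/-- two commuting elements of order two of `B p` with the same image are equal -/
theorem eq_of_φ_eq {a b : G} (ha : a ∈ D.B p) (hb : b ∈ D.B p) (haa : a * a = 1) (hbb : b * b = 1)
    (hc : a * b = b * a) (h : D.φ p a = D.φ p b) : a = b := by
  have hbi : b⁻¹ = b := inv_eq_of_mul_eq_one_left hbb
  have h1 : a * b ∈ D.W p := by
    refine ⟨(D.B p).mul_mem ha hb, ?_⟩
    rw [D.map_mul (D.fix ha) (D.fix hb), h, ← D.map_mul (D.fix hb) (D.fix hb), hbb, D.φ_one]
  have h2 : a * b = 1 := by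
    apply D.eq_one_of_sq h1
    rw [mul_assoc, ← mul_assoc b, ← hc, mul_assoc a b b, hbb, mul_one, haa]
  rw [← hbi]
  exact eq_inv_of_mul_eq_one_left h2

variable [Finite G]

/-- lifting an element of the alternating group so that it commutes with a `2`-group -/
theorem exists_lift {T : Subgroup G} (hT : IsPGroup 2 T) (hf : ∀ t ∈ T, t • p = p) {σ : Perm Ω}
    (hσ : σ ∈ alternatingGroup Ω) (hc : ∀ t ∈ T, D.φ p t * σ = σ * D.φ p t) :
    ∃ b ∈ D.B p, D.φ p b = σ ∧ ∀ t ∈ T, t * b = b * t := by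
  obtain ⟨x, hx, hxσ⟩ := D.surj p hσ
  obtain ⟨v, hv, hvc⟩ := coset_fix (D.odd p) hT (fun t ht v hv => D.W_conj_mem (hf t ht) hv) (x := x) (by
    intro t ht
    refine ⟨(D.B p).mul_mem ((D.B p).inv_mem hx) (D.conj_mem (hf t ht) hx), ?_⟩
    rw [D.map_mul (fix_inv (D.fix hx)) (D.fix (D.conj_mem (hf t ht) hx)), D.φ_conj (hf t ht) (D.fix hx),
      D.φ_inv (D.fix hx), hxσ, hc t ht]
    group)
  refine ⟨x * v, (D.B p).mul_mem hx hv.1, ?_, hvc⟩
  rw [D.map_mul (D.fix hx) (D.fix hv.1), hv.2, mul_one, hxσ]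

/-- lifting a root so that it commutes with a `2`-group -/
theorem exists_root {T : Subgroup G} (hT : IsPGroup 2 T) (hf : ∀ t ∈ T, t • p = p) {σ : Perm Ω}
    (hσ : IsRoot σ) (hc : ∀ t ∈ T, D.φ p t * σ = σ * D.φ p t) :
    ∃ u ∈ D.R p, D.φ p u = σ ∧ ∀ t ∈ T, t * u = u * t := by
  obtain ⟨b, hb, hbσ, hbc⟩ := D.exists_lift hT hf hσ.mem_alternatingGroup hc
  obtain ⟨k, hk⟩ := D.odd p
  have h1 : D.φ p (b ^ Nat.card (D.W p)) = σ := by
    rw [D.φ_pow (D.fix hb), hbσ, hk, pow_succ, pow_mul, pow_two, hσ.1, one_pow, one_mul]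
  have h2 : b * b ∈ D.W p :=
    ⟨(D.B p).mul_mem hb hb, by rw [D.map_mul (D.fix hb) (D.fix hb), hbσ, hσ.1]⟩
  have h3 : b ^ Nat.card (D.W p) * b ^ Nat.card (D.W p) = 1 := by
    rw [← (Commute.refl b).mul_pow]
    have := pow_card_eq_one' (x := (⟨b * b, h2⟩ : D.W p))
    exact congrArg Subtype.val this
  refine ⟨b ^ Nat.card (D.W p), ⟨(D.B p).pow_mem hb _, h3, by rw [h1]; exact hσ⟩, h1, fun t ht => ?_⟩
  exact ((show Commute t b from hbc t ht).pow_right _).eq

theorem exists_root_one {t : G} (ht : t * t = 1) (hf : t • p = p) {σ : Perm Ω}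
    (hσ : IsRoot σ) (hc : D.φ p t * σ = σ * D.φ p t) : ∃ u ∈ D.R p, D.φ p u = σ ∧ t * u = u * t := by
  have h0 : ∀ x ∈ closure ({t, 1} : Set G), x = 1 ∨ x = t := by
    intro x hx
    rcases mem_closure_pair ht (one_mul (1 : G)) (by rw [mul_one, one_mul]) hx with h | h | h | h
    · exact Or.inl h
    · exact Or.inr h
    · exact Or.inl h
    · exact Or.inr (by rw [h, mul_one])
  obtain ⟨u, hu, huσ, huc⟩ := D.exists_root (p := p)
    (isPGroup_pair ht (one_mul (1 : G)) (by rw [mul_one, one_mul])) (by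
      intro x hx
      rcases h0 x hx with rfl | rfl
      · exact one_smul G p
      · exact hf) hσ (by
      intro x hx
      rcases h0 x hx with rfl | rfl
      · rw [D.φ_one, one_mul, mul_one]
      · exact hc)
  exact ⟨u, hu, huσ, huc t (subset_closure (by simp))⟩

theorem exists_root_two {t s : G} (ht : t * t = 1) (hs : s * s = 1) (hts : t * s = s * t)
    (hft : t • p = p) (hfs : s • p = p) {σ : Perm Ω}
    (hσ : IsRoot σ) (hct : D.φ p t * σ = σ * D.φ p t) (hcs : D.φ p s * σ = σ * D.φ p s) :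
    ∃ u ∈ D.R p, D.φ p u = σ ∧ t * u = u * t ∧ s * u = u * s := by
  obtain ⟨u, hu, huσ, huc⟩ := D.exists_root (p := p) (isPGroup_pair ht hs hts) (by
      intro x hx
      rcases mem_closure_pair ht hs hts hx with rfl | rfl | rfl | rfl
      · exact one_smul G p
      · exact hft
      · exact hfs
      · exact fix_mul hft hfs) hσ (by
      intro x hx
      rcases mem_closure_pair ht hs hts hx with rfl | rfl | rfl | rfl
      · rw [D.φ_one, one_mul, mul_one]
      · exact hct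
      · exact hcs
      · rw [D.map_mul hft hfs, mul_assoc, hcs, ← mul_assoc, hct, mul_assoc])
  exact ⟨u, hu, huσ, huc t (subset_closure (by simp)), huc s (subset_closure (by simp))⟩

end Sys

end Cfsg.Agent.UAlt.ClSys
end

-- part: UGT/A7/M1/OddFix
section
set_option linter.all false

/-!
# Elements of odd order of `S₇` commuting with a four-group

* `main`: `σ ≠ 1` of odd order commuting with the four-group `{1, a, b, a b}`: some element of the four-group is a
  transposition, or `a`, `b`, `a b` have a common support of four points.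
-/

set_option autoImplicit false

open Equiv Equiv.Perm

namespace Cfsg.Agent.UGT.A7.M1.OddFix

variable {α : Type*} {σ a b : Perm α}

variable {σ a b : Perm (Fin 7)}

end Cfsg.Agent.UGT.A7.M1.OddFix
end

-- part: UGT/ThE/Base
section
prune_inst 0x4402004204322120000180592310020545400049200630001f9400f06020e9761a00227007ce01f10090aaa60000a0060139800d940100000000006004000052180aa72c49348a10427000f80f807180c00000000000000000000000000041004200000000
set_option linter.all false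
open scoped Cfsg.Agent.FastGrp

-- part: UGT/ThE/Link
section
/-!
# The dihedral link

`x ∉ X`, `z ∈ X` involutions, `X` normal in the finite group `G`: the central involution `e` of `⟨x, z⟩` lies
in `X` and `z e` is conjugate to `z`, or `e ∉ X` and `x e` is conjugate to `z`.
-/

set_option autoImplicit false

open Subgroup

namespace Cfsg.Agent.UGT.ThE.Link

variable {G : Type*} [Group G]

theorem conj_pow_eq {x z : G} (hxx : x * x = 1) (hzz : z * z = 1) (i : ℕ) :
    (x * z) ^ i * z * ((x * z) ^ i)⁻¹ = (x * z) ^ (2 * i) * z := by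
  have hz : z⁻¹ = z := inv_eq_of_mul_eq_one_left hzz
  have hx : x⁻¹ = x := inv_eq_of_mul_eq_one_left hxx
  have h1 : z * ((x * z) ^ i)⁻¹ = (x * z) ^ i * z := by
    rw [← inv_pow, mul_inv_rev, hz, hx]
    induction i with
    | zero => simp
    | succ n ih =>
      calc z * (z * x) ^ (n + 1) = z * (z * x) ^ n * (z * x) := by rw [pow_succ]; group
        _ = (x * z) ^ n * z * (z * x) := by rw [ih]
        _ = (x * z) ^ n * (x * z) * z := by
          calc (x * z) ^ n * z * (z * x) = (x * z) ^ n * (z * z) * x := by group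
            _ = (x * z) ^ n * x := by rw [hzz]; group
            _ = (x * z) ^ n * x * (z * z) := by rw [hzz]; group
            _ = _ := by group
        _ = (x * z) ^ (n + 1) * z := by rw [pow_succ]
  calc (x * z) ^ i * z * ((x * z) ^ i)⁻¹ = (x * z) ^ i * (z * ((x * z) ^ i)⁻¹) := by group
    _ = (x * z) ^ i * ((x * z) ^ i * z) := by rw [h1]
    _ = (x * z) ^ (2 * i) * z := by rw [two_mul, pow_add]; group

/-- **The dihedral link.** -/
theorem link [Finite G] {X : Subgroup G} (hX : X.Normal) {x z : G} (hxx : x * x = 1) (hx : x ∉ X)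
    (hzz : z * z = 1) (hz : z ∈ X) :
    ∃ e, e * e = 1 ∧ e ≠ 1 ∧ (∀ c, c * x = x * c → c * z = z * c → c * e = e * c) ∧ e * x = x * e ∧
      e * z = z * e ∧
      ((e ∈ X ∧ ∃ h, h * z * h⁻¹ = z * e) ∨ (e ∉ X ∧ ∃ h, h * z * h⁻¹ = x * e)) := by
  have hz' : z⁻¹ = z := inv_eq_of_mul_eq_one_left hzz
  have hx' : x⁻¹ = x := inv_eq_of_mul_eq_one_left hxx
  obtain ⟨ρ, hρ⟩ : ∃ ρ, ρ = x * z := ⟨_, rfl⟩
  have hρX : ρ ∉ X := by
    intro h
    apply hx
    have h2 : x = ρ * z := by rw [hρ, mul_assoc, hzz, mul_one]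
    rw [h2]
    exact mul_mem h hz
  have hρ2 : ρ ^ 2 ∈ X := by
    have h2 : ρ ^ 2 = (x * z * x⁻¹) * z := by rw [hρ, hx', pow_two]; group
    rw [h2]
    exact mul_mem (hX.conj_mem z hz x) hz
  have hev : ∀ n, Even n → ρ ^ n ∈ X := by
    rintro n ⟨k, rfl⟩
    rw [← two_mul, pow_mul]
    exact pow_mem hρ2 k
  have hod : ∀ n, Odd n → ρ ^ n ∉ X := by
    rintro n ⟨k, rfl⟩ h
    rw [pow_succ, pow_mul] at h
    exact hρX ((X.mul_mem_cancel_left (pow_mem hρ2 k)).mp h)
  have hord : Even (orderOf ρ) := by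
    by_contra h
    rw [Nat.not_even_iff_odd] at h
    exact hod _ h (by rw [pow_orderOf_eq_one]; exact one_mem _)
  obtain ⟨j, hj⟩ := hord
  have hjpos : 0 < j := by
    have := orderOf_pos ρ
    omega
  refine ⟨ρ ^ j, ?_, ?_, ?_, ?_, ?_, ?_⟩
  · rw [← pow_add, ← hj, pow_orderOf_eq_one]
  · intro h
    have := orderOf_le_of_pow_eq_one hjpos h
    omega
  · intro c h1 h2
    have h3 : Commute c ρ := by
      rw [hρ]
      exact Commute.mul_right h1 h2
    exact h3.pow_right j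
  · have h1 : ρ ^ j = (ρ ^ j)⁻¹ := (inv_eq_of_mul_eq_one_left (by
      rw [← pow_add, ← hj, pow_orderOf_eq_one])).symm
    have h2 : x * ρ * x⁻¹ = ρ⁻¹ := by
      rw [hρ, mul_inv_rev, hz', hx']
      calc x * (x * z) * x = (x * x) * (z * x) := by group
        _ = z * x := by rw [hxx, one_mul]
    have h3 : x * ρ ^ j * x⁻¹ = ρ ^ j := by
      rw [← conj_pow, h2, inv_pow, ← h1]
    calc ρ ^ j * x = (x * ρ ^ j * x⁻¹) * x := by rw [h3]
      _ = x * ρ ^ j := by group
  · have h1 : ρ ^ j = (ρ ^ j)⁻¹ := (inv_eq_of_mul_eq_one_left (by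
      rw [← pow_add, ← hj, pow_orderOf_eq_one])).symm
    have h2 : z * ρ * z⁻¹ = ρ⁻¹ := by
      rw [hρ, mul_inv_rev, hz', hx']
      calc z * (x * z) * z = (z * x) * (z * z) := by group
        _ = z * x := by rw [hzz, mul_one]
    have h3 : z * ρ ^ j * z⁻¹ = ρ ^ j := by
      rw [← conj_pow, h2, inv_pow, ← h1]
    calc ρ ^ j * z = (z * ρ ^ j * z⁻¹) * z := by rw [h3]
      _ = z * ρ ^ j := by group
  · have hjj : ρ ^ (2 * j) = 1 := by rw [two_mul, ← hj, pow_orderOf_eq_one]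
    have hze : z * ρ ^ j = ρ ^ j * z := by
      have h1 : ρ ^ j = (ρ ^ j)⁻¹ := (inv_eq_of_mul_eq_one_left (by
        rw [← pow_add, ← hj, pow_orderOf_eq_one])).symm
      have h2 : z * ρ * z⁻¹ = ρ⁻¹ := by
        rw [hρ, mul_inv_rev, hz', hx']
        calc z * (x * z) * z = (z * x) * (z * z) := by group
          _ = z * x := by rw [hzz, mul_one]
      have h3 : z * ρ ^ j * z⁻¹ = ρ ^ j := by
        rw [← conj_pow, h2, inv_pow, ← h1]
      calc z * ρ ^ j = (z * ρ ^ j * z⁻¹) * z := by group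
        _ = ρ ^ j * z := by rw [h3]
    rcases Nat.even_or_odd j with h | h
    · left
      refine ⟨hev j h, ?_⟩
      obtain ⟨i, hi⟩ := h
      refine ⟨ρ ^ i, ?_⟩
      rw [hze, hρ, conj_pow_eq hxx hzz, hi, two_mul]
    · right
      refine ⟨hod j h, ?_⟩
      obtain ⟨i, hi⟩ := h
      -- x * ρ ^ j = ρ ^ (2 * j) * ... 
      refine ⟨ρ ^ (i + 1), ?_⟩
      have h4 : ρ ^ (2 * (i + 1)) * z = ρ ^ j * x := by
        have : 2 * (i + 1) = j + 1 := by omega
        rw [this, pow_succ, mul_assoc]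
        congr 1
        rw [hρ, mul_assoc, hzz, mul_one]
      have h5 : ρ ^ j * x = x * ρ ^ j := by
        have h1 : ρ ^ j = (ρ ^ j)⁻¹ := (inv_eq_of_mul_eq_one_left (by
          rw [← pow_add, ← hj, pow_orderOf_eq_one])).symm
        have h2 : x * ρ * x⁻¹ = ρ⁻¹ := by
          rw [hρ, mul_inv_rev, hz', hx']
          calc x * (x * z) * x = (x * x) * (z * x) := by group
            _ = z * x := by rw [hxx, one_mul]
        have h3 : x * ρ ^ j * x⁻¹ = ρ ^ j := by
          rw [← conj_pow, h2, inv_pow, ← h1]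
        calc ρ ^ j * x = (x * ρ ^ j * x⁻¹) * x := by rw [h3]
          _ = x * ρ ^ j := by group
      rw [← h5, ← h4, hρ, conj_pow_eq hxx hzz]

end Cfsg.Agent.UGT.ThE.Link
end

-- part: UGT/ThE/Base
section
/-!
# Theorem E, I: `x` normalizes exactly one conjugate of `L`

`L ≤ G` simple, `K = C(L)`, `M = N(L)`, `x ∈ M` an involution outside `LK`; `t` always denotes an involution of
`C_K(x)`. No two conjugates of `L` commute, `C(x)`, `C(t)`, `C(xt) ≤ M` (structure `Pre`). Here: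
`Pre.z1`-`Pre.z4` about a conjugate `L₁ ≤ M` of `L`, and `Pre.fixT`: `t ∈ C(L₁) → L₁ = L`.
-/

set_option autoImplicit false

open Subgroup

namespace Cfsg.Agent.UGT.ThE.Base

variable {G : Type*} [Group G]

section gen

variable {L : Subgroup G}

theorem comm_of_mem {l k : G} (hl : l ∈ L) (hk : k ∈ centralizer (L : Set G)) : l * k = k * l :=
  mem_centralizer_iff.mp hk l hl

theorem L_conj {m l : G} (hm : m ∈ normalizer (L : Set G)) (hl : l ∈ L) : m * l * m⁻¹ ∈ L :=
  (mem_normalizer_iff.mp hm l).mp hl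

theorem L_conj' {m l : G} (hm : m ∈ normalizer (L : Set G)) (hl : l ∈ L) : m⁻¹ * l * m ∈ L := by
  have := L_conj (inv_mem hm) hl
  rwa [inv_inv] at this

theorem K_le_M : centralizer (L : Set G) ≤ normalizer (L : Set G) := by
  intro k hk
  rw [mem_normalizer_iff]
  intro l
  constructor
  · intro hl
    have h1 : k * l * k⁻¹ = l := by rw [← comm_of_mem hl hk]; group
    rw [h1]; exact hl
  · intro hl
    have h1 := comm_of_mem hl hk
    have h2 : l = k * l * k⁻¹ := by
      have h3 : k * l * k⁻¹ * k = k * (k * l * k⁻¹) := h1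
      have h4 : k * l = k * (k * l * k⁻¹) := by
        calc k * l = k * l * k⁻¹ * k := by group
          _ = _ := h3
      exact mul_left_cancel h4
    rw [h2]; exact hl

theorem L_le_M : L ≤ normalizer (L : Set G) := le_normalizer

theorem K_conj {m k : G} (hm : m ∈ normalizer (L : Set G)) (hk : k ∈ centralizer (L : Set G)) :
    m * k * m⁻¹ ∈ centralizer (L : Set G) := by
  rw [mem_centralizer_iff]
  intro l hl
  have h1 := comm_of_mem (L_conj' hm hl) hk
  calc l * (m * k * m⁻¹) = m * ((m⁻¹ * l * m) * k) * m⁻¹ := by group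
    _ = m * (k * (m⁻¹ * l * m)) * m⁻¹ := by rw [h1]
    _ = m * k * m⁻¹ * l := by group

theorem K_conj' {m k : G} (hm : m ∈ normalizer (L : Set G)) (hk : k ∈ centralizer (L : Set G)) :
    m⁻¹ * k * m ∈ centralizer (L : Set G) := by
  have := K_conj (inv_mem hm) hk
  rwa [inv_inv] at this

end gen

/-- involutions of `C_K(x)` -/
structure IsT (L : Subgroup G) (x t : G) : Prop where
  mem : t ∈ centralizer (L : Set G)
  comm : t * x = x * t
  sq : t * t = 1
  ne : t ≠ 1

/-- involutions of `C_L(x)` -/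
structure IsS (L : Subgroup G) (x s : G) : Prop where
  mem : s ∈ L
  comm : s * x = x * s
  sq : s * s = 1
  ne : s ≠ 1

/-- The common hypotheses: `L` simple, no two conjugates of `L` commute, `C(x), C(t), C(xt) ≤ N(L)`. -/
structure Pre (L : Subgroup G) (x : G) : Prop where
  xx : x * x = 1
  xM : x ∈ normalizer (L : Set G)
  xLK : ∀ l ∈ L, x * l ∉ centralizer (L : Set G)
  simp : ∀ N : Subgroup G, N ≤ L → (∀ l ∈ L, ∀ n ∈ N, l * n * l⁻¹ ∈ N) → N = ⊥ ∨ N = L
  nc : ∀ g : G, ¬ ∀ l ∈ L, g * l * g⁻¹ ∈ centralizer (L : Set G)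
  Cx : ∀ c, c * x = x * c → c ∈ normalizer (L : Set G)
  Ct : ∀ t, IsT L x t → ∀ c, c * t = t * c → c ∈ normalizer (L : Set G)
  Cxt : ∀ t, IsT L x t → ∀ c, c * (x * t) = (x * t) * c → c ∈ normalizer (L : Set G)
  perf : ∀ g : G, (∀ l ∈ L, g * l * g⁻¹ ∈ normalizer (L : Set G)) → ∀ l ∈ L,
    ∃ l' ∈ L, g * l * g⁻¹ * l' ∈ centralizer (L : Set G)

namespace Pre

variable {L : Subgroup G} {x : G} (H : Pre L x)
include H

theorem xi : x⁻¹ = x := inv_eq_of_mul_eq_one_left H.xx

theorem disj {l : G} (hl : l ∈ L) (hk : l ∈ centralizer (L : Set G)) : l = 1 := by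
  rcases H.simp (L ⊓ centralizer (L : Set G)) inf_le_left (fun l hl n hn =>
    mem_inf.mpr ⟨mul_mem (mul_mem hl hn.1) (inv_mem hl), K_conj (L_le_M hl) hn.2⟩) with h | h
  · exact mem_bot.mp (h ▸ (⟨hl, hk⟩ : l ∈ L ⊓ centralizer (L : Set G)))
  · exfalso
    apply H.nc 1
    intro l hl
    have : l ∈ L ⊓ centralizer (L : Set G) := h.symm ▸ hl
    simpa using this.2

/-- (0)(i) -/
theorem z1 {g : G} (h : ∀ l ∈ L, g * l * g⁻¹ ∈ normalizer (L : Set G)) {l : G} (hl : l ∈ L)
    (hk : g * l * g⁻¹ ∈ centralizer (L : Set G)) : l = 1 := by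
  rcases H.simp (L ⊓ (centralizer (L : Set G)).comap (MulAut.conj g).toMonoidHom) inf_le_left
    (fun l hl n hn => mem_inf.mpr ⟨mul_mem (mul_mem hl hn.1) (inv_mem hl), mem_comap.mpr (by
      have h1 : (MulAut.conj g).toMonoidHom (l * n * l⁻¹) =
          (g * l * g⁻¹) * (g * n * g⁻¹) * (g * l * g⁻¹)⁻¹ := by
        simp only [MulEquiv.coe_toMonoidHom, MulAut.conj_apply]; group
      rw [h1]
      exact K_conj (h l hl) hn.2)⟩) with h1 | h1
  · exact mem_bot.mp (h1 ▸ (⟨hl, hk⟩ :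
      l ∈ L ⊓ (centralizer (L : Set G)).comap (MulAut.conj g).toMonoidHom))
  · exfalso
    apply H.nc g
    intro l hl
    have : l ∈ L ⊓ (centralizer (L : Set G)).comap (MulAut.conj g).toMonoidHom := h1.symm ▸ hl
    exact this.2

/-- (0)(ii) -/
theorem z2 [Finite G] {g : G} (hg : g ∉ normalizer (L : Set G))
    (h : ∀ l ∈ L, g * l * g⁻¹ ∈ normalizer (L : Set G)) {l : G} (hl : l ∈ L)
    (hk : g * l * g⁻¹ ∈ L) : l = 1 := by
  rcases H.simp (L ⊓ L.comap (MulAut.conj g).toMonoidHom) inf_le_left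
    (fun l hl n hn => mem_inf.mpr ⟨mul_mem (mul_mem hl hn.1) (inv_mem hl), mem_comap.mpr (by
      have h1 : (MulAut.conj g).toMonoidHom (l * n * l⁻¹) =
          (g * l * g⁻¹) * (g * n * g⁻¹) * (g * l * g⁻¹)⁻¹ := by
        simp only [MulEquiv.coe_toMonoidHom, MulAut.conj_apply]; group
      rw [h1]
      exact L_conj (h l hl) hn.2)⟩) with h1 | h1
  · exact mem_bot.mp (h1 ▸ (⟨hl, hk⟩ : l ∈ L ⊓ L.comap (MulAut.conj g).toMonoidHom))
  · exfalso
    apply hg
    have h2 : ∀ l ∈ L, g * l * g⁻¹ ∈ L := by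
      intro l hl
      have : l ∈ L ⊓ L.comap (MulAut.conj g).toMonoidHom := h1.symm ▸ hl
      exact this.2
    rw [mem_normalizer_iff]
    intro y
    refine ⟨h2 y, fun hy => ?_⟩
    have h3 : Function.Surjective (fun l : L => (⟨g * l * g⁻¹, h2 l l.2⟩ : L)) := by
      apply Finite.injective_iff_surjective.mp
      intro a b hab
      have h4 : g * (a : G) * g⁻¹ = g * (b : G) * g⁻¹ := congrArg Subtype.val hab
      exact Subtype.ext (mul_left_cancel (mul_right_cancel h4))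
    obtain ⟨⟨b, hb⟩, hb2⟩ := h3 ⟨g * y * g⁻¹, hy⟩
    have h5 : g * b * g⁻¹ = g * y * g⁻¹ := congrArg Subtype.val hb2
    rw [← mul_left_cancel (mul_right_cancel h5)]
    exact hb

/-- (0)(iii): `w ∈ K` normalizing `L₁ ≤ M` centralizes `L₁` -/
theorem z3 {g : G} (h : ∀ l ∈ L, g * l * g⁻¹ ∈ normalizer (L : Set G)) {w : G}
    (hw : w ∈ centralizer (L : Set G)) (hwg : g⁻¹ * w * g ∈ normalizer (L : Set G)) :
    g⁻¹ * w * g ∈ centralizer (L : Set G) := by
  rw [mem_centralizer_iff]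
  intro l hl
  obtain ⟨l', hl', hk⟩ := H.perf g h l hl
  obtain ⟨k, hkdef⟩ : ∃ k, k = g * l * g⁻¹ * l' := ⟨_, rfl⟩
  rw [← hkdef] at hk
  have e1 : g * l * g⁻¹ = k * l'⁻¹ := by rw [hkdef]; group
  have h1 : (g⁻¹ * w * g) * l * (g⁻¹ * w * g)⁻¹ * l⁻¹ ∈ L := mul_mem (L_conj hwg hl) (inv_mem hl)
  have h2 : g * ((g⁻¹ * w * g) * l * (g⁻¹ * w * g)⁻¹ * l⁻¹) * g⁻¹ =
      (w * k * w⁻¹) * k⁻¹ := by
    calc g * ((g⁻¹ * w * g) * l * (g⁻¹ * w * g)⁻¹ * l⁻¹) * g⁻¹
        = w * (g * l * g⁻¹) * w⁻¹ * (g * l * g⁻¹)⁻¹ := by group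
      _ = w * k * (l'⁻¹ * w⁻¹) * l' * k⁻¹ := by rw [e1]; group
      _ = w * k * (w⁻¹ * l'⁻¹) * l' * k⁻¹ := by
        rw [comm_of_mem (inv_mem hl') (inv_mem hw)]
      _ = _ := by group
  have h3 := H.z1 h h1 (by
    rw [h2]
    exact mul_mem (mul_mem (mul_mem hw hk) (inv_mem hw)) (inv_mem hk))
  have h4 : (g⁻¹ * w * g) * l * (g⁻¹ * w * g)⁻¹ = l := mul_inv_eq_one.mp h3
  calc l * (g⁻¹ * w * g) = (g⁻¹ * w * g) * l * (g⁻¹ * w * g)⁻¹ * (g⁻¹ * w * g) := by rw [h4]
    _ = g⁻¹ * w * g * l := by group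

/-- (0)(iv): `w ∈ M` centralizing `L₁ ≤ M` centralizes `L` -/
theorem z4 [Finite G] {g : G} (h : ∀ l ∈ L, g * l * g⁻¹ ∈ normalizer (L : Set G)) {w : G}
    (hw : w ∈ normalizer (L : Set G)) (hwg : g⁻¹ * w * g ∈ centralizer (L : Set G)) :
    w ∈ centralizer (L : Set G) := by
  choose f hf using fun l : L => H.perf g h l.1 l.2
  have hinj : Function.Injective (fun l : L => (⟨f l, (hf l).1⟩ : L)) := by
    intro a b hab
    have h1 : f a = f b := congrArg Subtype.val hab
    have h2 := mul_mem (hf a).2 (inv_mem (hf b).2)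
    rw [h1] at h2
    have h3 : g * (a : G) * g⁻¹ * f b * (g * (b : G) * g⁻¹ * f b)⁻¹ =
        g * ((a : G) * (b : G)⁻¹) * g⁻¹ := by group
    rw [h3] at h2
    have h4 := H.z1 h (mul_mem a.2 (inv_mem b.2)) h2
    exact Subtype.ext (mul_inv_eq_one.mp h4)
  have hsurj := Finite.injective_iff_surjective.mp hinj
  rw [mem_centralizer_iff]
  intro y hy
  obtain ⟨⟨l, hl⟩, hly⟩ := hsurj ⟨y, hy⟩
  have h1 : f ⟨l, hl⟩ = y := congrArg Subtype.val hly
  have hk := (hf ⟨l, hl⟩).2
  rw [h1] at hk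
  obtain ⟨k, hkdef⟩ : ∃ k, k = g * l * g⁻¹ * y := ⟨_, rfl⟩
  rw [← hkdef] at hk
  have e1 : g * l * g⁻¹ = k * y⁻¹ := by rw [hkdef]; group
  have h2 : w * (g * l * g⁻¹) * w⁻¹ = g * l * g⁻¹ := by
    have h3 := comm_of_mem hl hwg
    calc w * (g * l * g⁻¹) * w⁻¹ = g * ((g⁻¹ * w * g) * l) * g⁻¹ * w⁻¹ := by group
      _ = g * (l * (g⁻¹ * w * g)) * g⁻¹ * w⁻¹ := by rw [h3]
      _ = g * l * g⁻¹ := by group
  rw [e1] at h2
  have h3 : k⁻¹ * (w * k * w⁻¹) = y⁻¹ * (w * y * w⁻¹) := by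
    have h4 : (w * k * w⁻¹) * (w * y * w⁻¹)⁻¹ = k * y⁻¹ := by
      calc (w * k * w⁻¹) * (w * y * w⁻¹)⁻¹ = w * (k * y⁻¹) * w⁻¹ := by group
        _ = k * y⁻¹ := h2
    calc k⁻¹ * (w * k * w⁻¹) = k⁻¹ * ((w * k * w⁻¹) * (w * y * w⁻¹)⁻¹) * (w * y * w⁻¹) := by group
      _ = k⁻¹ * (k * y⁻¹) * (w * y * w⁻¹) := by rw [h4]
      _ = _ := by group
  have h5 := H.disj (mul_mem (inv_mem hy) (L_conj hw hy))
    (h3 ▸ mul_mem (inv_mem hk) (K_conj hw hk))
  have h6 : w * y * w⁻¹ = y := (inv_mul_eq_one.mp h5).symm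
  calc y * w = w * y * w⁻¹ * w := by rw [h6]
    _ = w * y := by group

end Pre

/-- a nontrivial normal subgroup of a 2-group contains a central involution -/
theorem exists_central {S : Subgroup G} [Finite G] (hS : IsPGroup 2 S) {N : Subgroup G} (hNS : N ≤ S)
    (hN : ∀ s ∈ S, ∀ n ∈ N, s * n * s⁻¹ ∈ N) (hne : N ≠ ⊥) :
    ∃ w ∈ N, w * w = 1 ∧ w ≠ 1 ∧ ∀ s ∈ S, w * s = s * w := by
  have : Fact (Nat.Prime 2) := ⟨Nat.prime_two⟩
  have hnil : Group.IsNilpotent S := hS.isNilpotent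
  have hnorm : (N.subgroupOf S).Normal := ⟨fun n hn s => by
    rw [mem_subgroupOf] at hn ⊢
    exact hN s s.2 n hn⟩
  have hne' : N.subgroupOf S ≠ ⊥ := by
    intro h
    apply hne
    rw [eq_bot_iff]
    intro n hn
    have h1 : (⟨n, hNS hn⟩ : S) ∈ N.subgroupOf S := mem_subgroupOf.mpr hn
    rw [h, mem_bot] at h1
    exact mem_bot.mpr (congrArg Subtype.val h1)
  have h1 := Cfsg.Agent.Lib.NormalAbelian.normal_inf_center_ne_bot (N.subgroupOf S) hne'
  obtain ⟨Z, hZ⟩ : ∃ Z, Z = N.subgroupOf S ⊓ center S := ⟨_, rfl⟩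
  rw [← hZ] at h1
  have h2 : 2 ∣ Nat.card Z := by
    have h3 : IsPGroup 2 Z := hS.to_subgroup Z
    obtain ⟨n, hn⟩ := (IsPGroup.iff_card).mp h3
    rcases Nat.eq_zero_or_pos n with h4 | h4
    · exfalso
      apply h1
      rw [h4, pow_zero] at hn
      exact (Subgroup.card_eq_one).mp hn
    · rw [hn]
      exact dvd_pow_self 2 h4.ne'
  obtain ⟨z, hz⟩ := exists_prime_orderOf_dvd_card' 2 h2
  obtain ⟨hz1, hz2⟩ : (z : S) ∈ N.subgroupOf S ⊓ center S := hZ ▸ z.2
  have hzz : z * z = 1 := by rw [← pow_two, ← hz, pow_orderOf_eq_one]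
  have hz1' : z ≠ 1 := by
    rintro rfl
    rw [orderOf_one] at hz
    exact absurd hz (by norm_num)
  refine ⟨((z : S) : G), mem_subgroupOf.mp hz1, ?_, ?_, ?_⟩
  · exact congrArg (fun y : Z => ((y : S) : G)) hzz
  · intro h
    apply hz1'
    apply Subtype.ext
    apply Subtype.ext
    exact h
  · intro s hs
    have := mem_center_iff.mp hz2 ⟨s, hs⟩
    exact (congrArg Subtype.val this).symm

namespace Pre

variable {L : Subgroup G} {x : G} (H : Pre L x)
include H

/-- every involution of `K` commutes with an involution `w` of `K` with `C(w) ≤ M` -/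
theorem wfix [Finite G] {t : G} (htK : t ∈ centralizer (L : Set G)) (htt : t * t = 1) (ht1 : t ≠ 1) :
    ∃ w ∈ centralizer (L : Set G), w * w = 1 ∧ w ≠ 1 ∧ w * t = t * w ∧
      ∀ c, c * w = w * c → c ∈ normalizer (L : Set G) := by
  have : Fact (Nat.Prime 2) := ⟨Nat.prime_two⟩
  obtain ⟨M, hM⟩ : ∃ M, M = normalizer (L : Set G) := ⟨_, rfl⟩
  have hxM : x ∈ M := hM ▸ H.xM
  have htM : t ∈ M := hM ▸ K_le_M htK
  -- a Sylow 2-subgroup of `M` containing `x`
  have hpow : ∀ (y : M), y * y = 1 → IsPGroup 2 (zpowers y) := by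
    intro y hy
    rintro ⟨z, hz⟩
    obtain ⟨n, rfl⟩ := mem_zpowers_iff.mp hz
    refine ⟨1, ?_⟩
    apply Subtype.ext
    change (y ^ n) ^ 2 ^ 1 = 1
    rw [pow_one, pow_two, ← zpow_add, ← two_mul, zpow_mul]
    have : y ^ (2 : ℤ) = 1 := by rw [zpow_two]; exact hy
    rw [this, one_zpow]
  obtain ⟨S, hS⟩ := (hpow ⟨x, hxM⟩ (Subtype.ext H.xx)).exists_le_sylow
  obtain ⟨P, hP⟩ := (hpow ⟨t, htM⟩ (Subtype.ext htt)).exists_le_sylow
  obtain ⟨m, hm⟩ := MulAction.exists_smul_eq M P S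
  have hxS : (⟨x, hxM⟩ : M) ∈ (S : Subgroup M) := hS (mem_zpowers _)
  have htP : (⟨t, htM⟩ : M) ∈ (P : Subgroup M) := hP (mem_zpowers _)
  have htS : m * ⟨t, htM⟩ * m⁻¹ ∈ (S : Subgroup M) := by
    rw [← hm, Sylow.coe_subgroup_smul, mem_pointwise_smul_iff_inv_smul_mem]
    simpa [MulAut.smul_def, mul_assoc] using htP
  obtain ⟨S', hS'⟩ : ∃ S', S' = (S : Subgroup M).map M.subtype := ⟨_, rfl⟩
  have hS2 : IsPGroup 2 S' := hS' ▸ S.2.map _
  have hmem : ∀ y : M, y ∈ (S : Subgroup M) → (y : G) ∈ S' := by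
    intro y hy
    rw [hS']
    exact ⟨y, hy, rfl⟩
  have hSM : S' ≤ M := by
    rw [hS']
    rintro _ ⟨y, _, rfl⟩
    exact y.2
  have hmM : (m : G) ∈ normalizer (L : Set G) := hM ▸ m.2
  have htt' : (m : G) * t * (m : G)⁻¹ ∈ centralizer (L : Set G) := K_conj hmM htK
  obtain ⟨w, hw, hww, hw1, hwS⟩ := exists_central hS2 (N := S' ⊓ centralizer (L : Set G)) inf_le_left
    (fun s hs n hn => mem_inf.mpr ⟨mul_mem (mul_mem hs hn.1) (inv_mem hs),
      K_conj (hM ▸ hSM hs) hn.2⟩) (by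
      intro h
      have h1 : (m : G) * t * (m : G)⁻¹ ∈ S' ⊓ centralizer (L : Set G) := ⟨hmem _ htS, htt'⟩
      rw [h, mem_bot] at h1
      apply ht1
      calc t = (m : G)⁻¹ * ((m : G) * t * (m : G)⁻¹) * m := by group
        _ = 1 := by rw [h1]; group)
  have hwT : IsT L x w := ⟨hw.2, hwS x (hmem _ hxS), hww, hw1⟩
  refine ⟨(m : G)⁻¹ * w * m, K_conj' hmM hw.2, ?_, ?_, ?_, ?_⟩
  · calc (m : G)⁻¹ * w * m * ((m : G)⁻¹ * w * m) = (m : G)⁻¹ * (w * w) * m := by group
      _ = 1 := by rw [hww]; group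
  · intro h
    apply hw1
    calc w = (m : G) * ((m : G)⁻¹ * w * m) * (m : G)⁻¹ := by group
      _ = 1 := by rw [h]; group
  · have h1 := hwS _ (hmem _ htS)
    have h2 : w * ((m : G) * t * (m : G)⁻¹) = (m : G) * t * (m : G)⁻¹ * w := h1
    calc (m : G)⁻¹ * w * m * t = (m : G)⁻¹ * (w * ((m : G) * t * (m : G)⁻¹)) * m := by group
      _ = (m : G)⁻¹ * ((m : G) * t * (m : G)⁻¹ * w) * m := by rw [h2]
      _ = t * ((m : G)⁻¹ * w * m) := by group
  · intro c hc
    have h1 : ((m : G) * c * (m : G)⁻¹) * w = w * ((m : G) * c * (m : G)⁻¹) := by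
      calc ((m : G) * c * (m : G)⁻¹) * w = m * (c * ((m : G)⁻¹ * w * m)) * (m : G)⁻¹ := by group
        _ = m * (((m : G)⁻¹ * w * m) * c) * (m : G)⁻¹ := by rw [hc]
        _ = _ := by group
    have h2 := H.Ct w hwT _ h1
    have h3 : c = (m : G)⁻¹ * ((m : G) * c * (m : G)⁻¹) * m := by group
    rw [h3]
    exact mul_mem (mul_mem (inv_mem hmM) h2) hmM

/-- (a') -/
theorem fixT [Finite G] {t g : G} (ht : IsT L x t) (h : g⁻¹ * t * g ∈ centralizer (L : Set G)) :
    g ∈ normalizer (L : Set G) := by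
  by_contra hg
  have hL1 : ∀ l ∈ L, g * l * g⁻¹ ∈ normalizer (L : Set G) := by
    intro l hl
    apply H.Ct t ht
    have h1 := comm_of_mem hl h
    calc g * l * g⁻¹ * t = g * (l * (g⁻¹ * t * g)) * g⁻¹ := by group
      _ = g * ((g⁻¹ * t * g) * l) * g⁻¹ := by rw [h1]
      _ = t * (g * l * g⁻¹) := by group
  have e1 : (g⁻¹ * t * g) * (g⁻¹ * t * g) = 1 := by
    calc (g⁻¹ * t * g) * (g⁻¹ * t * g) = g⁻¹ * (t * t) * g := by group
      _ = 1 := by rw [ht.sq]; group
  have e2 : g⁻¹ * t * g ≠ 1 := by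
    intro h1
    apply ht.ne
    calc t = g * (g⁻¹ * t * g) * g⁻¹ := by group
      _ = 1 := by rw [h1]; group
  obtain ⟨w, hwK, -, -, hwt, hwC⟩ := H.wfix h e1 e2
  have h2 : g * w * g⁻¹ ∈ normalizer (L : Set G) := by
    apply H.Ct t ht
    calc g * w * g⁻¹ * t = g * (w * (g⁻¹ * t * g)) * g⁻¹ := by group
      _ = g * ((g⁻¹ * t * g) * w) * g⁻¹ := by rw [hwt]
      _ = t * (g * w * g⁻¹) := by group
  have h3 : g * w * g⁻¹ ∈ centralizer (L : Set G) := H.z4 hL1 h2 (by
    have : g⁻¹ * (g * w * g⁻¹) * g = w := by group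
    rw [this]; exact hwK)
  have hL2 : ∀ l ∈ L, g⁻¹ * l * g ∈ normalizer (L : Set G) := by
    intro l hl
    apply hwC
    have h4 := comm_of_mem hl h3
    calc g⁻¹ * l * g * w = g⁻¹ * (l * (g * w * g⁻¹)) * g := by group
      _ = g⁻¹ * ((g * w * g⁻¹) * l) * g := by rw [h4]
      _ = w * (g⁻¹ * l * g) := by group
  apply H.nc g
  intro l' hl'
  rw [mem_centralizer_iff]
  intro l hl
  have h5 : (g⁻¹ * l * g) * l' * (g⁻¹ * l * g)⁻¹ * l'⁻¹ ∈ L :=
    mul_mem (L_conj (hL2 l hl) hl') (inv_mem hl')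
  have h6 : g * ((g⁻¹ * l * g) * l' * (g⁻¹ * l * g)⁻¹ * l'⁻¹) * g⁻¹ ∈ L := by
    have h7 : g * ((g⁻¹ * l * g) * l' * (g⁻¹ * l * g)⁻¹ * l'⁻¹) * g⁻¹ =
        l * ((g * l' * g⁻¹) * l⁻¹ * (g * l' * g⁻¹)⁻¹) := by group
    rw [h7]
    exact mul_mem hl (L_conj (hL1 l' hl') (inv_mem hl))
  have h8 := H.z2 hg hL1 h5 h6
  have h9 : (g⁻¹ * l * g) * l' * (g⁻¹ * l * g)⁻¹ = l' := mul_inv_eq_one.mp h8
  calc l * (g * l' * g⁻¹) = g * ((g⁻¹ * l * g) * l' * (g⁻¹ * l * g)⁻¹) * g⁻¹ * l := by group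
    _ = g * l' * g⁻¹ * l := by rw [h9]

end Pre

end Cfsg.Agent.UGT.ThE.Base
end
end

-- part: UGT/ThE/Fix
section
prune_inst 0x4503005204322120000180592310020545400049200630001d9400f06024e9761200227017ce01f10091aae60200a0060139800d9421000000a0006004004052180aa72c69348a10427000f80f807180c00000000000000000000000000041004200000000
set_option linter.all false
open scoped Cfsg.Agent.FastGrp

/-!
# Theorem E, II: `x ^ g ∈ M → g ∈ M`

`Hyp L x`: moreover every `t` commutes with another one and `M / K` looks like a subgroup of `PΓL₂(q)`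
containing `PGL₂(q)` (field automorphisms are allowed, see `Fld` and the last case of `cens`). Main results
`Hyp.fix3` (if `x` acts on `L₁` as an outer diagonal automorphism, then `L₁ = L`), `Hyp.fix`.
-/

set_option autoImplicit false

open Subgroup

namespace Cfsg.Agent.UGT.ThE.Base

variable {G : Type*} [Group G]

/-- elements of `C_K(x)` of order at most two -/
structure IsT1 (L : Subgroup G) (x t : G) : Prop where
  mem : t ∈ centralizer (L : Set G)
  comm : t * x = x * t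
  sq : t * t = 1

theorem IsT.isT1 {L : Subgroup G} {x t : G} (h : IsT L x t) : IsT1 L x t := ⟨h.mem, h.comm, h.sq⟩

theorem IsT1.isT {L : Subgroup G} {x t : G} (h : IsT1 L x t) (ht : t ≠ 1) : IsT L x t :=
  ⟨h.mem, h.comm, h.sq, ht⟩

theorem IsT1.mul {L : Subgroup G} {x t u : G} (ht : IsT1 L x t) (hu : IsT1 L x u)
    (h : t * u = u * t) : IsT1 L x (t * u) where
  mem := mul_mem ht.mem hu.mem
  comm := by
    calc t * u * x = t * (u * x) := by group
      _ = (t * x) * u := by rw [hu.comm]; group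
      _ = x * (t * u) := by rw [ht.comm]; group
  sq := by
    calc t * u * (t * u) = t * (u * t) * u := by group
      _ = (t * t) * (u * u) := by rw [← h]; group
      _ = 1 := by rw [ht.sq, hu.sq, one_mul]

theorem ker_iff {L : Subgroup G} (m : normalizer (L : Set G)) :
    L.normalizerMonoidHom m = 1 ↔ (m : G) ∈ centralizer (L : Set G) := by
  rw [← MonoidHom.mem_ker, normalizerMonoidHom_ker, mem_subgroupOf]

theorem aux_comm {A : Type*} [Group A] {a b X s₁ s₂ : A} (hX : X * X = 1) (h1 : s₁ * s₁ = 1)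
    (h2 : s₂ * s₂ = 1) (c1 : s₁ * X = X * s₁) (c2 : s₂ * X = X * s₂) (hab : a * b = b * a)
    (ha : a = s₁ ∨ a = s₁ * X) (hb : b = s₂ ∨ b = s₂ * X) : s₁ * s₂ = s₂ * s₁ := by
  rcases ha with rfl | rfl <;> rcases hb with rfl | rfl
  · exact hab
  · apply mul_right_cancel (b := X)
    calc a * s₂ * X = a * (s₂ * X) := by group
      _ = s₂ * (X * a) := by rw [hab]; group
      _ = s₂ * a * X := by rw [← c1]; group
  · apply mul_right_cancel (b := X)
    calc s₁ * b * X = s₁ * (b * X) := by group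
      _ = s₁ * X * b := by rw [c2]; group
      _ = b * (s₁ * X) := by rw [hab]
      _ = b * s₁ * X := by group
  · calc s₁ * s₂ = s₁ * (X * X) * s₂ := by rw [hX]; group
      _ = s₁ * X * (s₂ * X) := by rw [c2]; group
      _ = s₂ * (X * s₁) * X := by rw [hab]; group
      _ = s₂ * s₁ * (X * X) := by rw [← c1]; group
      _ = s₂ * s₁ := by rw [hX, mul_one]

theorem exists_sqrt [Finite G] {k : G} (h : Odd (orderOf k)) : ∃ j, j * j = k ∧ j ∈ zpowers k := by
  obtain ⟨n, hn⟩ := h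
  refine ⟨k ^ (n + 1), ?_, pow_mem (mem_zpowers k) _⟩
  rw [← pow_add]
  have : n + 1 + (n + 1) = orderOf k + 1 := by omega
  rw [this, pow_succ, pow_orderOf_eq_one, one_mul]

/-- `A ≤ L` dies in `C(x) / K`: whenever `gAg⁻¹ ≤ M` commutes with `x` modulo `K`, it lies in `K` -/
def Dies (L : Subgroup G) (x : G) (A : Subgroup G) : Prop :=
  ∀ g : G, (∀ a ∈ A, g * a * g⁻¹ ∈ normalizer (L : Set G)) →
    (∀ a ∈ A, (g * a * g⁻¹) * x * (g * a * g⁻¹)⁻¹ * x⁻¹ ∈ centralizer (L : Set G)) →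
    ∀ a ∈ A, g * a * g⁻¹ ∈ centralizer (L : Set G)

/-- `e` acts on `L` as a field automorphism: `L` is generated by subgroups `A ≤ C(e)` and `B ≤ C(ev)`, `v` an
involution of `A`, which die in `C(x) / K`. -/
structure Fld (L : Subgroup G) (x e v : G) (A B : Subgroup G) : Prop where
  vA : v ∈ A
  vv : v * v = 1
  v1 : v ≠ 1
  cA : ∀ a ∈ A, a * e = e * a
  cB : ∀ b ∈ B, b * (e * v) = (e * v) * b
  gen : ∀ N : Subgroup G, A ≤ N → B ≤ N → L ≤ N
  dA : Dies L x A
  dB : Dies L x B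

/-- The hypotheses of Theorem E, first part. -/
structure Hyp (L : Subgroup G) (x : G) : Prop extends Pre L x where
  four : ∃ t, IsT L x t
  rk : ∀ t, IsT L x t → ∃ u, IsT L x u ∧ u ≠ t ∧ u * t = t * u
  badT : ∀ g : G, ¬ IsT L x (g⁻¹ * x * g)
  badTt : ∀ t, IsT L x t → ∀ g : G, ¬ IsT L x (g⁻¹ * (x * t) * g)
  cenx : ∀ e ∈ normalizer (L : Set G), e * e = 1 →
    e * x * e⁻¹ * x⁻¹ ∈ centralizer (L : Set G) →
    e ∈ centralizer (L : Set G) ∨ e * x ∈ centralizer (L : Set G) ∨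
      ∃ s, IsS L x s ∧ (e * s ∈ centralizer (L : Set G) ∨ e * x * s ∈ centralizer (L : Set G))
  comm : ∀ s s', IsS L x s → IsS L x s' → s * s' = s' * s → s = s'
  conjS : ∀ s, IsS L x s → ∃ l ∈ L, l * (x * s) * l⁻¹ = x
  inv : ∀ e ∈ normalizer (L : Set G), e * e = 1 → e ∈ centralizer (L : Set G) ∨
    (∃ s ∈ L, s * s = 1 ∧ e * s ∈ centralizer (L : Set G)) ∨
      (∃ l ∈ L, l * e * l⁻¹ * x ∈ centralizer (L : Set G)) ∨ ∃ v A B, Fld L x e v A B
  cens : ∀ s, IsS L x s → ∀ f₁ ∈ normalizer (L : Set G), ∀ f₂ ∈ normalizer (L : Set G),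
    f₁ * f₁ = 1 → f₂ * f₂ = 1 → f₁ * f₂ = f₂ * f₁ → f₁ * s = s * f₁ → f₂ * s = s * f₂ →
    f₁ ∉ centralizer (L : Set G) → f₂ ∉ centralizer (L : Set G) → f₁ * f₂ ∉ centralizer (L : Set G) →
    f₁ * s ∈ centralizer (L : Set G) ∨ f₂ * s ∈ centralizer (L : Set G) ∨
      f₁ * f₂ * s ∈ centralizer (L : Set G) ∨
        ∀ N : Subgroup G, (∀ l ∈ L, (l * f₁ = f₁ * l ∨ l * f₂ = f₂ * l ∨
          l * (f₁ * f₂) = (f₁ * f₂) * l) → l ∈ N) → L ≤ N

namespace Hyp

variable {L : Subgroup G} {x : G} (H : Hyp L x)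
include H

theorem cls {e : G} (he : e * x = x * e) (hee : e * e = 1) (h1 : e ≠ 1) :
    IsT L x e ∨ (∃ t, IsT1 L x t ∧ e = x * t) ∨
      (∃ s, IsS L x s ∧ ∃ t, IsT1 L x t ∧ e = s * t) ∨
        ∃ s, IsS L x s ∧ ∃ t, IsT1 L x t ∧ e = x * s * t := by
  have heM := H.Cx e he
  rcases H.cenx e heM hee (by
    have : e * x * e⁻¹ * x⁻¹ = 1 := by rw [he]; group
    rw [this]; exact one_mem _) with h | h | ⟨s, hs, h | h⟩
  · exact Or.inl ⟨h, he, hee, h1⟩
  · refine Or.inr (Or.inl ⟨e * x, ⟨h, ?_, ?_⟩, ?_⟩)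
    · rw [he]; rw [mul_assoc, he]
    · calc e * x * (e * x) = e * (x * e) * x := by group
        _ = (e * e) * (x * x) := by rw [← he]; group
        _ = 1 := by rw [hee, H.xx, one_mul]
    · rw [he, ← mul_assoc, H.xx, one_mul]
  · have c1 : s * (e * s) = e * s * s := comm_of_mem hs.mem h
    have c2 : s * e = e * s := by
      have : s * (e * s) = s * e * s := by group
      rw [this] at c1
      exact mul_right_cancel c1
    refine Or.inr (Or.inr (Or.inl ⟨s, hs, e * s, ⟨h, ?_, ?_⟩, ?_⟩))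
    · calc e * s * x = e * (s * x) := by group
        _ = (e * x) * s := by rw [hs.comm]; group
        _ = x * (e * s) := by rw [he]; group
    · calc e * s * (e * s) = e * (s * e) * s := by group
        _ = (e * e) * (s * s) := by rw [c2]; group
        _ = 1 := by rw [hee, hs.sq, one_mul]
    · rw [← c2, ← mul_assoc, hs.sq, one_mul]
  · have c1 : s * (e * x * s) = e * x * s * s := comm_of_mem hs.mem h
    have c3 : s * (e * x) = e * x * s := by
      have : s * (e * x * s) = s * (e * x) * s := by group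
      rw [this] at c1
      exact mul_right_cancel c1
    have c2 : s * e = e * s := by
      apply mul_right_cancel (b := x)
      calc s * e * x = s * (e * x) := by group
        _ = e * (x * s) := by rw [c3]; group
        _ = e * s * x := by rw [← hs.comm]; group
    refine Or.inr (Or.inr (Or.inr ⟨s, hs, e * x * s, ⟨h, ?_, ?_⟩, ?_⟩))
    · calc e * x * s * x = e * x * (s * x) := by group
        _ = (e * x) * x * s := by rw [hs.comm]; group
        _ = (x * e) * x * s := by rw [he]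
        _ = x * (e * x * s) := by group
    · calc e * x * s * (e * x * s) = e * x * (s * (e * x)) * s := by group
        _ = e * (x * e) * x * (s * s) := by rw [c3]; group
        _ = (e * e) * (x * x) * (s * s) := by rw [← he]; group
        _ = 1 := by rw [hee, hs.sq, H.xx]; group
    · calc e = e * (x * x) * (s * s) := by rw [H.xx, hs.sq]; group
        _ = (e * x) * (x * s) * s := by group
        _ = (e * x) * (s * x) * s := by rw [hs.comm]
        _ = s * (e * x) * x * s := by rw [c3]; group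
        _ = s * (x * e) * x * s := by rw [he]
        _ = (s * x) * (e * x * s) := by group
        _ = x * s * (e * x * s) := by rw [hs.comm]

theorem Cxt1 {t : G} (ht : IsT1 L x t) {c : G} (hc : c * (x * t) = (x * t) * c) :
    c ∈ normalizer (L : Set G) := by
  by_cases h : t = 1
  · rw [h, mul_one] at hc
    exact H.Cx c hc
  · exact H.Cxt t (ht.isT h) c hc

theorem badT1 {t : G} (ht : IsT1 L x t) (g : G) : ¬ IsT L x (g⁻¹ * (x * t) * g) := by
  by_cases h : t = 1
  · rw [h, mul_one]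
    exact H.badT g
  · exact H.badTt t (ht.isT h) g

theorem conjST {s t : G} (hs : IsS L x s) (ht : IsT1 L x t) :
    ∃ l ∈ L, l * (x * s * t) * l⁻¹ = x * t := by
  obtain ⟨l, hl, h⟩ := H.conjS s hs
  refine ⟨l, hl, ?_⟩
  have h1 := comm_of_mem (inv_mem hl) ht.mem
  calc l * (x * s * t) * l⁻¹ = l * (x * s) * (t * l⁻¹) := by group
    _ = l * (x * s) * l⁻¹ * t := by rw [← h1]; group
    _ = x * t := by rw [h]

theorem Cxst {s t : G} (hs : IsS L x s) (ht : IsT1 L x t) {c : G}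
    (hc : c * (x * s * t) = (x * s * t) * c) : c ∈ normalizer (L : Set G) := by
  obtain ⟨l, hl, h⟩ := H.conjST hs ht
  have h1 : (l * c * l⁻¹) * (x * t) = (x * t) * (l * c * l⁻¹) := by
    rw [← h]
    calc (l * c * l⁻¹) * (l * (x * s * t) * l⁻¹) = l * (c * (x * s * t)) * l⁻¹ := by group
      _ = l * ((x * s * t) * c) * l⁻¹ := by rw [hc]
      _ = _ := by group
  have h2 := H.Cxt1 ht h1
  have h3 : c = l⁻¹ * (l * c * l⁻¹) * l := by group
  rw [h3]
  exact mul_mem (mul_mem (inv_mem (L_le_M hl)) h2) (L_le_M hl)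

theorem not_xs {s : G} (hs : s ∈ L) {t : G} (ht : t ∈ centralizer (L : Set G)) :
    x * s * t ∉ centralizer (L : Set G) := fun h => H.xLK s hs (by
  have : x * s = x * s * t * t⁻¹ := by group
  rw [this]
  exact mul_mem h (inv_mem ht))

/-- a four-group of `M / K` centralizing `x` contains `x` -/
theorem four_x {e₁ e₂ : G} (h1 : e₁ ∈ normalizer (L : Set G)) (h2 : e₂ ∈ normalizer (L : Set G))
    (q1 : e₁ * e₁ = 1) (q2 : e₂ * e₂ = 1) (q : e₁ * e₂ = e₂ * e₁)
    (c1 : e₁ * x * e₁⁻¹ * x⁻¹ ∈ centralizer (L : Set G))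
    (c2 : e₂ * x * e₂⁻¹ * x⁻¹ ∈ centralizer (L : Set G))
    (n1 : e₁ ∉ centralizer (L : Set G)) (n2 : e₂ ∉ centralizer (L : Set G))
    (n12 : e₁ * e₂ ∉ centralizer (L : Set G)) :
    e₁ * x ∈ centralizer (L : Set G) ∨ e₂ * x ∈ centralizer (L : Set G) ∨
      e₁ * e₂ * x ∈ centralizer (L : Set G) := by
  rcases H.cenx e₁ h1 q1 c1 with h | h | ⟨s₁, hs₁, h⟩
  · exact absurd h n1
  · exact Or.inl h
  rcases H.cenx e₂ h2 q2 c2 with h' | h' | ⟨s₂, hs₂, h'⟩
  · exact absurd h' n2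
  · exact Or.inr (Or.inl h')
  obtain ⟨φ, hφ⟩ : ∃ φ, φ = L.normalizerMonoidHom := ⟨_, rfl⟩
  have hker : ∀ m : normalizer (L : Set G), φ m = 1 ↔ (m : G) ∈ centralizer (L : Set G) := by
    rw [hφ]; exact ker_iff
  obtain ⟨X, hX⟩ : ∃ X : normalizer (L : Set G), X = ⟨x, H.xM⟩ := ⟨_, rfl⟩
  obtain ⟨a, ha⟩ : ∃ a : normalizer (L : Set G), a = ⟨e₁, h1⟩ := ⟨_, rfl⟩
  obtain ⟨b, hb⟩ : ∃ b : normalizer (L : Set G), b = ⟨e₂, h2⟩ := ⟨_, rfl⟩
  obtain ⟨u, hu⟩ : ∃ u : normalizer (L : Set G), u = ⟨s₁, L_le_M hs₁.mem⟩ := ⟨_, rfl⟩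
  obtain ⟨v, hv⟩ : ∃ v : normalizer (L : Set G), v = ⟨s₂, L_le_M hs₂.mem⟩ := ⟨_, rfl⟩
  have eXX : X * X = 1 := by rw [hX]; exact Subtype.ext H.xx
  have euu : u * u = 1 := by rw [hu]; exact Subtype.ext hs₁.sq
  have evv : v * v = 1 := by rw [hv]; exact Subtype.ext hs₂.sq
  have euX : u * X = X * u := by rw [hu, hX]; exact Subtype.ext hs₁.comm
  have evX : v * X = X * v := by rw [hv, hX]; exact Subtype.ext hs₂.comm
  have eab : a * b = b * a := by rw [ha, hb]; exact Subtype.ext q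
  have fa : φ a = φ u ∨ φ a = φ u * φ X := by
    rcases h with h | h
    · left
      have h3 : φ (a * u) = 1 := (hker _).mpr (by rw [ha, hu]; exact h)
      rw [map_mul] at h3
      rw [eq_inv_of_mul_eq_one_left h3, ← map_inv, inv_eq_of_mul_eq_one_left euu]
    · right
      have h3 : φ (a * X * u) = 1 := (hker _).mpr (by rw [ha, hu, hX]; exact h)
      rw [map_mul, map_mul, mul_assoc] at h3
      rw [eq_inv_of_mul_eq_one_left h3, mul_inv_rev, ← map_inv, ← map_inv,
        inv_eq_of_mul_eq_one_left euu, inv_eq_of_mul_eq_one_left eXX]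
  have fb : φ b = φ v ∨ φ b = φ v * φ X := by
    rcases h' with h' | h'
    · left
      have h3 : φ (b * v) = 1 := (hker _).mpr (by rw [hb, hv]; exact h')
      rw [map_mul] at h3
      rw [eq_inv_of_mul_eq_one_left h3, ← map_inv, inv_eq_of_mul_eq_one_left evv]
    · right
      have h3 : φ (b * X * v) = 1 := (hker _).mpr (by rw [hb, hv, hX]; exact h')
      rw [map_mul, map_mul, mul_assoc] at h3
      rw [eq_inv_of_mul_eq_one_left h3, mul_inv_rev, ← map_inv, ← map_inv,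
        inv_eq_of_mul_eq_one_left evv, inv_eq_of_mul_eq_one_left eXX]
  have h3 : φ u * φ v = φ v * φ u := by
    refine aux_comm (X := φ X) ?_ ?_ ?_ ?_ ?_ ?_ fa fb
    · rw [← map_mul, eXX, map_one]
    · rw [← map_mul, euu, map_one]
    · rw [← map_mul, evv, map_one]
    · rw [← map_mul, euX, map_mul]
    · rw [← map_mul, evX, map_mul]
    · rw [← map_mul, eab, map_mul]
  have h4 : s₁ * s₂ = s₂ * s₁ := by
    have h5 : φ (u * v * (v * u)⁻¹) = 1 := by
      rw [map_mul, map_inv, map_mul, map_mul, h3, mul_inv_cancel]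
    have h6 := (hker _).mp h5
    rw [hu, hv] at h6
    have h7 : s₁ * s₂ * (s₂ * s₁)⁻¹ = 1 := H.disj
      (mul_mem (mul_mem hs₁.mem hs₂.mem) (inv_mem (mul_mem hs₂.mem hs₁.mem))) h6
    exact mul_inv_eq_one.mp h7
  have h5 := H.comm s₁ s₂ hs₁ hs₂ h4
  have huv : u = v := by rw [hu, hv]; exact Subtype.ext h5
  rw [← huv] at fb
  rcases fa with fa | fa <;> rcases fb with fb | fb
  · exfalso
    apply n12
    have : φ (a * b) = 1 := by rw [map_mul, fa, fb, ← map_mul, euu, map_one]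
    have := (hker _).mp this
    rwa [ha, hb] at this
  · right; right
    have : φ (a * b * X) = 1 := by
      rw [map_mul, map_mul, fa, fb, ← map_mul, ← map_mul, ← map_mul]
      have : u * (u * X) * X = 1 := by
        calc u * (u * X) * X = (u * u) * (X * X) := by group
          _ = 1 := by rw [euu, eXX, one_mul]
      rw [this, map_one]
    have := (hker _).mp this
    rwa [ha, hb, hX] at this
  · right; right
    have : φ (a * b * X) = 1 := by
      rw [map_mul, map_mul, fa, fb, ← map_mul, ← map_mul, ← map_mul]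
      have : u * X * u * X = 1 := by
        calc u * X * u * X = u * (X * u) * X := by group
          _ = (u * u) * (X * X) := by rw [← euX]; group
          _ = 1 := by rw [euu, eXX, one_mul]
      rw [this, map_one]
    have := (hker _).mp this
    rwa [ha, hb, hX] at this
  · exfalso
    apply n12
    have : φ (a * b) = 1 := by
      rw [map_mul, fa, fb, ← map_mul, ← map_mul]
      have : u * X * (u * X) = 1 := by
        calc u * X * (u * X) = u * (X * u) * X := by group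
          _ = (u * u) * (X * X) := by rw [← euX]; group
          _ = 1 := by rw [euu, eXX, one_mul]
      rw [this, map_one]
    have := (hker _).mp this
    rwa [ha, hb] at this

/-- pairs of commuting `t`'s commuting with `s t₁` -/
theorem exists_pair {s t₁ : G} (hs : IsS L x s) (ht₁ : IsT1 L x t₁) :
    ∃ f₁ f₂, IsT L x f₁ ∧ IsT L x f₂ ∧ IsT L x (f₁ * f₂) ∧ f₁ * f₂ = f₂ * f₁ ∧
      f₁ * (s * t₁) = s * t₁ * f₁ ∧ f₂ * (s * t₁) = s * t₁ * f₂ := by
  have key : ∀ f, IsT L x f → f * t₁ = t₁ * f → f * (s * t₁) = s * t₁ * f := by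
    intro f hf h
    have h1 := comm_of_mem hs.mem hf.mem
    calc f * (s * t₁) = (f * s) * t₁ := by group
      _ = s * (f * t₁) := by rw [← h1]; group
      _ = s * t₁ * f := by rw [h]; group
  have hmul : ∀ f₁ f₂, IsT L x f₁ → IsT L x f₂ → f₂ ≠ f₁ → f₂ * f₁ = f₁ * f₂ → IsT L x (f₁ * f₂) := by
    intro f₁ f₂ h1 h2 hne h
    refine (h1.isT1.mul h2.isT1 h.symm).isT ?_
    intro h3
    apply hne
    have h4 := eq_inv_of_mul_eq_one_right h3
    rw [h4]
    exact inv_eq_of_mul_eq_one_left h1.sq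
  by_cases h : t₁ = 1
  · obtain ⟨t, ht⟩ := H.four
    obtain ⟨u, hu, hut, hc⟩ := H.rk t ht
    exact ⟨t, u, ht, hu, hmul t u ht hu hut hc, hc.symm, key t ht (by rw [h]; group),
      key u hu (by rw [h]; group)⟩
  · have ht := ht₁.isT h
    obtain ⟨u, hu, hut, hc⟩ := H.rk t₁ ht
    exact ⟨t₁, u, ht, hu, hmul t₁ u ht hu hut hc, hc.symm, key t₁ ht rfl, key u hu hc⟩

/-- (E1)(iii), the main step -/
theorem fix3 [Finite G] {g : G} (hg : g ∉ normalizer (L : Set G))
    (hk : g⁻¹ * x * g * x ∈ centralizer (L : Set G)) : False := by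
  obtain ⟨y, hy⟩ : ∃ y, y = g⁻¹ * x * g := ⟨_, rfl⟩
  obtain ⟨k, hkd⟩ : ∃ k, k = y * x := ⟨_, rfl⟩
  have hyy : y * y = 1 := by
    rw [hy]
    calc g⁻¹ * x * g * (g⁻¹ * x * g) = g⁻¹ * (x * x) * g := by group
      _ = 1 := by rw [H.xx]; group
  have hkK : k ∈ centralizer (L : Set G) := by rw [hkd, hy]; exact hk
  have hykx : y = k * x := by
    rw [hkd, mul_assoc, H.xx, mul_one]
  have hxk : x * k * x⁻¹ = k⁻¹ := by
    rw [hkd, mul_inv_rev, inv_eq_of_mul_eq_one_left hyy, H.xi]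
    calc x * (y * x) * x = x * y * (x * x) := by group
      _ = x * y := by rw [H.xx, mul_one]
  have hxz : ∀ j ∈ zpowers k, x * j * x⁻¹ = j⁻¹ := by
    intro j hj
    obtain ⟨n, rfl⟩ := mem_zpowers_iff.mp hj
    rw [← conj_zpow, hxk, inv_zpow]
  have hzK : ∀ j ∈ zpowers k, j ∈ centralizer (L : Set G) := fun j hj =>
    (zpowers_le.mpr hkK) hj
  rcases Nat.even_or_odd (orderOf k) with hev | hodd
  · obtain ⟨n, hn⟩ := hev
    have hnpos : 0 < n := by
      have := orderOf_pos k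
      omega
    obtain ⟨t, htd⟩ : ∃ t, t = k ^ n := ⟨_, rfl⟩
    have htz : t ∈ zpowers k := htd ▸ pow_mem (mem_zpowers k) n
    have htt : t * t = 1 := by rw [htd, ← pow_add, ← hn, pow_orderOf_eq_one]
    have ht1 : t ≠ 1 := by
      rw [htd]
      intro h
      have := orderOf_le_of_pow_eq_one hnpos h
      omega
    have htx : t * x = x * t := by
      have h1 := hxz t htz
      rw [inv_eq_of_mul_eq_one_left htt] at h1
      calc t * x = (x * t * x⁻¹) * x := by rw [h1]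
        _ = x * t := by group
    have htT : IsT L x t := ⟨hzK t htz, htx, htt, ht1⟩
    have hty : t * y = y * t := by
      have h1 : t * k = k * t := by
        rw [htd]; exact ((Commute.refl k).pow_left n)
      rw [hykx]
      calc t * (k * x) = (t * k) * x := by group
        _ = k * (t * x) := by rw [h1]; group
        _ = k * x * t := by rw [htx]; group
    obtain ⟨v, hv⟩ : ∃ v, v = g * t * g⁻¹ := ⟨_, rfl⟩
    have hvt : g⁻¹ * v * g = t := by rw [hv]; group
    have hvx : v * x = x * v := by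
      rw [hv]
      have e1 : x = g * y * g⁻¹ := by rw [hy]; group
      calc g * t * g⁻¹ * x = g * t * g⁻¹ * (g * y * g⁻¹) := by rw [← e1]
        _ = g * (t * y) * g⁻¹ := by group
        _ = g * (y * t) * g⁻¹ := by rw [hty]
        _ = (g * y * g⁻¹) * (g * t * g⁻¹) := by group
        _ = x * (g * t * g⁻¹) := by rw [← e1]
    have hvv : v * v = 1 := by
      rw [hv]
      calc g * t * g⁻¹ * (g * t * g⁻¹) = g * (t * t) * g⁻¹ := by group
        _ = 1 := by rw [htt]; group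
    have hv1 : v ≠ 1 := by
      intro h
      apply ht1
      rw [← hvt, h]; group
    rcases H.cls hvx hvv hv1 with h | ⟨t₁, ht₁, h⟩ | ⟨s, hs, t₁, ht₁, h⟩ | ⟨s, hs, t₁, ht₁, h⟩
    · exact hg (H.fixT h (by rw [hvt]; exact htT.mem))
    · exact H.badT1 ht₁ g (by rw [← h, hvt]; exact htT)
    · obtain ⟨f₁, f₂, hf₁, hf₂, hf, hc, hd₁, hd₂⟩ := H.exists_pair hs ht₁
      rw [← h] at hd₁ hd₂
      have hM : ∀ f, f * v = v * f → g⁻¹ * f * g ∈ normalizer (L : Set G) := by
        intro f hfv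
        apply H.Ct t htT
        calc g⁻¹ * f * g * t = g⁻¹ * (f * v) * g := by rw [← hvt]; group
          _ = g⁻¹ * (v * f) * g := by rw [hfv]
          _ = t * (g⁻¹ * f * g) := by rw [← hvt]; group
      have hnK : ∀ f, IsT L x f → g⁻¹ * f * g ∉ centralizer (L : Set G) :=
        fun f hf h1 => hg (H.fixT hf h1)
      have hcx : ∀ f, IsT L x f →
          (g⁻¹ * f * g) * x * (g⁻¹ * f * g)⁻¹ * x⁻¹ ∈ centralizer (L : Set G) ∨
            g⁻¹ * f * g ∉ normalizer (L : Set G) := by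
        intro f hf
        by_cases h1 : g⁻¹ * f * g ∈ normalizer (L : Set G)
        · left
          obtain ⟨e, he⟩ : ∃ e, e = g⁻¹ * f * g := ⟨_, rfl⟩
          rw [← he] at h1 ⊢
          have h2 : e * y = y * e := by
            rw [he, hy]
            calc g⁻¹ * f * g * (g⁻¹ * x * g) = g⁻¹ * (f * x) * g := by group
              _ = g⁻¹ * (x * f) * g := by rw [hf.comm]
              _ = _ := by group
          have h3 : e * x * e⁻¹ * x⁻¹ = (e * k⁻¹ * e⁻¹) * k := by
            have h4 : x = k⁻¹ * y := by rw [hykx]; group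
            calc e * x * e⁻¹ * x⁻¹ = e * (k⁻¹ * y) * e⁻¹ * x⁻¹ := by rw [← h4]
              _ = e * k⁻¹ * (y * e⁻¹) * x⁻¹ := by group
              _ = e * k⁻¹ * (e⁻¹ * y) * x⁻¹ := by
                have h5 : y * e⁻¹ = e⁻¹ * y := by
                  calc y * e⁻¹ = e⁻¹ * (e * y) * e⁻¹ := by group
                    _ = e⁻¹ * (y * e) * e⁻¹ := by rw [h2]
                    _ = e⁻¹ * y := by group
                rw [h5]
              _ = (e * k⁻¹ * e⁻¹) * (k * x) * x⁻¹ := by rw [hykx]; group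
              _ = _ := by group
          rw [h3]
          exact mul_mem (K_conj h1 (inv_mem hkK)) hkK
        · exact Or.inr h1
      have hw : ∃ w, IsT L x w ∧ g⁻¹ * w * g ∈ normalizer (L : Set G) ∧
          g⁻¹ * w * g * x ∈ centralizer (L : Set G) := by
        have m1 := hM f₁ hd₁
        have m2 := hM f₂ hd₂
        have sqc : ∀ f, IsT L x f → g⁻¹ * f * g * (g⁻¹ * f * g) = 1 := by
          intro f hf
          calc g⁻¹ * f * g * (g⁻¹ * f * g) = g⁻¹ * (f * f) * g := by group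
            _ = 1 := by rw [hf.sq]; group
        have e12 : g⁻¹ * f₁ * g * (g⁻¹ * f₂ * g) = g⁻¹ * (f₁ * f₂) * g := by group
        rcases H.four_x m1 m2 (sqc f₁ hf₁) (sqc f₂ hf₂) (by
            rw [e12, hc]; group) ((hcx f₁ hf₁).resolve_right (not_not_intro m1))
            ((hcx f₂ hf₂).resolve_right (not_not_intro m2)) (hnK f₁ hf₁) (hnK f₂ hf₂) (by
              rw [e12]; exact hnK _ hf) with h1 | h1 | h1
        · exact ⟨f₁, hf₁, m1, h1⟩
        · exact ⟨f₂, hf₂, m2, h1⟩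
        · exact ⟨f₁ * f₂, hf, by rw [← e12]; exact mul_mem m1 m2, by rw [← e12]; exact h1⟩
      obtain ⟨w, hw, hwM, hwx⟩ := hw
      obtain ⟨e, he⟩ : ∃ e, e = g⁻¹ * w * g := ⟨_, rfl⟩
      rw [← he] at hwM hwx
      have h5 : y * e ∈ centralizer (L : Set G) := by
        have h6 : y * e = k * (x * (e * x) * x⁻¹) := by
          rw [hykx]; group
        rw [h6]
        exact mul_mem hkK (K_conj H.xM hwx)
      have hL1 : ∀ l ∈ L, g * l * g⁻¹ ∈ normalizer (L : Set G) := by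
        intro l hl
        apply H.Cxt w hw
        have h6 := comm_of_mem hl h5
        have h7 : x * w = g * (y * e) * g⁻¹ := by rw [hy, he]; group
        rw [h7]
        calc g * l * g⁻¹ * (g * (y * e) * g⁻¹) = g * (l * (y * e)) * g⁻¹ := by group
          _ = g * ((y * e) * l) * g⁻¹ := by rw [h6]
          _ = _ := by group
      exact hnK w hw (H.z3 hL1 hw.mem (he ▸ hwM))
    · obtain ⟨l, hl, h1⟩ := H.conjST hs ht₁
      apply H.badT1 ht₁ (l * g)
      have h2 : (l * g)⁻¹ * (x * t₁) * (l * g) = t := by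
        rw [← h1, ← h, ← hvt]; group
      rw [h2]
      exact htT
  · obtain ⟨j, hj, hjz⟩ := exists_sqrt hodd
    have h1 := hxz j hjz
    have h2 : j * x * j⁻¹ = y := by
      have h3 : x * j⁻¹ * x⁻¹ = j := by
        have := hxz j⁻¹ (inv_mem hjz)
        rwa [inv_inv] at this
      calc j * x * j⁻¹ = j * (x * j⁻¹ * x⁻¹) * x := by group
        _ = j * j * x := by rw [h3]
        _ = y := by rw [hj, ← hykx]
    have h3 : (g * j) * x = x * (g * j) := by
      calc (g * j) * x = g * (j * x * j⁻¹) * j := by group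
        _ = g * (g⁻¹ * x * g) * j := by rw [h2, hy]
        _ = x * (g * j) := by group
    apply hg
    have h4 : g = (g * j) * j⁻¹ := by group
    rw [h4]
    exact mul_mem (H.Cx _ h3) (inv_mem (K_le_M (hzK j hjz)))

/-- **(E1)** `x` normalizes exactly one conjugate of `L`. -/
theorem fix [Finite G] (badL1 : ∀ t, IsT1 L x t → ∀ g : G, g⁻¹ * (x * t) * g ∉ L) {g : G}
    (hx : g⁻¹ * x * g ∈ normalizer (L : Set G)) :
    g ∈ normalizer (L : Set G) := by
  by_contra hg
  obtain ⟨y, hy⟩ : ∃ y, y = g⁻¹ * x * g := ⟨_, rfl⟩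
  rw [← hy] at hx
  have hyy : y * y = 1 := by
    rw [hy]
    calc g⁻¹ * x * g * (g⁻¹ * x * g) = g⁻¹ * (x * x) * g := by group
      _ = 1 := by rw [H.xx]; group
  have hx1 : x ∉ centralizer (L : Set G) := by
    have := H.xLK 1 (one_mem _)
    rwa [mul_one] at this
  have hcase : y ∉ centralizer (L : Set G) := by
    intro h
    have hL1 : ∀ l ∈ L, g * l * g⁻¹ ∈ normalizer (L : Set G) := by
      intro l hl
      apply H.Cx
      have h1 := comm_of_mem hl h
      calc g * l * g⁻¹ * x = g * (l * y) * g⁻¹ := by rw [hy]; group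
        _ = g * (y * l) * g⁻¹ := by rw [h1]
        _ = x * (g * l * g⁻¹) := by rw [hy]; group
    exact hx1 (H.z4 hL1 H.xM (hy ▸ h))
  rcases H.inv y hx hyy with h | ⟨s₀, hs₀, hss, h⟩ | ⟨l, hl, h⟩ | ⟨v, A, B, hF⟩
  · exact hcase h
  · have hs1 : s₀ ≠ 1 := by
      rintro rfl
      rw [mul_one] at h
      exact hcase h
    obtain ⟨s₁, hs₁⟩ : ∃ s₁, s₁ = g * s₀ * g⁻¹ := ⟨_, rfl⟩
    have hs₁0 : g⁻¹ * s₁ * g = s₀ := by rw [hs₁]; group
    have hcy : s₀ * y = y * s₀ := by
      have h1 : s₀ * (y * s₀) = y * s₀ * s₀ := comm_of_mem hs₀ h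
      have h2 : s₀ * (y * s₀) = s₀ * y * s₀ := by group
      rw [h2] at h1
      exact mul_right_cancel h1
    have hc : s₁ * x = x * s₁ := by
      rw [hs₁]
      have e1 : x = g * y * g⁻¹ := by rw [hy]; group
      calc g * s₀ * g⁻¹ * x = g * s₀ * g⁻¹ * (g * y * g⁻¹) := by rw [← e1]
        _ = g * (s₀ * y) * g⁻¹ := by group
        _ = g * (y * s₀) * g⁻¹ := by rw [hcy]
        _ = (g * y * g⁻¹) * (g * s₀ * g⁻¹) := by group
        _ = x * (g * s₀ * g⁻¹) := by rw [← e1]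
    have hs11 : s₁ * s₁ = 1 := by
      rw [hs₁]
      calc g * s₀ * g⁻¹ * (g * s₀ * g⁻¹) = g * (s₀ * s₀) * g⁻¹ := by group
        _ = 1 := by rw [hss]; group
    have hs₁1 : s₁ ≠ 1 := by
      intro h1
      apply hs1
      rw [← hs₁0, h1]; group
    have hcom : ∀ l ∈ L, (g * l * g⁻¹) * (x * s₁) = (x * s₁) * (g * l * g⁻¹) := by
      intro l hl
      have h1 := comm_of_mem hl h
      have h2 : x * s₁ = g * (y * s₀) * g⁻¹ := by rw [hs₁, hy]; group
      rw [h2]
      calc g * l * g⁻¹ * (g * (y * s₀) * g⁻¹) = g * (l * (y * s₀)) * g⁻¹ := by group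
        _ = g * (y * s₀ * l) * g⁻¹ := by rw [h1]
        _ = _ := by group
    rcases H.cls hc hs11 hs₁1 with h1 | ⟨t₁, ht₁, h1⟩ | ⟨s, hs, t₁, ht₁, h1⟩ | ⟨s, hs, t₁, ht₁, h1⟩
    · have hL1 : ∀ l ∈ L, g * l * g⁻¹ ∈ normalizer (L : Set G) := fun l hl =>
        H.Cxt s₁ h1 _ (hcom l hl)
      exact hs1 (H.z1 hL1 hs₀ (hs₁ ▸ h1.mem))
    · apply badL1 t₁ ht₁ g
      rw [← h1, hs₁0]; exact hs₀
    · have e1 : x * s₁ = x * s * t₁ := by rw [h1]; group
      have hL1 : ∀ l ∈ L, g * l * g⁻¹ ∈ normalizer (L : Set G) := fun l hl =>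
        H.Cxst hs ht₁ (by rw [← e1]; exact hcom l hl)
      have h2 : x * s₁ ∈ centralizer (L : Set G) := by
        apply H.z4 hL1
        · rw [e1]
          exact mul_mem (mul_mem H.xM (L_le_M hs.mem)) (K_le_M ht₁.mem)
        · have h3 : g⁻¹ * (x * s₁) * g = y * s₀ := by rw [hs₁, hy]; group
          rw [h3]; exact h
      rw [e1] at h2
      exact H.not_xs hs.mem ht₁.mem h2
    · obtain ⟨l, hl, h2⟩ := H.conjST hs ht₁
      apply badL1 t₁ ht₁ (l * g)
      have h3 : (l * g)⁻¹ * (x * t₁) * (l * g) = s₀ := by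
        rw [← h2, ← h1, ← hs₁0]; group
      rw [h3]
      exact hs₀
  · refine H.fix3 (g := g * l⁻¹) (fun h1 => hg ?_) ?_
    · have h2 : g = g * l⁻¹ * l := by group
      rw [h2]
      exact mul_mem h1 (L_le_M hl)
    · have h2 : (g * l⁻¹)⁻¹ * x * (g * l⁻¹) * x = l * y * l⁻¹ * x := by rw [hy]; group
      rw [h2]
      exact h
  · -- field type
    have hcx : ∀ a ∈ A, (g * a * g⁻¹) * x = x * (g * a * g⁻¹) := by
      intro a ha
      have h1 := hF.cA a ha
      have e1 : x = g * y * g⁻¹ := by rw [hy]; group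
      calc (g * a * g⁻¹) * x = g * a * g⁻¹ * (g * y * g⁻¹) := by rw [← e1]
        _ = g * (a * y) * g⁻¹ := by group
        _ = g * (y * a) * g⁻¹ := by rw [h1]
        _ = (g * y * g⁻¹) * (g * a * g⁻¹) := by group
        _ = x * (g * a * g⁻¹) := by rw [← e1]
    have hAK := hF.dA g (fun a ha => H.Cx _ (hcx a ha)) (fun a ha => by
      have : (g * a * g⁻¹) * x * (g * a * g⁻¹)⁻¹ * x⁻¹ = 1 := by rw [hcx a ha]; group
      rw [this]; exact one_mem _)
    have hvx := hcx v hF.vA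
    have hvK := hAK v hF.vA
    obtain ⟨t, ht⟩ : ∃ t, t = g * v * g⁻¹ := ⟨_, rfl⟩
    rw [← ht] at hvx hvK
    have htT : IsT L x t := by
      refine ⟨hvK, hvx, ?_, ?_⟩
      · rw [ht]
        calc g * v * g⁻¹ * (g * v * g⁻¹) = g * (v * v) * g⁻¹ := by group
          _ = 1 := by rw [hF.vv]; group
      · intro h1
        apply hF.v1
        calc v = g⁻¹ * (g * v * g⁻¹) * g := by group
          _ = 1 := by rw [← ht, h1]; group
    have hcB : ∀ b ∈ B, (g * b * g⁻¹) * (x * t) = (x * t) * (g * b * g⁻¹) := by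
      intro b hb
      have h1 := hF.cB b hb
      have e1 : x * t = g * (y * v) * g⁻¹ := by rw [ht, hy]; group
      rw [e1]
      calc (g * b * g⁻¹) * (g * (y * v) * g⁻¹) = g * (b * (y * v)) * g⁻¹ := by group
        _ = g * (y * v * b) * g⁻¹ := by rw [h1]
        _ = _ := by group
    have hBM : ∀ b ∈ B, g * b * g⁻¹ ∈ normalizer (L : Set G) := fun b hb =>
      H.Cxt t htT _ (hcB b hb)
    have hBK := hF.dB g hBM (fun b hb => by
      obtain ⟨c, hc⟩ : ∃ c, c = g * b * g⁻¹ := ⟨_, rfl⟩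
      have h1 := hcB b hb
      have h2 := hBM b hb
      rw [← hc] at h1 h2 ⊢
      have h3 : c * x * c⁻¹ * x⁻¹ = x * (t * (c * t * c⁻¹)⁻¹) * x⁻¹ := by
        calc c * x * c⁻¹ * x⁻¹ = c * (x * t) * c⁻¹ * (c * t * c⁻¹)⁻¹ * x⁻¹ := by group
          _ = (x * t) * c * c⁻¹ * (c * t * c⁻¹)⁻¹ * x⁻¹ := by rw [h1]
          _ = _ := by group
      rw [h3]
      exact K_conj H.xM (mul_mem hvK (inv_mem (K_conj h2 hvK))))
    have hLK : L ≤ (centralizer (L : Set G)).comap (MulAut.conj g).toMonoidHom :=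
      hF.gen _ (fun a ha => mem_comap.mpr (hAK a ha)) (fun b hb => mem_comap.mpr (hBK b hb))
    exact H.nc g (fun l hl => mem_comap.mp (hLK hl))

end Hyp

end Cfsg.Agent.UGT.ThE.Base
end

-- part: UGT/FourA/Basic
section
prune_inst 0x4403004205322120000000592310020545400049200630001f9400f06024e9761804227007ca01f10090aaa20280a8060139800d940380000200086004004052184aa72c69348b10427000fc0f807180c00000000000000000000000000041004200000000
set_option linter.all false
open scoped Cfsg.Agent.FastGrp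

/-!
# `m(C_Q(x)) = 1`, `x ∉ X`: the end (Theorem 4A), I

`a` an involution of `X`, `L` simple, normal in `C(a)`, `K = C(a) ∩ C(L)`, `C(a) = (K × L)⟨x⟩`, `a` the only
involution of `C_K(x)`, `C(x) ≤ C(a)`; `s ∈ L` the involution commuting with `x`; `a`, `s`, `as` not conjugate.
-/

set_option autoImplicit false

open Subgroup

namespace Cfsg.Agent.UGT.FourA.Basic

open Cfsg.Agent.UGT.ThE Cfsg.Agent.UGT.ThE.Base

variable {G : Type*} [Group G]

/-- the hypotheses without `out` -/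
structure Hyp0 (X L : Subgroup G) (x a s : G) : Prop where
  XN : X.Normal
  xX : x ∉ X
  xx : x * x = 1
  aX : a ∈ X
  aa : a * a = 1
  a1 : a ≠ 1
  LX : L ≤ X
  La : ∀ l ∈ L, l * a = a * l
  simp : ∀ N : Subgroup G, N ≤ L → (∀ l ∈ L, ∀ n ∈ N, l * n * l⁻¹ ∈ N) → N = ⊥ ∨ N = L
  nab : ¬ ∀ l ∈ L, l ∈ centralizer (L : Set G)
  big : 27 < Nat.card L
  xLK : ∀ l ∈ L, x * l ∉ centralizer (L : Set G)
  Cx : ∀ c, c * x = x * c → c * a = a * c
  CaN : ∀ c, c * a = a * c → c ∈ normalizer (L : Set G)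
  perf : ∀ g : G, (∀ l ∈ L, g * l * g⁻¹ * a = a * (g * l * g⁻¹)) → ∀ l ∈ L,
    ∃ l' ∈ L, g * l * g⁻¹ * l' ∈ centralizer (L : Set G)
  star : ∀ k ∈ centralizer (L : Set G), k * a = a * k → k * x = x * k → k * k = 1 → k = 1 ∨ k = a
  hxa : ∃ g : G, g * x * g⁻¹ = x * a
  sL : s ∈ L
  ss : s * s = 1
  s1 : s ≠ 1
  sx : s * x = x * s
  invL : ∀ i ∈ L, i * i = 1 → i ≠ 1 → ∃ l ∈ L, l * i * l⁻¹ = s
  cls : ∀ u ∈ X, u * x = x * u → u * u = 1 → u ≠ 1 → ∃ d ∈ L, d * x = x * d ∧
    (d * u * d⁻¹ = a ∨ d * u * d⁻¹ = s ∨ d * u * d⁻¹ = a * s)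
  commS : ∀ s' ∈ L, s' * x = x * s' → s' * s' = 1 → s' * s = s * s' → s' = 1 ∨ s' = s
  nas : ∀ g : G, g * a * g⁻¹ ≠ s
  naas : ∀ g : G, g * a * g⁻¹ ≠ a * s
  xs : ∃ p ∈ L, p * s = s * p ∧ p * x * p⁻¹ = x * s

/-- the conjugates of `a` under `C(t₀)`, `t₀ ∈ {s, as}`, outer on `L`, are of the type of `x` -/
structure Hyp (X L : Subgroup G) (x a s : G) : Prop extends Hyp0 X L x a s where
  out : ∀ t₀, t₀ = s ∨ t₀ = a * s → ∀ m, m * t₀ = t₀ * m →
    (∀ l ∈ L, m * a * m⁻¹ * l ∉ centralizer (L : Set G)) →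
    ∃ l ∈ L, l * s = s * l ∧ l * (m * a * m⁻¹) * l⁻¹ * x ∈ centralizer (L : Set G)

/-- conjugation of products -/
theorem cj_mul (g y z : G) : g * (y * z) * g⁻¹ = (g * y * g⁻¹) * (g * z * g⁻¹) := by group

theorem cj_comm {g y z : G} (h : y * z = z * y) :
    (g * y * g⁻¹) * (g * z * g⁻¹) = (g * z * g⁻¹) * (g * y * g⁻¹) := by
  rw [← cj_mul, h, cj_mul]

theorem cj_sq {g y : G} (h : y * y = 1) : (g * y * g⁻¹) * (g * y * g⁻¹) = 1 := by
  rw [← cj_mul, h]; group

theorem cj_ne {g y : G} (h : y ≠ 1) : g * y * g⁻¹ ≠ 1 := by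
  intro h1
  apply h
  calc y = g⁻¹ * (g * y * g⁻¹) * g := by group
    _ = 1 := by rw [h1]; group

theorem cj_eq_of_comm {g y : G} (h : g * y = y * g) : g * y * g⁻¹ = y := by rw [h]; group

theorem comm_of_cj_eq {g y : G} (h : g * y * g⁻¹ = y) : g * y = y * g := by
  calc g * y = (g * y * g⁻¹) * g := by group
    _ = y * g := by rw [h]

/-- `c` commutes with `gyg⁻¹` iff `g⁻¹cg` commutes with `y` -/
theorem comm_cj_iff {g c y : G} :
    c * (g * y * g⁻¹) = (g * y * g⁻¹) * c ↔ (g⁻¹ * c * g) * y = y * (g⁻¹ * c * g) := by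
  constructor
  · intro h
    calc (g⁻¹ * c * g) * y = g⁻¹ * (c * (g * y * g⁻¹)) * g := by group
      _ = g⁻¹ * ((g * y * g⁻¹) * c) * g := by rw [h]
      _ = _ := by group
  · intro h
    calc c * (g * y * g⁻¹) = g * ((g⁻¹ * c * g) * y) * g⁻¹ := by group
      _ = g * (y * (g⁻¹ * c * g)) * g⁻¹ := by rw [h]
      _ = _ := by group

section simple

variable {L : Subgroup G}
  (simp : ∀ N : Subgroup G, N ≤ L → (∀ l ∈ L, ∀ n ∈ N, l * n * l⁻¹ ∈ N) → N = ⊥ ∨ N = L)
include simp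

theorem y1 {g : G} (hnc : ¬ ∀ l ∈ L, g * l * g⁻¹ ∈ centralizer (L : Set G))
    (h : ∀ l ∈ L, g * l * g⁻¹ ∈ normalizer (L : Set G)) {l : G} (hl : l ∈ L)
    (hk : g * l * g⁻¹ ∈ centralizer (L : Set G)) : l = 1 := by
  rcases simp (L ⊓ (centralizer (L : Set G)).comap (MulAut.conj g).toMonoidHom) inf_le_left
    (fun l hl n hn => mem_inf.mpr ⟨mul_mem (mul_mem hl hn.1) (inv_mem hl), mem_comap.mpr (by
      have h1 : (MulAut.conj g).toMonoidHom (l * n * l⁻¹) =
          (g * l * g⁻¹) * (g * n * g⁻¹) * (g * l * g⁻¹)⁻¹ := by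
        simp only [MulEquiv.coe_toMonoidHom, MulAut.conj_apply]; group
      rw [h1]
      exact K_conj (h l hl) hn.2)⟩) with h1 | h1
  · exact mem_bot.mp (h1 ▸ (⟨hl, hk⟩ :
      l ∈ L ⊓ (centralizer (L : Set G)).comap (MulAut.conj g).toMonoidHom))
  · exfalso
    apply hnc
    intro l hl
    have : l ∈ L ⊓ (centralizer (L : Set G)).comap (MulAut.conj g).toMonoidHom := h1.symm ▸ hl
    exact this.2

theorem y2 [Finite G] {g : G} (hg : g ∉ normalizer (L : Set G))
    (h : ∀ l ∈ L, g * l * g⁻¹ ∈ normalizer (L : Set G)) {l : G} (hl : l ∈ L)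
    (hk : g * l * g⁻¹ ∈ L) : l = 1 := by
  rcases simp (L ⊓ L.comap (MulAut.conj g).toMonoidHom) inf_le_left
    (fun l hl n hn => mem_inf.mpr ⟨mul_mem (mul_mem hl hn.1) (inv_mem hl), mem_comap.mpr (by
      have h1 : (MulAut.conj g).toMonoidHom (l * n * l⁻¹) =
          (g * l * g⁻¹) * (g * n * g⁻¹) * (g * l * g⁻¹)⁻¹ := by
        simp only [MulEquiv.coe_toMonoidHom, MulAut.conj_apply]; group
      rw [h1]
      exact L_conj (h l hl) hn.2)⟩) with h1 | h1
  · exact mem_bot.mp (h1 ▸ (⟨hl, hk⟩ : l ∈ L ⊓ L.comap (MulAut.conj g).toMonoidHom))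
  · exfalso
    apply hg
    have h2 : ∀ l ∈ L, g * l * g⁻¹ ∈ L := by
      intro l hl
      have : l ∈ L ⊓ L.comap (MulAut.conj g).toMonoidHom := h1.symm ▸ hl
      exact this.2
    rw [mem_normalizer_iff]
    intro y
    refine ⟨h2 y, fun hy => ?_⟩
    have h3 : Function.Surjective (fun l : L => (⟨g * l * g⁻¹, h2 l l.2⟩ : L)) := by
      apply Finite.injective_iff_surjective.mp
      intro a b hab
      have h4 : g * (a : G) * g⁻¹ = g * (b : G) * g⁻¹ := congrArg Subtype.val hab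
      exact Subtype.ext (mul_left_cancel (mul_right_cancel h4))
    obtain ⟨⟨b, hb⟩, hb2⟩ := h3 ⟨g * y * g⁻¹, hy⟩
    have h5 : g * b * g⁻¹ = g * y * g⁻¹ := congrArg Subtype.val hb2
    rw [← mul_left_cancel (mul_right_cancel h5)]
    exact hb

theorem disj_of (nab : ¬ ∀ l ∈ L, l ∈ centralizer (L : Set G)) {l : G} (hl : l ∈ L)
    (hk : l ∈ centralizer (L : Set G)) : l = 1 := by
  have := y1 simp (g := 1) (l := l) (by simpa using nab) (fun l hl => by
    have := L_le_M hl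
    simpa using this) hl (by simpa using hk)
  exact this

/-- `w ∈ N(L)` centralizing `L₁ = gLg⁻¹ ≤ LK` centralizes `L` -/
theorem y4 [Finite G] (nab : ¬ ∀ l ∈ L, l ∈ centralizer (L : Set G)) {g : G}
    (hnc : ¬ ∀ l ∈ L, g * l * g⁻¹ ∈ centralizer (L : Set G))
    (h : ∀ l ∈ L, g * l * g⁻¹ ∈ normalizer (L : Set G))
    (hp : ∀ l ∈ L, ∃ l' ∈ L, g * l * g⁻¹ * l' ∈ centralizer (L : Set G)) {w : G}
    (hw : w ∈ normalizer (L : Set G)) (hwg : g⁻¹ * w * g ∈ centralizer (L : Set G)) :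
    w ∈ centralizer (L : Set G) := by
  choose f hf using fun l : L => hp l.1 l.2
  have hinj : Function.Injective (fun l : L => (⟨f l, (hf l).1⟩ : L)) := by
    intro a b hab
    have h1 : f a = f b := congrArg Subtype.val hab
    have h2 := mul_mem (hf a).2 (inv_mem (hf b).2)
    rw [h1] at h2
    have h3 : g * (a : G) * g⁻¹ * f b * (g * (b : G) * g⁻¹ * f b)⁻¹ =
        g * ((a : G) * (b : G)⁻¹) * g⁻¹ := by group
    rw [h3] at h2
    have h4 := y1 simp hnc h (mul_mem a.2 (inv_mem b.2)) h2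
    exact Subtype.ext (mul_inv_eq_one.mp h4)
  have hsurj := Finite.injective_iff_surjective.mp hinj
  rw [mem_centralizer_iff]
  intro y hy
  obtain ⟨⟨l, hl⟩, hly⟩ := hsurj ⟨y, hy⟩
  have h1 : f ⟨l, hl⟩ = y := congrArg Subtype.val hly
  have hk := (hf ⟨l, hl⟩).2
  rw [h1] at hk
  obtain ⟨k, hkdef⟩ : ∃ k, k = g * l * g⁻¹ * y := ⟨_, rfl⟩
  rw [← hkdef] at hk
  have e1 : g * l * g⁻¹ = k * y⁻¹ := by rw [hkdef]; group
  have h2 : w * (g * l * g⁻¹) * w⁻¹ = g * l * g⁻¹ := by
    have h3 := comm_of_mem hl hwg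
    calc w * (g * l * g⁻¹) * w⁻¹ = g * ((g⁻¹ * w * g) * l) * g⁻¹ * w⁻¹ := by group
      _ = g * (l * (g⁻¹ * w * g)) * g⁻¹ * w⁻¹ := by rw [h3]
      _ = g * l * g⁻¹ := by group
  rw [e1] at h2
  have h3 : k⁻¹ * (w * k * w⁻¹) = y⁻¹ * (w * y * w⁻¹) := by
    have h4 : (w * k * w⁻¹) * (w * y * w⁻¹)⁻¹ = k * y⁻¹ := by
      calc (w * k * w⁻¹) * (w * y * w⁻¹)⁻¹ = w * (k * y⁻¹) * w⁻¹ := by group
        _ = k * y⁻¹ := h2
    calc k⁻¹ * (w * k * w⁻¹) = k⁻¹ * ((w * k * w⁻¹) * (w * y * w⁻¹)⁻¹) * (w * y * w⁻¹) := by group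
      _ = k⁻¹ * (k * y⁻¹) * (w * y * w⁻¹) := by rw [h4]
      _ = _ := by group
  have h5 := disj_of simp nab (mul_mem (inv_mem hy) (L_conj hw hy))
    (h3 ▸ mul_mem (inv_mem hk) (K_conj hw hk))
  have h6 : w * y * w⁻¹ = y := (inv_mul_eq_one.mp h5).symm
  calc y * w = w * y * w⁻¹ * w := by rw [h6]
    _ = w * y := by group

/-- a conjugate of `L` normalizing a set of at most three elements centralizes it -/
theorem centr [Finite G] (big : 27 < Nat.card L) (A : Finset G) (hA : A.card ≤ 3) {g : G}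
    (h : ∀ l ∈ L, ∀ b ∈ A, (g * l * g⁻¹) * b * (g * l * g⁻¹)⁻¹ ∈ A) {l b : G} (hl : l ∈ L)
    (hb : b ∈ A) : (g * l * g⁻¹) * b = b * (g * l * g⁻¹) := by
  classical
  let N : Subgroup G :=
    { carrier := {n | n ∈ L ∧ ∀ b ∈ A, (g * n * g⁻¹) * b = b * (g * n * g⁻¹)}
      mul_mem' := by
        rintro y z ⟨hy, hy'⟩ ⟨hz, hz'⟩
        refine ⟨mul_mem hy hz, fun b hb => ?_⟩
        rw [cj_mul, mul_assoc, hz' b hb, ← mul_assoc, hy' b hb, mul_assoc]
      one_mem' := ⟨one_mem _, fun b _ => by simp⟩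
      inv_mem' := by
        rintro y ⟨hy, hy'⟩
        refine ⟨inv_mem hy, fun b hb => ?_⟩
        have h1 := hy' b hb
        have e : g * y⁻¹ * g⁻¹ = (g * y * g⁻¹)⁻¹ := by group
        rw [e]
        calc (g * y * g⁻¹)⁻¹ * b = (g * y * g⁻¹)⁻¹ * (b * (g * y * g⁻¹)) * (g * y * g⁻¹)⁻¹ := by group
          _ = (g * y * g⁻¹)⁻¹ * ((g * y * g⁻¹) * b) * (g * y * g⁻¹)⁻¹ := by rw [h1]
          _ = b * (g * y * g⁻¹)⁻¹ := by group }
  have hmem : ∀ n, n ∈ N ↔ n ∈ L ∧ ∀ b ∈ A, (g * n * g⁻¹) * b = b * (g * n * g⁻¹) := fun n => Iff.rfl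
  rcases simp N (fun n hn => ((hmem n).mp hn).1) (by
    intro l hl n hn
    obtain ⟨hn1, hn2⟩ := (hmem n).mp hn
    refine (hmem _).mpr ⟨mul_mem (mul_mem hl hn1) (inv_mem hl), fun b hb => ?_⟩
    have h1 := h l⁻¹ (inv_mem hl) b hb
    have h2 := hn2 _ h1
    obtain ⟨c, hc⟩ : ∃ c, c = g * l * g⁻¹ := ⟨_, rfl⟩
    obtain ⟨m, hm⟩ : ∃ m, m = g * n * g⁻¹ := ⟨_, rfl⟩
    have e1 : g * l⁻¹ * g⁻¹ = c⁻¹ := by rw [hc]; group
    have e2 : g * (l * n * l⁻¹) * g⁻¹ = c * m * c⁻¹ := by rw [hc, hm]; group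
    rw [e1, ← hm, inv_inv] at h2
    rw [e2]
    calc c * m * c⁻¹ * b = c * (m * (c⁻¹ * b * c)) * c⁻¹ := by group
      _ = c * (c⁻¹ * b * c * m) * c⁻¹ := by rw [h2]
      _ = b * (c * m * c⁻¹) := by group) with h1 | h1
  · exfalso
    have hinj : Function.Injective (fun l : L => (fun b : A =>
        (⟨(g * l * g⁻¹) * b * (g * l * g⁻¹)⁻¹, h l l.2 b b.2⟩ : A))) := by
      intro y z hyz
      have h2 : ((z : G)⁻¹ * (y : G)) ∈ N := by
        refine (hmem _).mpr ⟨mul_mem (inv_mem z.2) y.2, fun b hb => ?_⟩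
        have h3 := congrArg Subtype.val (congrFun hyz ⟨b, hb⟩)
        have h4 : (g * (y : G) * g⁻¹) * b * (g * (y : G) * g⁻¹)⁻¹ =
          (g * (z : G) * g⁻¹) * b * (g * (z : G) * g⁻¹)⁻¹ := h3
        obtain ⟨c, hc⟩ : ∃ c, c = g * (y : G) * g⁻¹ := ⟨_, rfl⟩
        obtain ⟨d, hd⟩ : ∃ d, d = g * (z : G) * g⁻¹ := ⟨_, rfl⟩
        rw [← hc, ← hd] at h4
        have e2 : g * ((z : G)⁻¹ * (y : G)) * g⁻¹ = d⁻¹ * c := by rw [hc, hd]; group
        rw [e2]
        calc d⁻¹ * c * b = d⁻¹ * (c * b * c⁻¹) * c := by group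
          _ = d⁻¹ * (d * b * d⁻¹) * c := by rw [h4]
          _ = b * (d⁻¹ * c) := by group
      rw [h1, mem_bot] at h2
      exact Subtype.ext (inv_mul_eq_one.mp h2).symm
    have hc := Nat.card_le_card_of_injective _ hinj
    have hc2 : Nat.card (A → A) ≤ 27 := by
      rw [Nat.card_eq_fintype_card, Fintype.card_fun, Fintype.card_coe]
      calc A.card ^ A.card ≤ 3 ^ A.card := Nat.pow_le_pow_left hA _
        _ ≤ 3 ^ 3 := Nat.pow_le_pow_right (by norm_num) hA
        _ = 27 := by norm_num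
    omega
  · have : l ∈ N := h1.symm ▸ hl
    exact ((hmem l).mp this).2 b hb

end simple

end Cfsg.Agent.UGT.FourA.Basic
end

-- part: UGT/Blk/FusHalf
section
prune_inst 0x4502001205722120000180592310020547400049200630001f9400f06024e9761a04327017ce01f10091aaa60200a0040021000d900100000200006004000012080aa72c49348b10427000fc0f807180c00000000000000000000000000041004000000000
set_option linter.all false
open scoped Cfsg.Agent.FastGrp

/-!
# Permuted commuting parts, weak form: essential subgroups normalise the set of parts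

The same as `Cfsg.Agent.OddHalf.D3.Fus`, with the fusion hypothesis `sc` only for the subsets `J` of `𝓛` with
`2 |J| ≤ |𝓛|`.

`Frame.normalizer_le`: `N_G(X) ≤ H` for every essential subgroup `X` of `S`.
-/

set_option autoImplicit false
set_option linter.style.haveILetI false

namespace Cfsg.Agent.UGT.Blk.FusHalf

open Subgroup Cfsg.Agent.Lib.GoldschmidtFusion Cfsg.Agent.ClassTwoFusion.Ess
open Cfsg.Agent.OddHalf.D3.EssSE
open Cfsg.Agent.OddHalf.D3.Fus (Half exists_half exists_fix orderOf_eq_two_of_sq sq_of_orderOf ne_one_of_orderOf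
  exists_of_mem_sup conj_mem_sSup)

variable {G : Type*} [Group G]

/-! ### The frame -/

/-- commuting parts permuted by `S` -/
structure Frame (S : Subgroup G) (H : Subgroup G) (𝓛 : Set (Subgroup G)) : Prop where
  le : ∀ A ∈ 𝓛, A ≤ S
  comm : ∀ A ∈ 𝓛, ∀ B ∈ 𝓛, A ≠ B → ∀ a ∈ A, ∀ b ∈ B, a * b = b * a
  perm : ∀ s ∈ S, ∀ A ∈ 𝓛, A.map (MulAut.conj s).toMonoidHom ∈ 𝓛
  ne : ∀ A ∈ 𝓛, A ≠ ⊥
  rich : ∀ A ∈ 𝓛, ∀ x ∈ A, orderOf x = 2 → ∃ y ∈ A, orderOf y = 2 ∧ y ≠ x ∧ x * y = y * x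
  two : ∃ A ∈ 𝓛, ∃ B ∈ 𝓛, A ≠ B
  sc : ∀ J : Set (Subgroup G), J ⊆ 𝓛 → 2 * J.ncard ≤ 𝓛.ncard → ∀ u ∈ sSup J, orderOf u = 2 →
    ∀ g : G, g * u * g⁻¹ ∈ S → g ∈ H

namespace Frame

variable {S H : Subgroup G} {𝓛 : Set (Subgroup G)} (h : Frame S H 𝓛)
include h

theorem sSup_le {J : Set (Subgroup G)} (hJ : J ⊆ 𝓛) : sSup J ≤ S :=
  _root_.sSup_le fun A hA => h.le A (hJ hA)

/-- products of disjoint sets of parts commute -/
theorem sSup_comm {J J' : Set (Subgroup G)} (hJ : J ⊆ 𝓛) (hJ' : J' ⊆ 𝓛) (hd : ∀ A ∈ J, A ∉ J') {a b : G}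
    (ha : a ∈ sSup J) (hb : b ∈ sSup J') : a * b = b * a := by
  have h1 : sSup J ≤ centralizer ((sSup J' : Subgroup G) : Set G) := by
    refine _root_.sSup_le fun A hA => ?_
    rw [le_centralizer_iff]
    refine _root_.sSup_le fun B hB => ?_
    intro y hy
    rw [mem_centralizer_iff]
    intro x hx
    exact h.comm A (hJ hA) B (hJ' hB) (fun e => hd A hA (e ▸ hB)) x hx y hy
  exact ((mem_centralizer_iff.1 (h1 ha)) b hb).symm

end Frame

/-! ### The main theorem -/

/-- an essential subgroup whose normaliser is not in `H` -/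
structure Bad (S : Sylow 2 G) (H : Subgroup G) (X : Subgroup G) : Prop where
  ess : IsEss 2 (S : Subgroup G) X
  not_le : ¬ normalizer (X : Set G) ≤ H

namespace Bad

variable [Finite G] {S : Sylow 2 G} {H X : Subgroup G} {𝓛 : Set (Subgroup G)}
  (h : Frame (S : Subgroup G) H 𝓛) (hB : Bad S H X)
include h hB

omit [Finite G] in
/-- `X` contains no involution of a proper product of parts -/
theorem notMem_of_two {J : Set (Subgroup G)} (hJ : J ⊆ 𝓛) (hJ' : 2 * J.ncard ≤ 𝓛.ncard) {u : G} (hu : u ∈ sSup J)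
    (ou : orderOf u = 2) : u ∉ X := by
  intro huX
  apply hB.not_le
  intro g hg
  exact h.sc J hJ hJ' u hu ou g (hB.ess.lt.le ((mem_normalizer_iff.1 hg u).1 huX))

omit [Finite G] in
/-- `X` meets the proper products of parts trivially -/
theorem eq_one {J : Set (Subgroup G)} (hJ : J ⊆ 𝓛) (hJ' : 2 * J.ncard ≤ 𝓛.ncard) {u : G} (hu : u ∈ sSup J)
    (huX : u ∈ X) : u = 1 := by
  haveI : Fact (Nat.Prime 2) := ⟨Nat.prime_two⟩
  by_contra hne
  have hSp : IsPGroup 2 (S : Subgroup G) := S.isPGroup'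
  obtain ⟨k, hk⟩ := hSp ⟨u, hB.ess.lt.le huX⟩
  have hk' : u ^ 2 ^ k = 1 := congrArg Subtype.val hk
  have h1 : ∃ j, u ^ 2 ^ j ≠ 1 ∧ u ^ 2 ^ (j + 1) = 1 := by
    by_contra hcon
    push Not at hcon
    have : ∀ j, u ^ 2 ^ j ≠ 1 := by
      intro j
      induction j with
      | zero => simpa using hne
      | succ j ih => exact hcon j ih
    exact this k hk'
  obtain ⟨j, hj1, hj2⟩ := h1
  refine notMem_of_two h hB hJ hJ' (u := u ^ 2 ^ j) (pow_mem hu _) (orderOf_eq_two_of_sq ?_ hj1) (pow_mem huX _)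
  rw [← pow_add, ← two_mul, ← pow_succ']
  exact hj2

omit h [Finite G] in
theorem mem_of_comm {c : G} (hc : c ∈ S) (hcX : ∀ x ∈ X, x * c = c * x) : c ∈ X :=
  hB.ess.centric ⟨mem_centralizer_iff.2 fun x hx => hcX x hx, hc⟩

theorem transitive {A B : Subgroup G} (hA : A ∈ 𝓛) (hBB : B ∈ 𝓛) :
    ∃ x ∈ X, B = A.map (MulAut.conj x).toMonoidHom := by
  set J : Set (Subgroup G) := {B | ∃ x ∈ X, B = A.map (MulAut.conj x).toMonoidHom} with hJd
  have hXS : X ≤ S := hB.ess.lt.le
  have hJ : J ⊆ 𝓛 := by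
    rintro _ ⟨x, hx, rfl⟩
    exact h.perm x (hXS hx) A hA
  by_cases hJ' : J = 𝓛
  · have : B ∈ J := by rw [hJ']; exact hBB
    exact this
  · exfalso
    have hAJ : A ∈ J := ⟨1, one_mem _, (map_conj_one A).symm⟩
    -- an invariant nonempty set with at most half of the members
    have key : ∀ J₁ : Set (Subgroup G), J₁ ⊆ 𝓛 → (∃ C, C ∈ J₁) → 2 * J₁.ncard ≤ 𝓛.ncard →
        (∀ x ∈ X, ∀ C ∈ J₁, C.map (MulAut.conj x).toMonoidHom ∈ J₁) → False := by
      rintro J₁ hJ₁ ⟨C, hC⟩ hsm hinv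
      obtain ⟨e, he, oe, hec⟩ := exists_fix (S := (S : Subgroup G)) (X := X) (D := sSup J₁) S.isPGroup' hXS
        (h.sSup_le hJ₁) (fun hb => h.ne C (hJ₁ hC) (by rw [eq_bot_iff, ← hb]; exact le_sSup hC)) (by
          intro x hx d hd
          exact conj_mem_sSup (hinv x hx) hd)
      exact notMem_of_two h hB hJ₁ hsm he oe (mem_of_comm hB (h.sSup_le hJ₁ he) hec)
    have hJinv : ∀ x ∈ X, ∀ C ∈ J, C.map (MulAut.conj x).toMonoidHom ∈ J := by
      rintro x hx _ ⟨x', hx', rfl⟩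
      exact ⟨x * x', mul_mem hx hx', by rw [map_conj_map_conj]⟩
    rcases Nat.lt_or_ge 𝓛.ncard (2 * J.ncard) with hlt | hge
    · refine key (𝓛 \ J) Set.diff_subset ?_ ?_ ?_
      · by_contra hcon
        push Not at hcon
        apply hJ'
        refine Set.Subset.antisymm hJ fun C hC => ?_
        by_contra hCJ
        exact hcon C ⟨hC, hCJ⟩
      · have h1 := Set.ncard_diff_add_ncard_of_subset hJ (Set.toFinite 𝓛)
        omega
      · rintro x hx C ⟨hC, hCJ⟩
        refine ⟨h.perm x (hXS hx) C hC, fun h1 => hCJ ?_⟩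
        have h2 := hJinv x⁻¹ (inv_mem hx) _ h1
        rwa [map_conj_map_conj, inv_mul_cancel, map_conj_one] at h2
    · exact key J hJ ⟨A, hAJ⟩ hge hJinv

/-- the stabiliser of a part is proper -/
theorem stab_lt {A : Subgroup G} (hA : A ∈ 𝓛) : X ⊓ normalizer (A : Set G) < X := by
  refine lt_of_le_of_ne inf_le_left fun h1 => ?_
  have h2 : X ≤ normalizer (A : Set G) := by rw [← h1]; exact inf_le_right
  obtain ⟨C, hC, D, hD, hCD⟩ := h.two
  apply hCD
  have key : ∀ C ∈ 𝓛, C = A := by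
    intro C hC
    obtain ⟨x, hx, hx'⟩ := transitive h hB hA hC
    rw [hx', mem_normalizer_iff_map_conj.1 (h2 hx)]
  rw [key C hC, key D hD]

/-- the transvection of an involution `e` centralising the half `M` of `X` -/
theorem tr_of {A M : Subgroup G} (hA : A ∈ 𝓛) (hM : Half X M) (hAM : X ⊓ normalizer (A : Set G) ≤ M) {e : G}
    (he : e ∈ sSup {B : Subgroup G | ∃ x ∈ M, B = A.map (MulAut.conj x).toMonoidHom}) (oe : orderOf e = 2)
    (hec : ∀ x ∈ M, x * e = e * x) {y : G} (hy : y ∈ X) (hyM : y ∉ M) :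
    Tr (S : Subgroup G) X e (e * (y * e * y⁻¹)) ∧ e * (y * e * y⁻¹) = y * e * y⁻¹ * e := by
  set J : Set (Subgroup G) := {B | ∃ x ∈ M, B = A.map (MulAut.conj x).toMonoidHom} with hJd
  set J' : Set (Subgroup G) := {B | ∃ x ∈ M, B = A.map (MulAut.conj (y * x)).toMonoidHom} with hJ'd
  have hXS : X ≤ S := hB.ess.lt.le
  have hJ : J ⊆ 𝓛 := by
    rintro _ ⟨x, hx, rfl⟩
    exact h.perm x (hXS (hM.le hx)) A hA
  have hJ'𝓛 : J' ⊆ 𝓛 := by
    rintro _ ⟨x, hx, rfl⟩
    exact h.perm _ (hXS (mul_mem hy (hM.le hx))) A hA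
  have hdis : ∀ B ∈ J, B ∉ J' := by
    rintro _ ⟨x, hx, rfl⟩ ⟨x', hx', hxx⟩
    apply hyM
    have h1 : x⁻¹ * (y * x') ∈ normalizer (A : Set G) := by
      rw [mem_normalizer_iff_map_conj, ← map_conj_map_conj, ← hxx, map_conj_map_conj, inv_mul_cancel, map_conj_one]
    have h2 : x⁻¹ * (y * x') ∈ M :=
      hAM (mem_inf.2 ⟨X.mul_mem (X.inv_mem (hM.le hx)) (X.mul_mem hy (hM.le hx')), h1⟩)
    have h3 : y = x * (x⁻¹ * (y * x')) * x'⁻¹ := by group
    rw [h3]
    exact M.mul_mem (M.mul_mem hx h2) (M.inv_mem hx')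
  have hAJ : A ∈ J := ⟨1, one_mem _, (map_conj_one A).symm⟩
  have hJne : 2 * J.ncard ≤ 𝓛.ncard := by
    have h1 : J.ncard ≤ J'.ncard := by
      refine Set.ncard_le_ncard_of_injOn (fun B => B.map (MulAut.conj y).toMonoidHom) ?_ ?_ (Set.toFinite _)
      · rintro _ ⟨x, hx, rfl⟩
        exact ⟨x, hx, by rw [map_conj_map_conj]⟩
      · intro B _ C _ hBC
        exact Subgroup.map_injective (MulAut.conj y).injective hBC
    have h2 : Disjoint J J' := Set.disjoint_left.2 hdis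
    have h3 := Set.ncard_union_eq h2 (Set.toFinite _) (Set.toFinite _)
    have h4 := Set.ncard_le_ncard (Set.union_subset hJ hJ'𝓛) (Set.toFinite _)
    omega
  have heS : e ∈ (S : Subgroup G) := h.sSup_le hJ he
  have heX : e ∉ X := notMem_of_two h hB hJ hJne he oe
  have he2 := sq_of_orderOf oe
  have heinv : e⁻¹ = e := inv_eq_of_mul_eq_one_left he2
  set e' : G := y * e * y⁻¹ with he'
  have he'J : e' ∈ sSup J' := by
    refine conj_mem_sSup ?_ he
    rintro _ ⟨x, hx, rfl⟩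
    exact ⟨x, hx, by rw [map_conj_map_conj]⟩
  have hcom : e * e' = e' * e := h.sSup_comm hJ hJ'𝓛 hdis he he'J
  have he'2 : e' * e' = 1 := by
    calc e' * e' = y * (e * e) * y⁻¹ := by rw [he']; group
      _ = 1 := by rw [he2]; group
  have he'S : e' ∈ (S : Subgroup G) := mul_mem (mul_mem (hXS hy) heS) (inv_mem (hXS hy))
  -- `d` commutes with `M`
  have hdM : ∀ x ∈ M, x * (e * e') = e * e' * x := by
    intro x hx
    have h1 := hec x hx
    have h2 := hec _ (hM.conj' hy hx)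
    have h3 : x * e' = e' * x := by
      calc x * e' = y * ((y⁻¹ * x * y) * e) * y⁻¹ := by rw [he']; group
        _ = y * (e * (y⁻¹ * x * y)) * y⁻¹ := by rw [h2]
        _ = e' * x := by rw [he']; group
    calc x * (e * e') = (x * e) * e' := by group
      _ = e * (x * e') := by rw [h1]; group
      _ = e * e' * x := by rw [h3]; group
  have hyy : y * y ∈ M := hM.sq hy
  have hdy : y * (e * e') = e * e' * y := by
    have h1 := hec _ hyy
    have h2 : y * e' = e * y := by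
      calc y * e' = ((y * y) * e) * y⁻¹ := by rw [he']; group
        _ = (e * (y * y)) * y⁻¹ := by rw [h1]
        _ = e * y := by group
    calc y * (e * e') = (y * e * y⁻¹) * (y * e') := by group
      _ = e' * (e * y) := by rw [h2, he']
      _ = (e * e') * y := by rw [hcom]; group
  have hdX : ∀ x ∈ X, x * (e * e') = e * e' * x := by
    intro x hx
    by_cases hxM : x ∈ M
    · exact hdM x hxM
    · obtain ⟨m, hm, rfl⟩ := hM.exists_eq hx hxM hy hyM
      calc y * m * (e * e') = y * (m * (e * e')) := by group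
        _ = (y * (e * e')) * m := by rw [hdM m hm]; group
        _ = e * e' * (y * m) := by rw [hdy]; group
  refine ⟨⟨heS, heX, mem_of_comm hB (mul_mem heS he'S) hdX, ?_, fun x hx => (hdX x hx).symm, ?_, ?_⟩, hcom⟩
  · calc e * e' * (e * e') = e * (e' * e) * e' := by group
      _ = (e * e) * (e' * e') := by rw [← hcom]; group
      _ = 1 := by rw [he2, he'2, one_mul]
  · calc e * (e * e') = e * (e' * e) := by rw [hcom]
      _ = e * e' * e := by group
  · intro x hx
    by_cases hxM : x ∈ M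
    · left
      rw [← hec x hxM, mul_inv_cancel_right]
    · right
      obtain ⟨m, hm, rfl⟩ := hM.exists_eq hx hxM hy hyM
      calc e * (y * m) * e⁻¹ = e * y * (m * e) := by rw [heinv]; group
        _ = e * y * (e * m) := by rw [hec m hm]
        _ = e * e' * (y * m) := by rw [he']; group

/-- **Essential subgroups normalise the set of parts.** -/
theorem false : False := by
  haveI : Fact (Nat.Prime 2) := ⟨Nat.prime_two⟩
  have hXS : X ≤ S := hB.ess.lt.le
  have hSp : IsPGroup 2 (S : Subgroup G) := S.isPGroup'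
  have hXp : IsPGroup 2 X := hSp.to_le hXS
  obtain ⟨A, hA, -⟩ := h.two
  obtain ⟨m, hm, hmM⟩ := SetLike.not_le_iff_exists.1 hB.ess.ess
  have hmi : m⁻¹ ∈ normalizer (X : Set G) := inv_mem hm
  have hmiM : m⁻¹ ∉ starSub (S : Subgroup G) X := fun h1 => hmM (inv_mem_iff.1 h1)
  -- involutions of half products
  have exE : ∀ M : Subgroup G, Half X M → X ⊓ normalizer (A : Set G) ≤ M →
      ∃ e ∈ sSup {B : Subgroup G | ∃ x ∈ M, B = A.map (MulAut.conj x).toMonoidHom}, orderOf e = 2 ∧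
        ∀ x ∈ M, x * e = e * x := by
    intro M hM hAM
    have hJ : {B : Subgroup G | ∃ x ∈ M, B = A.map (MulAut.conj x).toMonoidHom} ⊆ 𝓛 := by
      rintro _ ⟨x, hx, rfl⟩
      exact h.perm x (hXS (hM.le hx)) A hA
    refine exists_fix (S := (S : Subgroup G)) (X := M) hSp (hM.le.trans hXS) (h.sSup_le hJ) ?_ ?_
    · intro hb
      refine h.ne A hA ?_
      rw [eq_bot_iff, ← hb]
      exact le_sSup ⟨1, one_mem _, (map_conj_one A).symm⟩
    · intro x hx d hd
      refine conj_mem_sSup ?_ hd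
      rintro _ ⟨x', hx', rfl⟩
      exact ⟨x * x', mul_mem hx hx', by rw [map_conj_map_conj]⟩
  obtain ⟨M, hM, hAM⟩ := exists_half hXp (stab_lt h hB hA)
  obtain ⟨e, he, oe, hec⟩ := exE M hM hAM
  obtain ⟨y0, hy0, hy0M⟩ := hM.ex
  obtain ⟨htr, -⟩ := tr_of h hB hA hM hAM he oe hec hy0 hy0M
  set d : G := e * (y0 * e * y0⁻¹) with hd
  set y : G := m * d * m⁻¹ with hy
  have hyX : y ∈ X := (mem_normalizer_iff.1 hm d).1 htr.dmem
  have hyc : ∀ x ∈ X, y * x = x * y := by
    intro x hx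
    have h1 := htr.cen _ ((mem_normalizer_iff''.1 hm x).1 hx)
    have h2 := congrArg (fun t => m * t * m⁻¹) h1
    have e1 : m * (d * (m⁻¹ * x * m)) * m⁻¹ = y * x := by rw [hy]; group
    have e2 : m * (m⁻¹ * x * m * d) * m⁻¹ = x * y := by rw [hy]; group
    simpa only [e1, e2] using h2
  have hy2 : y * y = 1 := by
    have e1 : y * y = m * (d * d) * m⁻¹ := by rw [hy]; group
    rw [e1, htr.sq]; group
  have hyM : y ∉ M := fun h1 => hmM (Tr.mem_star hB.ess htr htr hm (hec y h1).symm)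
  -- `M` normalises `A`
  have hMA : M ≤ normalizer (A : Set G) := by
    by_cases hcase : (X ⊓ normalizer (A : Set G)) ⊔ zpowers y = X
    · intro x hx
      have hxX : x ∈ (X ⊓ normalizer (A : Set G)) ⊔ zpowers y := by rw [hcase]; exact hM.le hx
      obtain ⟨a, ha, hxa⟩ := exists_of_mem_sup (D := X ⊓ normalizer (A : Set G))
        (fun z hz => hyc z (mem_inf.1 hz).1) hy2 hxX
      rcases hxa with rfl | rfl
      · exact ha.2
      · exfalso
        apply hyM
        have e1 : y = a⁻¹ * (a * y) := by group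
        rw [e1]
        exact mul_mem (inv_mem (hAM ha)) hx
    · exfalso
      have hlt : (X ⊓ normalizer (A : Set G)) ⊔ zpowers y < X :=
        lt_of_le_of_ne (sup_le inf_le_left (by rw [zpowers_le]; exact hyX)) hcase
      obtain ⟨M2, hM2, hDM2⟩ := exists_half hXp hlt
      have hAM2 : X ⊓ normalizer (A : Set G) ≤ M2 := le_sup_left.trans hDM2
      have hyM2 : y ∈ M2 := hDM2 (mem_sup_right (mem_zpowers y))
      obtain ⟨e2, he2, oe2, hec2⟩ := exE M2 hM2 hAM2
      obtain ⟨y2, hy2', hy2M⟩ := hM2.ex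
      obtain ⟨htr2, -⟩ := tr_of h hB hA hM2 hAM2 he2 oe2 hec2 hy2' hy2M
      exact hmM (Tr.mem_star hB.ess htr htr2 hm (hec2 y hyM2).symm)
  -- the two parts commute
  have hAJ : A ∈ {B : Subgroup G | ∃ x ∈ M, B = A.map (MulAut.conj x).toMonoidHom} :=
    ⟨1, one_mem _, (map_conj_one A).symm⟩
  have hAle : A ≤ sSup {B : Subgroup G | ∃ x ∈ M, B = A.map (MulAut.conj x).toMonoidHom} := le_sSup hAJ
  have heA : e ∈ A := by
    have h1 : sSup {B : Subgroup G | ∃ x ∈ M, B = A.map (MulAut.conj x).toMonoidHom} ≤ A := by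
      refine _root_.sSup_le ?_
      rintro _ ⟨x, hx, rfl⟩
      rw [mem_normalizer_iff_map_conj.1 (hMA hx)]
    exact h1 he
  have hyN : y ∉ normalizer (A : Set G) := fun h1 => hyM (hAM (mem_inf.2 ⟨hyX, h1⟩))
  have hA' : A.map (MulAut.conj y).toMonoidHom ≠ A := fun h1 => hyN (mem_normalizer_iff_map_conj.2 h1)
  have hAA : ∀ a ∈ A, ∀ b ∈ A, a * (y * b * y⁻¹) = y * b * y⁻¹ * a := fun a ha b hb =>
    h.comm A hA _ (h.perm y (hXS hyX) A hA) (Ne.symm hA') a ha _ (conj_mem_map_conj hb y)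
  have hAS : A ≤ S := h.le A hA
  have hAX : ∀ a ∈ A, a ∈ X → a = 1 := by
    intro a ha haX
    refine eq_one h hB (J := {A}) (by simpa using hA) ?_ (by simpa using ha) haX
    have h1 : ({A, A.map (MulAut.conj y).toMonoidHom} : Set (Subgroup G)) ⊆ 𝓛 := by
      rintro C (rfl | rfl)
      · exact hA
      · exact h.perm y (hXS hyX) A hA
    have h2 := Set.ncard_le_ncard h1 (Set.toFinite _)
    rw [Set.ncard_pair (Ne.symm hA')] at h2
    rw [Set.ncard_singleton]
    omega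
  have hde : d = e * (y * e * y⁻¹) := by
    obtain ⟨a, ha, haa⟩ := hM.exists_eq hy0 hy0M hyX hyM
    have h1 := hec a ha
    calc d = e * (y * (a * e) * a⁻¹ * y⁻¹) := by rw [hd, haa]; group
      _ = e * (y * (e * a) * a⁻¹ * y⁻¹) := by rw [h1]
      _ = e * (y * e * y⁻¹) := by group
  have fact5 : ∀ e' ∈ A, orderOf e' = 2 → (∀ x ∈ M, x * e' = e' * x) →
      m⁻¹ * (e' * (y * e' * y⁻¹)) * m ∉ M := by
    intro e' he' oe' hec' h1
    obtain ⟨htr', -⟩ := tr_of h hB hA hM hAM (hAle he') oe' hec' hyX hyM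
    refine hmiM (Tr.mem_star hB.ess htr' htr hmi ?_)
    rw [inv_inv]
    exact (hec _ h1).symm
  have hmX' : ∀ x ∈ X, m⁻¹ * x * m ∈ X := fun x hx => (mem_normalizer_iff''.1 hm x).1 hx
  have hdX : ∀ e' ∈ A, orderOf e' = 2 → (∀ x ∈ M, x * e' = e' * x) → e' * (y * e' * y⁻¹) ∈ X := by
    intro e' he' oe' hec'
    exact (tr_of h hB hA hM hAM (hAle he') oe' hec' hyX hyM).1.dmem
  have noFour : ∀ e1 ∈ A, ∀ e2 ∈ A, orderOf e1 = 2 → orderOf e2 = 2 → (∀ x ∈ M, x * e1 = e1 * x) →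
      (∀ x ∈ M, x * e2 = e2 * x) → e1 ≠ e2 → e1 * e2 = e2 * e1 → False := by
    intro e1 h1 e2 h2 o1 o2 c1 c2 hne hcom
    have hs1 := sq_of_orderOf o1
    have hs2 := sq_of_orderOf o2
    have o12 : orderOf (e1 * e2) = 2 := by
      refine orderOf_eq_two_of_sq ?_ ?_
      · calc e1 * e2 * (e1 * e2) = e1 * (e2 * e1) * e2 := by group
          _ = (e1 * e1) * (e2 * e2) := by rw [← hcom]; group
          _ = 1 := by rw [hs1, hs2, one_mul]
      · intro h3
        apply hne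
        have h4 : e2⁻¹ = e2 := inv_eq_of_mul_eq_one_left hs2
        rw [← h4]
        exact eq_inv_of_mul_eq_one_left h3
    have c12 : ∀ x ∈ M, x * (e1 * e2) = e1 * e2 * x := by
      intro x hx
      calc x * (e1 * e2) = (x * e1) * e2 := by group
        _ = e1 * (x * e2) := by rw [c1 x hx]; group
        _ = e1 * e2 * x := by rw [c2 x hx]; group
    refine fact5 (e1 * e2) (mul_mem h1 h2) o12 c12 ?_
    have e3 : m⁻¹ * (e1 * e2 * (y * (e1 * e2) * y⁻¹)) * m =
        (m⁻¹ * (e1 * (y * e1 * y⁻¹)) * m) * (m⁻¹ * (e2 * (y * e2 * y⁻¹)) * m) := by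
      calc m⁻¹ * (e1 * e2 * (y * (e1 * e2) * y⁻¹)) * m
          = m⁻¹ * (e1 * (e2 * (y * e1 * y⁻¹)) * (y * e2 * y⁻¹)) * m := by group
        _ = m⁻¹ * (e1 * (y * e1 * y⁻¹ * e2) * (y * e2 * y⁻¹)) * m := by rw [hAA e2 h2 e1 h1]
        _ = _ := by group
    rw [e3]
    exact hM.mul _ (hmX' _ (hdX e1 h1 o1 c1)) _ (hmX' _ (hdX e2 h2 o2 c2)) (fact5 e1 h1 o1 c1)
      (fact5 e2 h2 o2 c2)
  have expTwo : ∀ b ∈ A, (∀ x ∈ M, x * b = b * x) → b * b = 1 := by
    intro b hb hbc
    by_contra hne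
    obtain ⟨k, hk⟩ := hSp ⟨b, hAS hb⟩
    have hk' : b ^ 2 ^ k = 1 := congrArg Subtype.val hk
    have h1 : ∃ j, b ^ 2 ^ (j + 1) ≠ 1 ∧ b ^ 2 ^ (j + 2) = 1 := by
      by_contra hcon
      push Not at hcon
      have h2 : ∀ j, b ^ 2 ^ (j + 1) ≠ 1 := by
        intro j
        induction j with
        | zero => simpa [pow_two] using hne
        | succ j ih => exact hcon j ih
      apply h2 k
      rw [pow_succ, pow_mul, hk', one_pow]
    obtain ⟨j, hj1, hj2⟩ := h1
    set b' : G := b ^ 2 ^ j with hb'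
    have hb'A : b' ∈ A := pow_mem hb _
    have hb'2 : b' * b' = b ^ 2 ^ (j + 1) := by
      rw [hb', ← pow_add, ← two_mul, ← pow_succ']
    have hb'4 : (b' * b') * (b' * b') = 1 := by
      rw [hb'2, ← pow_add, ← two_mul, ← pow_succ']; exact hj2
    have hb'c : ∀ x ∈ M, x * b' = b' * x := by
      intro x hx
      exact ((show Commute x b from hbc x hx).pow_right _).eq
    have hb'bA : b' * b' ∈ A := mul_mem hb'A hb'A
    have hb'bc : ∀ x ∈ M, x * (b' * b') = b' * b' * x := by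
      intro x hx
      exact ((show Commute x b' from hb'c x hx).mul_right (hb'c x hx)).eq
    have hob : orderOf (b' * b') = 2 := orderOf_eq_two_of_sq hb'4 (by rw [hb'2]; exact hj1)
    set z : G := b' * (y * b' * y⁻¹) with hz
    have hzX : z ∈ X := by
      refine mem_of_comm hB (mul_mem (hAS hb'A) (mul_mem (mul_mem (hXS hyX) (hAS hb'A)) (inv_mem (hXS hyX)))) ?_
      have hzM : ∀ x ∈ M, x * z = z * x := by
        intro x hx
        have h3 := hb'c x hx
        have h4 := hyc x (hM.le hx)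
        have h5 : x * (y * b' * y⁻¹) = y * b' * y⁻¹ * x := by
          calc x * (y * b' * y⁻¹) = (x * y) * b' * y⁻¹ := by group
            _ = y * (x * b') * y⁻¹ := by rw [← h4]; group
            _ = y * b' * (x * y⁻¹) := by rw [h3]; group
            _ = y * b' * (y⁻¹ * (y * x) * y⁻¹) := by group
            _ = y * b' * (y⁻¹ * (x * y) * y⁻¹) := by rw [h4]
            _ = y * b' * y⁻¹ * x := by group
        calc x * z = (x * b') * (y * b' * y⁻¹) := by rw [hz]; group
          _ = b' * (x * (y * b' * y⁻¹)) := by rw [h3]; group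
          _ = z * x := by rw [h5, hz]; group
      have hyi : y⁻¹ = y := inv_eq_of_mul_eq_one_left hy2
      have hzy : y * z = z * y := by
        have h6 := hAA b' hb'A b' hb'A
        calc y * z = (y * b' * y⁻¹) * (y * y) * b' * y⁻¹ := by rw [hz]; group
          _ = (y * b' * y⁻¹ * b') * y⁻¹ := by rw [hy2]; group
          _ = (b' * (y * b' * y⁻¹)) * y⁻¹ := by rw [← h6]
          _ = z * y := by rw [hz, hyi]
      intro x hx
      by_cases hxM : x ∈ M
      · exact hzM x hxM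
      · obtain ⟨a, ha, rfl⟩ := hM.exists_eq hx hxM hyX hyM
        calc y * a * z = y * (a * z) := by group
          _ = (y * z) * a := by rw [hzM a ha]; group
          _ = z * (y * a) := by rw [hzy]; group
    refine fact5 (b' * b') hb'bA hob hb'bc ?_
    have e3 : m⁻¹ * (b' * b' * (y * (b' * b') * y⁻¹)) * m = (m⁻¹ * z * m) * (m⁻¹ * z * m) := by
      calc m⁻¹ * (b' * b' * (y * (b' * b') * y⁻¹)) * m
          = m⁻¹ * (b' * (b' * (y * b' * y⁻¹)) * (y * b' * y⁻¹)) * m := by group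
        _ = m⁻¹ * (b' * (y * b' * y⁻¹ * b') * (y * b' * y⁻¹)) * m := by rw [hAA b' hb'A b' hb'A]
        _ = _ := by rw [hz]; group
    rw [e3]
    exact hM.sq (hmX' z hzX)
  have hBe : ∀ b ∈ A, (∀ x ∈ M, x * b = b * x) → b = 1 ∨ b = e := by
    intro b hb hbc
    by_contra hcon
    rw [not_or] at hcon
    have hb2 := expTwo b hb hbc
    have hbe := expTwo (b * e) (mul_mem hb heA) (fun x hx => by
      exact ((show Commute x b from hbc x hx).mul_right (hec x hx)).eq)
    have hb2' : b⁻¹ = b := inv_eq_of_mul_eq_one_left hb2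
    have he2' : e⁻¹ = e := inv_eq_of_mul_eq_one_left (sq_of_orderOf oe)
    have hcom : b * e = e * b := by
      have h1 : (b * e)⁻¹ = b * e := inv_eq_of_mul_eq_one_left hbe
      rw [mul_inv_rev, hb2', he2'] at h1
      exact h1.symm
    exact noFour b hb e heA (orderOf_eq_two_of_sq hb2 hcon.1) oe hbc hec hcon.2 hcom
  -- the element `p`
  obtain ⟨e', he'A, oe', hne', -⟩ := h.rich A hA e heA oe
  set Q : Subgroup G := M ⊔ zpowers e with hQ
  have hQA : ∀ q ∈ Q, q ∈ A → q = 1 ∨ q = e := by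
    intro q hq hqA
    obtain ⟨a, ha, hqa⟩ := exists_of_mem_sup (fun x hx => (hec x hx).symm) (sq_of_orderOf oe) hq
    have haA : a ∈ A := by
      rcases hqa with rfl | rfl
      · exact hqA
      · have e1 : a = a * e * e⁻¹ := by group
        rw [e1]; exact mul_mem hqA (inv_mem heA)
    have ha1 := hAX a haA (hM.le ha)
    rcases hqa with rfl | rfl
    · left; exact ha1
    · right; rw [ha1, one_mul]
  have hQT : Q < M ⊔ A := by
    refine lt_of_le_of_ne (sup_le le_sup_left (by rw [zpowers_le]; exact mem_sup_right heA)) fun h1 => ?_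
    have h2 : e' ∈ Q := by rw [h1]; exact mem_sup_right he'A
    rcases hQA e' h2 he'A with h3 | h3
    · exact ne_one_of_orderOf oe' h3
    · exact hne' h3
  have hTp : IsPGroup 2 (M ⊔ A : Subgroup G) := hSp.to_le (sup_le (hM.le.trans hXS) hAS)
  obtain ⟨t, ht, htQ⟩ := SetLike.exists_of_lt (lt_inf_normalizer (p := 2) hTp hQT)
  have htT : t ∈ ((M ⊔ A : Subgroup G) : Set G) := ht.1
  rw [coe_mul_of_left_le_normalizer_right M A hMA] at htT
  obtain ⟨a, ha, p, hp, hap⟩ := Set.mem_mul.1 htT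
  have hpt : p = a⁻¹ * t := by rw [← hap]; group
  have haQ : a ∈ Q := mem_sup_left ha
  have hpN : p ∈ normalizer (Q : Set G) := by
    rw [hpt]; exact mul_mem (inv_mem (le_normalizer haQ)) ht.2
  have hpQ : p ∉ Q := by
    intro h1
    apply htQ
    rw [← hap]; exact mul_mem haQ h1
  have hpA : p ∈ A := hp
  have heQ : e ∈ Q := mem_sup_right (mem_zpowers e)
  have hpq : ∀ q ∈ M, p * q * p⁻¹ = q ∨ p * q * p⁻¹ = e * q := by
    intro q hq
    have h1 : p * q * p⁻¹ ∈ Q := (mem_normalizer_iff.1 hpN q).1 (mem_sup_left hq)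
    have h2 : p * q * p⁻¹ * q⁻¹ ∈ Q := mul_mem h1 (inv_mem (mem_sup_left hq))
    have h3 : p * q * p⁻¹ * q⁻¹ ∈ A := by
      have e1 : p * q * p⁻¹ * q⁻¹ = p * (q * p⁻¹ * q⁻¹) := by group
      rw [e1]
      exact mul_mem hpA ((mem_normalizer_iff.1 (hMA hq) _).1 (inv_mem hpA))
    rcases hQA _ h2 h3 with h4 | h4
    · left; exact mul_inv_eq_one.1 h4
    · right; exact mul_inv_eq_iff_eq_mul.1 h4
  have hpe : p * e = e * p := by
    have h1 : p * e * p⁻¹ ∈ Q := (mem_normalizer_iff.1 hpN e).1 heQ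
    rcases hQA _ h1 (mul_mem (mul_mem hpA heA) (inv_mem hpA)) with h4 | h4
    · exfalso
      apply ne_one_of_orderOf oe
      have h5 : e = p⁻¹ * (p * e * p⁻¹) * p := by group
      rw [h5, h4]; group
    · exact mul_inv_eq_iff_eq_mul.1 h4
  have hexq : ∃ q ∈ M, p * q * p⁻¹ = e * q := by
    by_contra hcon
    push Not at hcon
    have h1 : ∀ x ∈ M, x * p = p * x := by
      intro x hx
      rcases hpq x hx with h2 | h2
      · exact (mul_inv_eq_iff_eq_mul.1 h2).symm
      · exact absurd h2 (hcon x hx)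
    rcases hBe p hpA h1 with h2 | h2
    · exact hpQ (h2 ▸ one_mem _)
    · exact hpQ (h2 ▸ heQ)
  obtain ⟨q, hq, hqq⟩ := hexq
  have hyi : y⁻¹ = y := inv_eq_of_mul_eq_one_left hy2
  set f : G := p * (y * p * y⁻¹) with hf
  have hype : y * p * y⁻¹ * (y * e * y⁻¹) = y * e * y⁻¹ * (y * p * y⁻¹) := by
    calc y * p * y⁻¹ * (y * e * y⁻¹) = y * (p * e) * y⁻¹ := by group
      _ = y * (e * p) * y⁻¹ := by rw [hpe]
      _ = _ := by group
  have hyp1 : ∀ x ∈ M, p * x * p⁻¹ = x → f * x * f⁻¹ = x := by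
    intro x hx h1
    have h2 := hyc x (hM.le hx)
    have h3 : y * p * y⁻¹ * x * (y * p * y⁻¹)⁻¹ = x := by
      calc y * p * y⁻¹ * x * (y * p * y⁻¹)⁻¹ = y * p * y⁻¹ * (x * y) * p⁻¹ * y⁻¹ := by group
        _ = y * (p * x * p⁻¹) * y⁻¹ := by rw [← h2]; group
        _ = (y * x) * y⁻¹ := by rw [h1]
        _ = x := by rw [h2]; group
    calc f * x * f⁻¹ = p * (y * p * y⁻¹ * x * (y * p * y⁻¹)⁻¹) * p⁻¹ := by rw [hf]; group
      _ = x := by rw [h3, h1]
  have hyp2 : ∀ x ∈ M, p * x * p⁻¹ = e * x → f * x * f⁻¹ = d * x := by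
    intro x hx h1
    have h2 := hyc x (hM.le hx)
    have h3 : y * p * y⁻¹ * x * (y * p * y⁻¹)⁻¹ = y * e * y⁻¹ * x := by
      calc y * p * y⁻¹ * x * (y * p * y⁻¹)⁻¹ = y * p * y⁻¹ * (x * y) * p⁻¹ * y⁻¹ := by group
        _ = y * (p * x * p⁻¹) * y⁻¹ := by rw [← h2]; group
        _ = y * (e * x) * y⁻¹ := by rw [h1]
        _ = y * e * (x * y) * y⁻¹ * y⁻¹ := by group
        _ = y * e * (y * x) * y⁻¹ * y⁻¹ := by rw [h2]
        _ = y * e * y⁻¹ * (y * y) * x * (y * y)⁻¹ := by group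
        _ = y * e * y⁻¹ * x := by rw [hy2]; group
    calc f * x * f⁻¹ = p * (y * p * y⁻¹ * x * (y * p * y⁻¹)⁻¹) * p⁻¹ := by rw [hf]; group
      _ = (p * (y * e * y⁻¹)) * x * p⁻¹ := by rw [h3]; group
      _ = (y * e * y⁻¹) * (p * x * p⁻¹) := by rw [hAA p hpA e heA]; group
      _ = (y * e * y⁻¹ * e) * x := by rw [h1]; group
      _ = d * x := by rw [← hAA e heA e heA, hde]
  have hfy : f * y = y * f := by
    have h6 := hAA p hpA p hpA
    calc f * y = (p * (y * p * y⁻¹)) * y := by rw [hf]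
      _ = (y * p * y⁻¹ * p) * y := by rw [h6]
      _ = y * p * (y⁻¹ * p * y) := by group
      _ = y * (p * (y * p * y⁻¹)) := by rw [hyi]; group
      _ = y * f := by rw [hf]
  have hfX : f ∉ X := by
    intro h1
    have h2 := hyp2 q hq hqq
    have h3 : d = f * q * f⁻¹ * q⁻¹ := by rw [h2]; group
    refine fact5 e heA oe hec ?_
    rw [← hde, h3]
    have e1 : m⁻¹ * (f * q * f⁻¹ * q⁻¹) * m =
        (m⁻¹ * f * m) * (m⁻¹ * q * m) * (m⁻¹ * f * m)⁻¹ * (m⁻¹ * q * m)⁻¹ := by group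
    rw [e1]
    exact hM.comm (hmX' f h1) (hmX' q (hM.le hq))
  have hfS : f ∈ (S : Subgroup G) :=
    mul_mem (hAS hpA) (mul_mem (mul_mem (hXS hyX) (hAS hpA)) (inv_mem (hXS hyX)))
  have hfd : f * d = d * f := by
    have h1 := hAA p hpA e heA
    have h2 := hAA e heA p hpA
    have c1 : Commute p e := hpe
    have c2 : Commute p (y * e * y⁻¹) := h1
    have c3 : Commute (y * p * y⁻¹) e := h2.symm
    have c4 : Commute (y * p * y⁻¹) (y * e * y⁻¹) := hype
    rw [hf, hde]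
    exact ((c1.mul_right c2).mul_left (c3.mul_right c4)).eq
  have htrf : Tr (S : Subgroup G) X f d := by
    refine ⟨hfS, hfX, htr.dmem, htr.sq, htr.cen, hfd, fun x hx => ?_⟩
    have hM' : ∀ x ∈ M, f * x * f⁻¹ = x ∨ f * x * f⁻¹ = d * x := by
      intro x hx
      rcases hpq x hx with h1 | h1
      · left; exact hyp1 x hx h1
      · right; exact hyp2 x hx h1
    by_cases hxM : x ∈ M
    · exact hM' x hxM
    · obtain ⟨a, ha, rfl⟩ := hM.exists_eq hx hxM hyX hyM
      have e1 : f * (y * a) * f⁻¹ = y * (f * a * f⁻¹) := by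
        calc f * (y * a) * f⁻¹ = (f * y) * a * f⁻¹ := by group
          _ = y * (f * a * f⁻¹) := by rw [hfy]; group
      rw [e1]
      rcases hM' a ha with h1 | h1
      · left; rw [h1]
      · right
        rw [h1]
        calc y * (d * a) = (y * d) * a := by group
          _ = d * (y * a) := by rw [hyc d htr.dmem]; group
  exact hmM (Tr.mem_star hB.ess htr htrf hm hfy)

end Bad

/-- **`N_G(X) ≤ H` for every essential subgroup `X`.** -/
theorem Frame.normalizer_le [Finite G] {S : Sylow 2 G} {H : Subgroup G} {𝓛 : Set (Subgroup G)}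
    (h : Frame (S : Subgroup G) H 𝓛) {X : Subgroup G} (hX : IsEss 2 (S : Subgroup G) X) :
    normalizer (X : Set G) ≤ H := by
  by_contra hn
  exact Bad.false h ⟨hX, hn⟩

end Cfsg.Agent.UGT.Blk.FusHalf
end

-- part: UGT/ThEL34/Acts
section
prune_inst 0x603044200200020000180582310020545400049200630001d9400e04024697612005270174e01b10091aaa70200a0060139800d94030000020000e004004040180aa72c49348b10427000f80f807180c00000000000000000000000000041004200000000
set_option linter.all false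
open scoped Cfsg.Agent.FastGrp

-- part: UGT/ThEL34/Core
section
/-!
# Theorem E for `L₃(4)`, I: the basic lemmas

Copies of the lemmas (0), (a') of `ThE/Base.lean` for a weaker set of hypotheses.
-/

set_option autoImplicit false

open Subgroup

namespace Cfsg.Agent.UGT.ThEL34

open Cfsg.Agent.UGT.ThE.Base (comm_of_mem L_conj L_conj' K_le_M L_le_M K_conj K_conj' IsT IsS IsT1 exists_central
  exists_sqrt)

variable {G : Type*} [Group G]

/-- the basic hypotheses -/
structure Hyp0 (L : Subgroup G) (x : G) : Prop where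
  xx : x * x = 1
  xM : x ∈ normalizer (L : Set G)
  xLK : ∀ l ∈ L, x * l ∉ centralizer (L : Set G)
  simp : ∀ N : Subgroup G, N ≤ L → (∀ l ∈ L, ∀ n ∈ N, l * n * l⁻¹ ∈ N) → N = ⊥ ∨ N = L
  nc : ∀ g : G, ¬ ∀ l ∈ L, g * l * g⁻¹ ∈ centralizer (L : Set G)
  Cx : ∀ c, c * x = x * c → c ∈ normalizer (L : Set G)
  Ct : ∀ t, IsT L x t → ∀ c, c * t = t * c → c ∈ normalizer (L : Set G)
  Cxt : ∀ t, IsT L x t → ∀ c, c * (x * t) = (x * t) * c → c ∈ normalizer (L : Set G)
  four : ∃ t, IsT L x t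
  rk : ∀ t, IsT L x t → ∃ u, IsT L x u ∧ u ≠ t ∧ u * t = t * u
  perf : ∀ g : G, (∀ l ∈ L, g * l * g⁻¹ ∈ normalizer (L : Set G)) → ∀ l ∈ L,
    ∃ l' ∈ L, g * l * g⁻¹ * l' ∈ centralizer (L : Set G)

namespace Hyp0

variable {L : Subgroup G} {x : G} (H : Hyp0 L x)
include H

theorem xi : x⁻¹ = x := inv_eq_of_mul_eq_one_left H.xx

theorem disj {l : G} (hl : l ∈ L) (hk : l ∈ centralizer (L : Set G)) : l = 1 := by
  rcases H.simp (L ⊓ centralizer (L : Set G)) inf_le_left (fun l hl n hn =>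
    mem_inf.mpr ⟨mul_mem (mul_mem hl hn.1) (inv_mem hl), K_conj (L_le_M hl) hn.2⟩) with h | h
  · exact mem_bot.mp (h ▸ (⟨hl, hk⟩ : l ∈ L ⊓ centralizer (L : Set G)))
  · exfalso
    apply H.nc 1
    intro l hl
    have : l ∈ L ⊓ centralizer (L : Set G) := h.symm ▸ hl
    simpa using this.2

/-- (0)(i) -/
theorem z1 {g : G} (h : ∀ l ∈ L, g * l * g⁻¹ ∈ normalizer (L : Set G)) {l : G} (hl : l ∈ L)
    (hk : g * l * g⁻¹ ∈ centralizer (L : Set G)) : l = 1 := by
  rcases H.simp (L ⊓ (centralizer (L : Set G)).comap (MulAut.conj g).toMonoidHom) inf_le_left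
    (fun l hl n hn => mem_inf.mpr ⟨mul_mem (mul_mem hl hn.1) (inv_mem hl), mem_comap.mpr (by
      have h1 : (MulAut.conj g).toMonoidHom (l * n * l⁻¹) =
          (g * l * g⁻¹) * (g * n * g⁻¹) * (g * l * g⁻¹)⁻¹ := by
        simp only [MulEquiv.coe_toMonoidHom, MulAut.conj_apply]; group
      rw [h1]
      exact K_conj (h l hl) hn.2)⟩) with h1 | h1
  · exact mem_bot.mp (h1 ▸ (⟨hl, hk⟩ :
      l ∈ L ⊓ (centralizer (L : Set G)).comap (MulAut.conj g).toMonoidHom))
  · exfalso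
    apply H.nc g
    intro l hl
    have : l ∈ L ⊓ (centralizer (L : Set G)).comap (MulAut.conj g).toMonoidHom := h1.symm ▸ hl
    exact this.2

/-- (0)(ii) -/
theorem z2 [Finite G] {g : G} (hg : g ∉ normalizer (L : Set G))
    (h : ∀ l ∈ L, g * l * g⁻¹ ∈ normalizer (L : Set G)) {l : G} (hl : l ∈ L)
    (hk : g * l * g⁻¹ ∈ L) : l = 1 := by
  rcases H.simp (L ⊓ L.comap (MulAut.conj g).toMonoidHom) inf_le_left
    (fun l hl n hn => mem_inf.mpr ⟨mul_mem (mul_mem hl hn.1) (inv_mem hl), mem_comap.mpr (by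
      have h1 : (MulAut.conj g).toMonoidHom (l * n * l⁻¹) =
          (g * l * g⁻¹) * (g * n * g⁻¹) * (g * l * g⁻¹)⁻¹ := by
        simp only [MulEquiv.coe_toMonoidHom, MulAut.conj_apply]; group
      rw [h1]
      exact L_conj (h l hl) hn.2)⟩) with h1 | h1
  · exact mem_bot.mp (h1 ▸ (⟨hl, hk⟩ : l ∈ L ⊓ L.comap (MulAut.conj g).toMonoidHom))
  · exfalso
    apply hg
    have h2 : ∀ l ∈ L, g * l * g⁻¹ ∈ L := by
      intro l hl
      have : l ∈ L ⊓ L.comap (MulAut.conj g).toMonoidHom := h1.symm ▸ hl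
      exact this.2
    rw [mem_normalizer_iff]
    intro y
    refine ⟨h2 y, fun hy => ?_⟩
    have h3 : Function.Surjective (fun l : L => (⟨g * l * g⁻¹, h2 l l.2⟩ : L)) := by
      apply Finite.injective_iff_surjective.mp
      intro a b hab
      have h4 : g * (a : G) * g⁻¹ = g * (b : G) * g⁻¹ := congrArg Subtype.val hab
      exact Subtype.ext (mul_left_cancel (mul_right_cancel h4))
    obtain ⟨⟨b, hb⟩, hb2⟩ := h3 ⟨g * y * g⁻¹, hy⟩
    have h5 : g * b * g⁻¹ = g * y * g⁻¹ := congrArg Subtype.val hb2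
    rw [← mul_left_cancel (mul_right_cancel h5)]
    exact hb

/-- (0)(iii): `w ∈ K` normalizing `L₁ ≤ M` centralizes `L₁` -/
theorem z3 {g : G} (h : ∀ l ∈ L, g * l * g⁻¹ ∈ normalizer (L : Set G)) {w : G}
    (hw : w ∈ centralizer (L : Set G)) (hwg : g⁻¹ * w * g ∈ normalizer (L : Set G)) :
    g⁻¹ * w * g ∈ centralizer (L : Set G) := by
  rw [mem_centralizer_iff]
  intro l hl
  obtain ⟨l', hl', hk⟩ := H.perf g h l hl
  obtain ⟨k, hkdef⟩ : ∃ k, k = g * l * g⁻¹ * l' := ⟨_, rfl⟩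
  rw [← hkdef] at hk
  have e1 : g * l * g⁻¹ = k * l'⁻¹ := by rw [hkdef]; group
  have h1 : (g⁻¹ * w * g) * l * (g⁻¹ * w * g)⁻¹ * l⁻¹ ∈ L := mul_mem (L_conj hwg hl) (inv_mem hl)
  have h2 : g * ((g⁻¹ * w * g) * l * (g⁻¹ * w * g)⁻¹ * l⁻¹) * g⁻¹ =
      (w * k * w⁻¹) * k⁻¹ := by
    calc g * ((g⁻¹ * w * g) * l * (g⁻¹ * w * g)⁻¹ * l⁻¹) * g⁻¹
        = w * (g * l * g⁻¹) * w⁻¹ * (g * l * g⁻¹)⁻¹ := by group
      _ = w * k * (l'⁻¹ * w⁻¹) * l' * k⁻¹ := by rw [e1]; group
      _ = w * k * (w⁻¹ * l'⁻¹) * l' * k⁻¹ := by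
        rw [comm_of_mem (inv_mem hl') (inv_mem hw)]
      _ = _ := by group
  have h3 := H.z1 h h1 (by
    rw [h2]
    exact mul_mem (mul_mem (mul_mem hw hk) (inv_mem hw)) (inv_mem hk))
  have h4 : (g⁻¹ * w * g) * l * (g⁻¹ * w * g)⁻¹ = l := mul_inv_eq_one.mp h3
  calc l * (g⁻¹ * w * g) = (g⁻¹ * w * g) * l * (g⁻¹ * w * g)⁻¹ * (g⁻¹ * w * g) := by rw [h4]
    _ = g⁻¹ * w * g * l := by group

/-- (0)(iv): `w ∈ M` centralizing `L₁ ≤ M` centralizes `L` -/
theorem z4 [Finite G] {g : G} (h : ∀ l ∈ L, g * l * g⁻¹ ∈ normalizer (L : Set G)) {w : G}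
    (hw : w ∈ normalizer (L : Set G)) (hwg : g⁻¹ * w * g ∈ centralizer (L : Set G)) :
    w ∈ centralizer (L : Set G) := by
  choose f hf using fun l : L => H.perf g h l.1 l.2
  have hinj : Function.Injective (fun l : L => (⟨f l, (hf l).1⟩ : L)) := by
    intro a b hab
    have h1 : f a = f b := congrArg Subtype.val hab
    have h2 := mul_mem (hf a).2 (inv_mem (hf b).2)
    rw [h1] at h2
    have h3 : g * (a : G) * g⁻¹ * f b * (g * (b : G) * g⁻¹ * f b)⁻¹ =
        g * ((a : G) * (b : G)⁻¹) * g⁻¹ := by group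
    rw [h3] at h2
    have h4 := H.z1 h (mul_mem a.2 (inv_mem b.2)) h2
    exact Subtype.ext (mul_inv_eq_one.mp h4)
  have hsurj := Finite.injective_iff_surjective.mp hinj
  rw [mem_centralizer_iff]
  intro y hy
  obtain ⟨⟨l, hl⟩, hly⟩ := hsurj ⟨y, hy⟩
  have h1 : f ⟨l, hl⟩ = y := congrArg Subtype.val hly
  have hk := (hf ⟨l, hl⟩).2
  rw [h1] at hk
  obtain ⟨k, hkdef⟩ : ∃ k, k = g * l * g⁻¹ * y := ⟨_, rfl⟩
  rw [← hkdef] at hk
  have e1 : g * l * g⁻¹ = k * y⁻¹ := by rw [hkdef]; group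
  have h2 : w * (g * l * g⁻¹) * w⁻¹ = g * l * g⁻¹ := by
    have h3 := comm_of_mem hl hwg
    calc w * (g * l * g⁻¹) * w⁻¹ = g * ((g⁻¹ * w * g) * l) * g⁻¹ * w⁻¹ := by group
      _ = g * (l * (g⁻¹ * w * g)) * g⁻¹ * w⁻¹ := by rw [h3]
      _ = g * l * g⁻¹ := by group
  rw [e1] at h2
  have h3 : k⁻¹ * (w * k * w⁻¹) = y⁻¹ * (w * y * w⁻¹) := by
    have h4 : (w * k * w⁻¹) * (w * y * w⁻¹)⁻¹ = k * y⁻¹ := by
      calc (w * k * w⁻¹) * (w * y * w⁻¹)⁻¹ = w * (k * y⁻¹) * w⁻¹ := by group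
        _ = k * y⁻¹ := h2
    calc k⁻¹ * (w * k * w⁻¹) = k⁻¹ * ((w * k * w⁻¹) * (w * y * w⁻¹)⁻¹) * (w * y * w⁻¹) := by group
      _ = k⁻¹ * (k * y⁻¹) * (w * y * w⁻¹) := by rw [h4]
      _ = _ := by group
  have h5 := H.disj (mul_mem (inv_mem hy) (L_conj hw hy))
    (h3 ▸ mul_mem (inv_mem hk) (K_conj hw hk))
  have h6 : w * y * w⁻¹ = y := (inv_mul_eq_one.mp h5).symm
  calc y * w = w * y * w⁻¹ * w := by rw [h6]
    _ = w * y := by group

end Hyp0

namespace Hyp0

variable {L : Subgroup G} {x : G} (H : Hyp0 L x)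
include H

/-- every involution of `K` commutes with an involution `w` of `K` with `C(w) ≤ M` -/
theorem wfix [Finite G] {t : G} (htK : t ∈ centralizer (L : Set G)) (htt : t * t = 1) (ht1 : t ≠ 1) :
    ∃ w ∈ centralizer (L : Set G), w * w = 1 ∧ w ≠ 1 ∧ w * t = t * w ∧
      ∀ c, c * w = w * c → c ∈ normalizer (L : Set G) := by
  have : Fact (Nat.Prime 2) := ⟨Nat.prime_two⟩
  obtain ⟨M, hM⟩ : ∃ M, M = normalizer (L : Set G) := ⟨_, rfl⟩
  have hxM : x ∈ M := hM ▸ H.xM
  have htM : t ∈ M := hM ▸ K_le_M htK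
  -- a Sylow 2-subgroup of `M` containing `x`
  have hpow : ∀ (y : M), y * y = 1 → IsPGroup 2 (zpowers y) := by
    intro y hy
    rintro ⟨z, hz⟩
    obtain ⟨n, rfl⟩ := mem_zpowers_iff.mp hz
    refine ⟨1, ?_⟩
    apply Subtype.ext
    change (y ^ n) ^ 2 ^ 1 = 1
    rw [pow_one, pow_two, ← zpow_add, ← two_mul, zpow_mul]
    have : y ^ (2 : ℤ) = 1 := by rw [zpow_two]; exact hy
    rw [this, one_zpow]
  obtain ⟨S, hS⟩ := (hpow ⟨x, hxM⟩ (Subtype.ext H.xx)).exists_le_sylow
  obtain ⟨P, hP⟩ := (hpow ⟨t, htM⟩ (Subtype.ext htt)).exists_le_sylow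
  obtain ⟨m, hm⟩ := MulAction.exists_smul_eq M P S
  have hxS : (⟨x, hxM⟩ : M) ∈ (S : Subgroup M) := hS (mem_zpowers _)
  have htP : (⟨t, htM⟩ : M) ∈ (P : Subgroup M) := hP (mem_zpowers _)
  have htS : m * ⟨t, htM⟩ * m⁻¹ ∈ (S : Subgroup M) := by
    rw [← hm, Sylow.coe_subgroup_smul, mem_pointwise_smul_iff_inv_smul_mem]
    simpa [MulAut.smul_def, mul_assoc] using htP
  obtain ⟨S', hS'⟩ : ∃ S', S' = (S : Subgroup M).map M.subtype := ⟨_, rfl⟩
  have hS2 : IsPGroup 2 S' := hS' ▸ S.2.map _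
  have hmem : ∀ y : M, y ∈ (S : Subgroup M) → (y : G) ∈ S' := by
    intro y hy
    rw [hS']
    exact ⟨y, hy, rfl⟩
  have hSM : S' ≤ M := by
    rw [hS']
    rintro _ ⟨y, _, rfl⟩
    exact y.2
  have hmM : (m : G) ∈ normalizer (L : Set G) := hM ▸ m.2
  have htt' : (m : G) * t * (m : G)⁻¹ ∈ centralizer (L : Set G) := K_conj hmM htK
  obtain ⟨w, hw, hww, hw1, hwS⟩ := exists_central hS2 (N := S' ⊓ centralizer (L : Set G)) inf_le_left
    (fun s hs n hn => mem_inf.mpr ⟨mul_mem (mul_mem hs hn.1) (inv_mem hs),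
      K_conj (hM ▸ hSM hs) hn.2⟩) (by
      intro h
      have h1 : (m : G) * t * (m : G)⁻¹ ∈ S' ⊓ centralizer (L : Set G) := ⟨hmem _ htS, htt'⟩
      rw [h, mem_bot] at h1
      apply ht1
      calc t = (m : G)⁻¹ * ((m : G) * t * (m : G)⁻¹) * m := by group
        _ = 1 := by rw [h1]; group)
  have hwT : IsT L x w := ⟨hw.2, hwS x (hmem _ hxS), hww, hw1⟩
  refine ⟨(m : G)⁻¹ * w * m, K_conj' hmM hw.2, ?_, ?_, ?_, ?_⟩
  · calc (m : G)⁻¹ * w * m * ((m : G)⁻¹ * w * m) = (m : G)⁻¹ * (w * w) * m := by group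
      _ = 1 := by rw [hww]; group
  · intro h
    apply hw1
    calc w = (m : G) * ((m : G)⁻¹ * w * m) * (m : G)⁻¹ := by group
      _ = 1 := by rw [h]; group
  · have h1 := hwS _ (hmem _ htS)
    have h2 : w * ((m : G) * t * (m : G)⁻¹) = (m : G) * t * (m : G)⁻¹ * w := h1
    calc (m : G)⁻¹ * w * m * t = (m : G)⁻¹ * (w * ((m : G) * t * (m : G)⁻¹)) * m := by group
      _ = (m : G)⁻¹ * ((m : G) * t * (m : G)⁻¹ * w) * m := by rw [h2]
      _ = t * ((m : G)⁻¹ * w * m) := by group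
  · intro c hc
    have h1 : ((m : G) * c * (m : G)⁻¹) * w = w * ((m : G) * c * (m : G)⁻¹) := by
      calc ((m : G) * c * (m : G)⁻¹) * w = m * (c * ((m : G)⁻¹ * w * m)) * (m : G)⁻¹ := by group
        _ = m * (((m : G)⁻¹ * w * m) * c) * (m : G)⁻¹ := by rw [hc]
        _ = _ := by group
    have h2 := H.Ct w hwT _ h1
    have h3 : c = (m : G)⁻¹ * ((m : G) * c * (m : G)⁻¹) * m := by group
    rw [h3]
    exact mul_mem (mul_mem (inv_mem hmM) h2) hmM

/-- (a') -/
theorem fixT [Finite G] {t g : G} (ht : IsT L x t) (h : g⁻¹ * t * g ∈ centralizer (L : Set G)) :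
    g ∈ normalizer (L : Set G) := by
  by_contra hg
  have hL1 : ∀ l ∈ L, g * l * g⁻¹ ∈ normalizer (L : Set G) := by
    intro l hl
    apply H.Ct t ht
    have h1 := comm_of_mem hl h
    calc g * l * g⁻¹ * t = g * (l * (g⁻¹ * t * g)) * g⁻¹ := by group
      _ = g * ((g⁻¹ * t * g) * l) * g⁻¹ := by rw [h1]
      _ = t * (g * l * g⁻¹) := by group
  have e1 : (g⁻¹ * t * g) * (g⁻¹ * t * g) = 1 := by
    calc (g⁻¹ * t * g) * (g⁻¹ * t * g) = g⁻¹ * (t * t) * g := by group
      _ = 1 := by rw [ht.sq]; group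
  have e2 : g⁻¹ * t * g ≠ 1 := by
    intro h1
    apply ht.ne
    calc t = g * (g⁻¹ * t * g) * g⁻¹ := by group
      _ = 1 := by rw [h1]; group
  obtain ⟨w, hwK, -, -, hwt, hwC⟩ := H.wfix h e1 e2
  have h2 : g * w * g⁻¹ ∈ normalizer (L : Set G) := by
    apply H.Ct t ht
    calc g * w * g⁻¹ * t = g * (w * (g⁻¹ * t * g)) * g⁻¹ := by group
      _ = g * ((g⁻¹ * t * g) * w) * g⁻¹ := by rw [hwt]
      _ = t * (g * w * g⁻¹) := by group
  have h3 : g * w * g⁻¹ ∈ centralizer (L : Set G) := H.z4 hL1 h2 (by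
    have : g⁻¹ * (g * w * g⁻¹) * g = w := by group
    rw [this]; exact hwK)
  have hL2 : ∀ l ∈ L, g⁻¹ * l * g ∈ normalizer (L : Set G) := by
    intro l hl
    apply hwC
    have h4 := comm_of_mem hl h3
    calc g⁻¹ * l * g * w = g⁻¹ * (l * (g * w * g⁻¹)) * g := by group
      _ = g⁻¹ * ((g * w * g⁻¹) * l) * g := by rw [h4]
      _ = w * (g⁻¹ * l * g) := by group
  apply H.nc g
  intro l' hl'
  rw [mem_centralizer_iff]
  intro l hl
  have h5 : (g⁻¹ * l * g) * l' * (g⁻¹ * l * g)⁻¹ * l'⁻¹ ∈ L :=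
    mul_mem (L_conj (hL2 l hl) hl') (inv_mem hl')
  have h6 : g * ((g⁻¹ * l * g) * l' * (g⁻¹ * l * g)⁻¹ * l'⁻¹) * g⁻¹ ∈ L := by
    have h7 : g * ((g⁻¹ * l * g) * l' * (g⁻¹ * l * g)⁻¹ * l'⁻¹) * g⁻¹ =
        l * ((g * l' * g⁻¹) * l⁻¹ * (g * l' * g⁻¹)⁻¹) := by group
    rw [h7]
    exact mul_mem hl (L_conj (hL1 l' hl') (inv_mem hl))
  have h8 := H.z2 hg hL1 h5 h6
  have h9 : (g⁻¹ * l * g) * l' * (g⁻¹ * l * g)⁻¹ = l' := mul_inv_eq_one.mp h8
  calc l * (g * l' * g⁻¹) = g * ((g⁻¹ * l * g) * l' * (g⁻¹ * l * g)⁻¹) * g⁻¹ * l := by group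
    _ = g * l' * g⁻¹ * l := by rw [h9]

end Hyp0

end Cfsg.Agent.UGT.ThEL34
end

-- part: UGT/ThEL34/Acts
section
/-!
# Theorem E for `L₃(4)`, II: elements of `N(L)` as automorphisms of `L`
-/

set_option autoImplicit false

open Subgroup

namespace Cfsg.Agent.UGT.ThEL34

open Cfsg.Agent.UGT.ThE.Base (comm_of_mem L_conj L_conj' K_le_M L_le_M K_conj K_conj' IsT IsS IsT1 exists_central
  exists_sqrt)

variable {G : Type*} [Group G] {L : Subgroup G}

/-- `m` acts on `L` by conjugation as the automorphism `a` -/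
def Acts (L : Subgroup G) (m : G) (a : MulAut L) : Prop := ∀ l : L, ((a l : L) : G) = m * l * m⁻¹

theorem exists_acts {m : G} (hm : m ∈ normalizer (L : Set G)) : ∃ a, Acts L m a :=
  ⟨L.normalizerMonoidHom ⟨m, hm⟩, fun _ => rfl⟩

theorem acts_norm (m : normalizer (L : Set G)) : Acts L (m : G) (L.normalizerMonoidHom m) := fun _ => rfl

theorem Acts.mem {m : G} {a : MulAut L} (h : Acts L m a) : m ∈ normalizer (L : Set G) := by
  rw [mem_normalizer_iff]
  intro l
  constructor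
  · intro hl
    rw [← h ⟨l, hl⟩]
    exact (a _).2
  · intro hl
    have h1 := h (a⁻¹ ⟨m * l * m⁻¹, hl⟩)
    have h2 : a (a⁻¹ ⟨m * l * m⁻¹, hl⟩) = ⟨m * l * m⁻¹, hl⟩ := by
      rw [← MulAut.mul_apply, mul_inv_cancel, MulAut.one_apply]
    rw [h2] at h1
    have h3 : l = (a⁻¹ ⟨m * l * m⁻¹, hl⟩ : L) := mul_left_cancel (mul_right_cancel h1)
    rw [h3]
    exact (a⁻¹ ⟨m * l * m⁻¹, hl⟩).2

theorem Acts.uniq {m : G} {a b : MulAut L} (h : Acts L m a) (h' : Acts L m b) : a = b := by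
  ext l
  rw [h l, h' l]

theorem Acts.mul {m n : G} {a b : MulAut L} (h : Acts L m a) (h' : Acts L n b) :
    Acts L (m * n) (a * b) := by
  intro l
  rw [MulAut.mul_apply, h, h']
  group

theorem acts_one : Acts L 1 1 := fun l => by simp

theorem Acts.inv {m : G} {a : MulAut L} (h : Acts L m a) : Acts L m⁻¹ a⁻¹ := by
  obtain ⟨b, hb⟩ := exists_acts (inv_mem h.mem)
  have h1 : a * b = 1 := (mul_inv_cancel m ▸ h.mul hb : Acts L 1 (a * b)).uniq acts_one
  rw [← eq_inv_of_mul_eq_one_right h1]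
  exact hb

theorem acts_one_iff {m : G} : Acts L m 1 ↔ m ∈ centralizer (L : Set G) := by
  rw [mem_centralizer_iff]
  constructor
  · intro h l hl
    have h1 := h ⟨l, hl⟩
    rw [MulAut.one_apply] at h1
    calc l * m = (m * l * m⁻¹) * m := by rw [← h1]
      _ = m * l := by group
  · intro h l
    rw [MulAut.one_apply, ← h l l.2]
    group

theorem acts_of_mem {l : G} (hl : l ∈ L) : Acts L l (MulAut.conj ⟨l, hl⟩) := fun _ => rfl

theorem acts_coe (l : L) : Acts L (l : G) (MulAut.conj l) := fun _ => rfl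

theorem Acts.mulK {m k : G} {a : MulAut L} (h : Acts L m a) (hk : k ∈ centralizer (L : Set G)) :
    Acts L (m * k) a := by
  have := h.mul (acts_one_iff.mpr hk)
  rwa [mul_one] at this

theorem Acts.Kmul {m k : G} {a : MulAut L} (h : Acts L m a) (hk : k ∈ centralizer (L : Set G)) :
    Acts L (k * m) a := by
  have := (acts_one_iff.mpr hk).mul h
  rwa [one_mul] at this

theorem Acts.inv_mul_mem {m n : G} {a : MulAut L} (h : Acts L m a) (h' : Acts L n a) :
    m⁻¹ * n ∈ centralizer (L : Set G) := by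
  have := h.inv.mul h'
  rw [inv_mul_cancel] at this
  exact acts_one_iff.mp this

theorem Acts.mul_inv_mem {m n : G} {a : MulAut L} (h : Acts L m a) (h' : Acts L n a) :
    m * n⁻¹ ∈ centralizer (L : Set G) := by
  have := h.mul h'.inv
  rw [mul_inv_cancel] at this
  exact acts_one_iff.mp this

theorem Acts.sq {m : G} {a : MulAut L} (h : Acts L m a) (hm : m * m = 1) : a * a = 1 :=
  (hm ▸ h.mul h : Acts L 1 (a * a)).uniq acts_one

theorem Acts.comm {m n : G} {a b : MulAut L} (h : Acts L m a) (h' : Acts L n b) (hmn : m * n = n * m) :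
    a * b = b * a :=
  (h.mul h').uniq (hmn ▸ h'.mul h)

theorem Acts.eq_one_iff {m : G} {a : MulAut L} (h : Acts L m a) :
    a = 1 ↔ m ∈ centralizer (L : Set G) := by
  rw [← acts_one_iff]
  constructor
  · rintro rfl; exact h
  · intro h1; exact h.uniq h1

theorem Acts.fix_iff {m : G} {a : MulAut L} (h : Acts L m a) (l : L) :
    a l = l ↔ m * l = l * m := by
  constructor
  · intro h1
    have h2 := h l
    rw [h1] at h2
    calc m * (l : G) = (m * l * m⁻¹) * m := by group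
      _ = l * m := by rw [← h2]
  · intro h1
    apply Subtype.ext
    rw [h l, h1]
    group

/-- the homomorphism given by the action of `g J g⁻¹ ≤ N(L)`, `J ≤ L` -/
theorem exists_hom {J : Subgroup L} {g : G} (h : ∀ j ∈ J, g * (j : G) * g⁻¹ ∈ normalizer (L : Set G)) :
    ∃ ψ : J →* MulAut L, ∀ j : J, Acts L (g * ((j : L) : G) * g⁻¹) (ψ j) := by
  let f : J →* normalizer (L : Set G) :=
    { toFun := fun j => ⟨g * ((j : L) : G) * g⁻¹, h j j.2⟩
      map_one' := Subtype.ext (by simp)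
      map_mul' := fun a b => Subtype.ext (by
        change g * (((a * b : J) : L) : G) * g⁻¹ = (g * ((a : L) : G) * g⁻¹) * (g * ((b : L) : G) * g⁻¹)
        have : (((a * b : J) : L) : G) = ((a : L) : G) * ((b : L) : G) := rfl
        rw [this]; group) }
  exact ⟨L.normalizerMonoidHom.comp f, fun j => acts_norm (f j)⟩

/-! ### consequences of the facts -/

section facts

variable {Λ : Type*} [Group Λ] {x : MulAut Λ} (F : Facts x)
include F

theorem Facts.hom_units (f : Λ →* ℤˣ) : f = 1 := by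
  have := F.simp
  rcases F.simp.eq_bot_or_eq_top_of_normal f.ker inferInstance with h | h
  · exfalso
    have hinj : Function.Injective f := (MonoidHom.ker_eq_bot_iff f).mp h
    obtain ⟨l, hl⟩ := exists_ne (1 : Λ)
    apply hl
    apply F.cl
    ext m
    rw [MulAut.conj_apply, MulAut.one_apply]
    apply hinj
    rw [map_mul, map_mul, map_inv, mul_comm (f l), mul_assoc, mul_inv_cancel, mul_one]
  · ext l
    have h1 : l ∈ f.ker := h ▸ mem_top l
    rw [MonoidHom.mem_ker] at h1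
    rw [h1]; rfl

theorem Facts.chi_conj (χ : MulAut Λ →* ℤˣ) (l : Λ) : χ (MulAut.conj l) = 1 := by
  have h := F.hom_units (χ.comp MulAut.conj)
  exact DFunLike.congr_fun h l

theorem Facts.xne (l : Λ) : x ≠ MulAut.conj l := by
  intro h
  obtain ⟨χ, hχ⟩ := F.chi0
  rw [h, F.chi_conj χ] at hχ
  exact absurd hχ (by decide)

theorem Facts.conj_inj {l m : Λ} (h : MulAut.conj l = MulAut.conj m) : l = m := by
  have h1 : MulAut.conj (l * m⁻¹) = 1 := by rw [map_mul, map_inv, h, mul_inv_cancel]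
  exact mul_inv_eq_one.mp (F.cl _ h1)

omit F in
theorem conj_conj (a : MulAut Λ) (l : Λ) : a * MulAut.conj l * a⁻¹ = MulAut.conj (a l) := by
  ext m
  simp only [MulAut.mul_apply, MulAut.conj_apply, map_mul, map_inv]
  rw [show a (a⁻¹ m) = m by rw [← MulAut.mul_apply, mul_inv_cancel, MulAut.one_apply]]

/-- an automorphism commutes with `conj l` iff it fixes `l` -/
theorem Facts.comm_conj_iff (a : MulAut Λ) (l : Λ) : a * MulAut.conj l = MulAut.conj l * a ↔ a l = l := by
  rw [← mul_inv_eq_iff_eq_mul, conj_conj]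
  exact ⟨fun h => F.conj_inj h, fun h => by rw [h]⟩

theorem Facts.conj_comm_iff (s l : Λ) :
    MulAut.conj s * MulAut.conj l = MulAut.conj l * MulAut.conj s ↔ s * l = l * s := by
  rw [← map_mul, ← map_mul]
  exact ⟨fun h => F.conj_inj h, fun h => by rw [h]⟩

theorem Facts.sq_of_conj {l : Λ} (h : MulAut.conj l * MulAut.conj l = 1) : l * l = 1 := by
  apply F.cl
  rw [map_mul, h]

omit F in
/-- trichotomy -/
theorem tri (x : MulAut Λ) {a : MulAut Λ} (h : a * a = 1) :
    (∃ l, a = MulAut.conj l) ∨ (∃ l, a = x * MulAut.conj l) ∨ Wild x a := by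
  by_cases h1 : ∃ l, a = MulAut.conj l
  · exact Or.inl h1
  by_cases h2 : ∃ l, a = x * MulAut.conj l
  · exact Or.inr (Or.inl h2)
  · push Not at h1 h2
    exact Or.inr (Or.inr ⟨h, h1, h2⟩)

theorem Facts.xinv : x⁻¹ = x := inv_eq_of_mul_eq_one_left F.xx

/-- the involutions commuting with `x` that are not wild -/
theorem Facts.cls {a : MulAut Λ} (h : a * a = 1) (hx : a * x = x * a) :
    (∃ s, s * s = 1 ∧ x s = s ∧ (a = MulAut.conj s ∨ a = x * MulAut.conj s)) ∨ Wild x a := by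
  rcases tri x h with ⟨l, hl⟩ | ⟨l, hl⟩ | h1
  · left
    rw [hl] at h hx
    exact ⟨l, F.sq_of_conj h, (F.comm_conj_iff x l).mp hx.symm, Or.inl hl⟩
  · left
    have hx' : x * MulAut.conj l = MulAut.conj l * x := by
      rw [hl] at hx
      have h2 : x * (MulAut.conj l * x) = x * (x * MulAut.conj l) := by
        calc x * (MulAut.conj l * x) = x * MulAut.conj l * x := by group
          _ = x * (x * MulAut.conj l) := hx
      exact (mul_left_cancel h2).symm
    refine ⟨l, ?_, (F.comm_conj_iff x l).mp hx', Or.inr hl⟩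
    apply F.sq_of_conj
    rw [hl] at h
    calc MulAut.conj l * MulAut.conj l = (x * x) * (MulAut.conj l * MulAut.conj l) := by
          rw [F.xx, one_mul]
      _ = x * (x * MulAut.conj l) * MulAut.conj l := by group
      _ = x * (MulAut.conj l * x) * MulAut.conj l := by rw [hx']
      _ = x * MulAut.conj l * (x * MulAut.conj l) := by group
      _ = 1 := h
  · exact Or.inr h1

/-- a four-group commuting with `x` without wild elements contains `x` -/
theorem Facts.four_x {a b : MulAut Λ} (ha : a * a = 1) (hb : b * b = 1) (hab : a * b = b * a)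
    (hax : a * x = x * a) (hbx : b * x = x * b) (ha1 : a ≠ 1) (hb1 : b ≠ 1) (hab1 : a * b ≠ 1)
    (wa : ¬ Wild x a) (wb : ¬ Wild x b) : a = x ∨ b = x ∨ a * b = x := by
  obtain ⟨s, hss, hxs, hs⟩ := (F.cls ha hax).resolve_right wa
  obtain ⟨t, htt, hxt, ht⟩ := (F.cls hb hbx).resolve_right wb
  have hxs' := (F.comm_conj_iff x s).mpr hxs
  have hxt' := (F.comm_conj_iff x t).mpr hxt
  by_cases hs1 : s = 1
  · rw [hs1, map_one, mul_one] at hs
    rcases hs with hs | hs
    · exact absurd hs ha1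
    · exact Or.inl hs
  by_cases ht1 : t = 1
  · rw [ht1, map_one, mul_one] at ht
    rcases ht with ht | ht
    · exact absurd ht hb1
    · exact Or.inr (Or.inl ht)
  have hst : s * t = t * s := by
    rw [← F.conj_comm_iff]
    rcases hs with hs | hs <;> rcases ht with ht | ht
    · rw [← hs, ← ht]; exact hab
    · rw [hs, ht] at hab
      apply mul_left_cancel (a := x)
      calc x * (MulAut.conj s * MulAut.conj t) = (x * MulAut.conj s) * MulAut.conj t := by group
        _ = MulAut.conj s * (x * MulAut.conj t) := by rw [hxs']; group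
        _ = x * (MulAut.conj t * MulAut.conj s) := by rw [hab]; group
    · rw [hs, ht] at hab
      apply mul_left_cancel (a := x)
      calc x * (MulAut.conj s * MulAut.conj t) = x * MulAut.conj s * MulAut.conj t := by group
        _ = (MulAut.conj t * x) * MulAut.conj s := by rw [hab]; group
        _ = x * (MulAut.conj t * MulAut.conj s) := by rw [← hxt']; group
    · rw [hs, ht] at hab
      apply mul_left_cancel (a := x * x)
      calc x * x * (MulAut.conj s * MulAut.conj t) = x * (x * MulAut.conj s) * MulAut.conj t := by group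
        _ = x * (MulAut.conj s * x) * MulAut.conj t := by rw [hxs']
        _ = x * MulAut.conj s * (x * MulAut.conj t) := by group
        _ = x * (MulAut.conj t * x) * MulAut.conj s := by rw [hab]; group
        _ = x * x * (MulAut.conj t * MulAut.conj s) := by rw [← hxt']; group
  have e := F.comm s t hss htt hs1 ht1 hxs hxt hst
  rw [← e] at ht
  have hcc : MulAut.conj s * MulAut.conj s = 1 := by rw [← map_mul, hss, map_one]
  rcases hs with hs | hs <;> rcases ht with ht | ht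
  · exact absurd (by rw [hs, ht]; exact hcc) hab1
  · right; right
    rw [hs, ht]
    calc MulAut.conj s * (x * MulAut.conj s) = (MulAut.conj s * x) * MulAut.conj s := by group
      _ = x * (MulAut.conj s * MulAut.conj s) := by rw [← hxs']; group
      _ = x := by rw [hcc, mul_one]
  · right; right
    rw [hs, ht]
    calc x * MulAut.conj s * MulAut.conj s = x * (MulAut.conj s * MulAut.conj s) := by group
      _ = x := by rw [hcc, mul_one]
  · exfalso
    apply hab1
    rw [hs, ht]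
    calc x * MulAut.conj s * (x * MulAut.conj s) = x * (MulAut.conj s * x) * MulAut.conj s := by group
      _ = (x * x) * (MulAut.conj s * MulAut.conj s) := by rw [← hxs']; group
      _ = 1 := by rw [F.xx, hcc, one_mul]

/-- the product of two commuting wild automorphisms is not wild -/
theorem Facts.not_wild_mul {a b : MulAut Λ} (ha : Wild x a) (hb : Wild x b) : ¬ Wild x (a * b) := by
  obtain ⟨χ, -, h⟩ := F.chi1
  intro hab
  have h1 := h _ hab
  rw [map_mul, h _ ha, h _ hb] at h1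
  exact absurd h1 (by decide)

/-- a homomorphism from the fixed points of a wild automorphism into a solvable group is trivial -/
theorem Facts.hom_trivial {a : MulAut Λ} (ha : Wild x a) {S : Subgroup (MulAut Λ)}
    (hS : Group.IsSolvable S) (ψ : fx a →* MulAut Λ) (h : ∀ j, ψ j ∈ S) (j : fx a) : ψ j = 1 := by
  have h1 := F.wperf a ha
  let ψ' : fx a →* S := ψ.codRestrict S h
  have h2 : ∀ n, (⊤ : Subgroup (fx a)).map ψ' ≤ derivedSeries S n := by
    intro n
    induction n with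
    | zero => exact le_top
    | succ n ih =>
      have h3 : (⊤ : Subgroup (fx a)).map ψ' = ⁅(⊤ : Subgroup (fx a)).map ψ', (⊤ : Subgroup (fx a)).map ψ'⁆ := by
        rw [← map_commutator]
        congr 1
        rw [← commutator_def, h1]
      rw [h3]
      exact commutator_mono ih ih
  obtain ⟨n, hn⟩ := (Group.isSolvable_def S).mp hS
  have h3 : ψ' j ∈ derivedSeries S n := h2 n ⟨j, mem_top j, rfl⟩
  rw [hn, mem_bot] at h3
  exact congrArg Subtype.val h3

end facts

end Cfsg.Agent.UGT.ThEL34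
end
end

-- part: UGT/LTF/Link
section
prune_inst 0x4603004205322120000180592310020545400049200630001f9400f06034e9761a04227017ce01f10091aae60280a0060139800d9421000000a0006004004052180aa72c49348a10427000f80f807180c00000000000000000000000000041004200000000
set_option linter.all false
open scoped Cfsg.Agent.FastGrp

/-!
# The link lemma

`x`, `a` commuting involutions, not conjugate in `G`, `Δ = a^G`, `L`, `K ≤ C(a)`, `[L, K] = 1`, `a` the only involution of
`C_K(x)`, `Δ ∩ C(⟨x, a⟩) = {a}`, and every `d ∈ Δ ∩ C(a)` satisfies `(x' d)² ∈ K` for some `x' ∈ x^L`.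

* `pi`: the product of two distinct commuting elements of `Δ` is in `Δ`.
* `exists_link`: every `z ∈ Δ` commutes with an involution `e ∈ C(x)` with `e ∈ Δ` or `x e ∈ Δ`.
* `mem_of_link`: so `Δ ≤ M` if `C(x)`, `C(a) ≤ M`, `Δ ∩ C(x) = a^{C(x)}` and `Δ ∩ C(x a) ≤ M`.
-/

set_option autoImplicit false

open Subgroup

namespace Cfsg.Agent.UGT.LTF.Link

variable {G : Type*} [Group G]

section dihedral

variable {s t : G}

theorem inv_eq (hs : s * s = 1) (ht : t * t = 1) : (s * t)⁻¹ = t * s := by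
  rw [mul_inv_rev, inv_eq_of_mul_eq_one_left hs, inv_eq_of_mul_eq_one_left ht]

theorem left_conj (hs : s * s = 1) (ht : t * t = 1) (n : ℕ) :
    s * (s * t) ^ n * s⁻¹ = ((s * t) ^ n)⁻¹ := by
  rw [← conj_pow, ← inv_pow]
  congr 1
  rw [inv_eq hs ht, inv_eq_of_mul_eq_one_left hs, ← mul_assoc, hs, one_mul]

theorem right_conj (hs : s * s = 1) (ht : t * t = 1) (n : ℕ) :
    t * (s * t) ^ n * t⁻¹ = ((s * t) ^ n)⁻¹ := by
  rw [← conj_pow, ← inv_pow]
  congr 1
  rw [inv_eq hs ht, inv_eq_of_mul_eq_one_left ht, mul_assoc, mul_assoc, ht, mul_one]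

/-- `t ~ ρ^(2 j) t`, `ρ = s t` -/
theorem isConj_even (hs : s * s = 1) (ht : t * t = 1) (j : ℕ) :
    IsConj t ((s * t) ^ (2 * j) * t) := by
  rw [isConj_iff]
  refine ⟨(s * t) ^ j, ?_⟩
  have h : t * ((s * t) ^ j)⁻¹ * t⁻¹ = (s * t) ^ j := by
    have h1 := congrArg (·⁻¹) (right_conj hs ht j)
    simp only [mul_inv_rev, inv_inv] at h1
    rw [← mul_assoc] at h1
    exact h1
  calc (s * t) ^ j * t * ((s * t) ^ j)⁻¹ = (s * t) ^ j * (t * ((s * t) ^ j)⁻¹ * t⁻¹) * t := by group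
    _ = _ := by rw [h, two_mul, pow_add]

/-- `t ~ s ρ^(2 j + 1)`, `ρ = s t` -/
theorem isConj_odd (hs : s * s = 1) (ht : t * t = 1) (j : ℕ) :
    IsConj t (s * (s * t) ^ (2 * j + 1)) := by
  rw [isConj_iff]
  refine ⟨((s * t) ^ j)⁻¹, ?_⟩
  have h : s⁻¹ * ((s * t) ^ j)⁻¹ * s = (s * t) ^ j := by
    rw [← left_conj hs ht j]
    group
  have h0 : t = s * (s * t) := by rw [← mul_assoc, hs, one_mul]
  calc ((s * t) ^ j)⁻¹ * t * ((s * t) ^ j)⁻¹⁻¹ = ((s * t) ^ j)⁻¹ * (s * (s * t)) * (s * t) ^ j := by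
        rw [← h0, inv_inv]
    _ = s * (s⁻¹ * ((s * t) ^ j)⁻¹ * s) * (s * t) * (s * t) ^ j := by group
    _ = _ := by
        rw [h, pow_succ, two_mul, pow_add]
        have hc : (s * t) * (s * t) ^ j = (s * t) ^ j * (s * t) := (Commute.self_pow _ _).eq
        rw [mul_assoc s, mul_assoc s, mul_assoc ((s * t) ^ j) (s * t), hc]
        simp only [mul_assoc]

/-- If the order of `s t` is odd, then `s ~ t`. -/
theorem isConj_of_odd (hs : s * s = 1) (ht : t * t = 1) {n : ℕ} (hn : Odd n) (h : (s * t) ^ n = 1) :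
    IsConj t s := by
  obtain ⟨j, rfl⟩ := hn
  have h1 := isConj_odd hs ht j
  rwa [h, mul_one] at h1

end dihedral

variable [Finite G]

/-- Two involutions, not conjugate: the central involution `u` of the dihedral group. -/
theorem exists_central {s t : G} (hs : s * s = 1) (ht : t * t = 1) (hst : ¬ IsConj t s) :
    ∃ k : ℕ, 1 ≤ k ∧ (s * t) ^ k ≠ 1 ∧ (s * t) ^ k * (s * t) ^ k = 1 ∧
      (s * t) ^ k * s = s * (s * t) ^ k ∧ (s * t) ^ k * t = t * (s * t) ^ k ∧
      (Even k → IsConj t ((s * t) ^ k * t)) ∧ (Odd k → IsConj t (s * (s * t) ^ k)) := by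
  obtain ⟨n, hn⟩ : ∃ n, n = orderOf (s * t) := ⟨_, rfl⟩
  have hn0 : 0 < n := hn ▸ orderOf_pos _
  have hn1 : (s * t) ^ n = 1 := hn ▸ pow_orderOf_eq_one _
  rcases Nat.even_or_odd n with he | ho
  · obtain ⟨k, hk⟩ := he
    have hk1 : 1 ≤ k := by omega
    have h1 : (s * t) ^ k ≠ 1 := by
      intro h
      have := Nat.le_of_dvd (by omega) (orderOf_dvd_of_pow_eq_one h)
      omega
    have h2 : (s * t) ^ k * (s * t) ^ k = 1 := by rw [← pow_add, ← hk, hn1]
    have h3 : ((s * t) ^ k)⁻¹ = (s * t) ^ k := inv_eq_of_mul_eq_one_left h2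
    refine ⟨k, hk1, h1, h2, ?_, ?_, ?_, ?_⟩
    · have := left_conj hs ht k
      rw [h3, mul_inv_eq_iff_eq_mul] at this
      exact this.symm
    · have := right_conj hs ht k
      rw [h3, mul_inv_eq_iff_eq_mul] at this
      exact this.symm
    · rintro ⟨j, hj⟩
      rw [hj, ← two_mul]
      exact isConj_even hs ht j
    · rintro ⟨j, rfl⟩
      exact isConj_odd hs ht j
  · exact (hst (isConj_of_odd hs ht ho hn1)).elim

section link

variable {x a : G} {L K : Subgroup G}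

/-- **(PI)** -/
theorem pi (hx : x * x = 1) (ha : a * a = 1) (hxa : x * a = a * x) (hcon : ¬ IsConj a x)
    (hLa : ∀ l ∈ L, l * a = a * l) (hLK : ∀ l ∈ L, ∀ k ∈ K, l * k = k * l)
    (hK : ∀ k ∈ K, k * k = 1 → k ≠ 1 → k * x = x * k → k = a)
    (hF : ∀ d, IsConj a d → d * x = x * d → d * a = a * d → d = a)
    (hV : ∀ d, IsConj a d → d * a = a * d → ∃ l ∈ L, (l * x * l⁻¹ * d) ^ 2 ∈ K)
    {d d' : G} (hd : IsConj a d) (hd' : IsConj a d') (hc : d * d' = d' * d) (hne : d ≠ d') :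
    IsConj a (d * d') := by
  -- WLOG `d = a`
  obtain ⟨g, rfl⟩ := isConj_iff.mp hd
  obtain ⟨b, hb⟩ : ∃ b, b = g⁻¹ * d' * g := ⟨_, rfl⟩
  have hd'b : d' = g * b * g⁻¹ := by rw [hb]; group
  subst hd'b
  have hab : IsConj a b := hd'.trans (isConj_iff.mpr ⟨g⁻¹, by group⟩)
  have hcab : b * a = a * b := by
    have h1 : g * (a * b) * g⁻¹ = g * (b * a) * g⁻¹ := by
      calc g * (a * b) * g⁻¹ = g * a * g⁻¹ * (g * b * g⁻¹) := by group
        _ = g * b * g⁻¹ * (g * a * g⁻¹) := hc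
        _ = _ := by group
    exact (mul_left_cancel (mul_right_cancel h1)).symm
  have hneb : a ≠ b := fun h => hne (by rw [h])
  have hkey : IsConj a (a * b) := by
    have hb2 : b * b = 1 := by
      obtain ⟨c, rfl⟩ := isConj_iff.mp hab
      calc c * a * c⁻¹ * (c * a * c⁻¹) = c * (a * a) * c⁻¹ := by group
        _ = 1 := by rw [ha]; group
    obtain ⟨l, hl, hsq⟩ := hV b hab hcab
    obtain ⟨y, hy⟩ : ∃ y, y = l * x * l⁻¹ := ⟨_, rfl⟩
    rw [← hy] at hsq
    have hy2 : y * y = 1 := by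
      rw [hy]
      calc l * x * l⁻¹ * (l * x * l⁻¹) = l * (x * x) * l⁻¹ := by group
        _ = 1 := by rw [hx]; group
    have hxy : IsConj x y := isConj_iff.mpr ⟨l, hy.symm⟩
    have hncon : ¬ IsConj b y := fun h => hcon ((hab.trans h).trans hxy.symm)
    have hla := hLa l hl
    have hlinva : l⁻¹ * a = a * l⁻¹ := by
      have := congrArg (fun z => l⁻¹ * z * l⁻¹) hla
      simpa [mul_assoc] using this.symm
    have hya : y * a = a * y := by
      rw [hy]
      calc l * x * l⁻¹ * a = l * x * (l⁻¹ * a) := by group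
        _ = l * (x * a) * l⁻¹ := by rw [hlinva]; group
        _ = l * a * x * l⁻¹ := by rw [hxa]; group
        _ = a * (l * x * l⁻¹) := by rw [hla]; group
    obtain ⟨k, hk1, hu1, hu2, hus, hut, hev, hod⟩ := exists_central hy2 hb2 hncon
    obtain ⟨u, hu⟩ : ∃ u, u = (y * b) ^ k := ⟨_, rfl⟩
    rw [← hu] at hu1 hu2 hus hut hev hod
    rcases Nat.even_or_odd k with he | ho
    · -- `u ∈ K ∩ C(y)`
      have huK : u ∈ K := by
        obtain ⟨j, hj⟩ := he
        rw [hu, hj, ← two_mul, pow_mul]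
        exact pow_mem hsq j
      have hux : u * x = x * u := by
        have h1 := hLK l hl u huK
        have h2 : l⁻¹ * u = u * l⁻¹ := by
          have := congrArg (fun z => l⁻¹ * z * l⁻¹) h1
          simpa [mul_assoc] using this.symm
        have h3 : x = l⁻¹ * y * l := by rw [hy]; group
        rw [h3]
        calc u * (l⁻¹ * y * l) = (u * l⁻¹) * y * l := by group
          _ = l⁻¹ * (u * y) * l := by rw [← h2]; group
          _ = l⁻¹ * y * (u * l) := by rw [hus]; group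
          _ = l⁻¹ * y * l * u := by rw [← h1]; group
      have hua : u = a := hK u huK hu2 hu1 hux
      have h1 := hev he
      rw [hua] at h1
      exact hab.trans h1
    · -- `y u ∈ Δ ∩ C(y, a)`
      exfalso
      have h1 : IsConj a (y * u) := hab.trans (hod ho)
      have hua : u * a = a * u := by
        have h2 : Commute (y * b) a := Commute.mul_left hya hcab
        rw [hu]
        exact h2.pow_left k
      obtain ⟨w, hw⟩ : ∃ w, w = l⁻¹ * (y * u) * l := ⟨_, rfl⟩
      have hwx : w = l⁻¹ * (y * u) * l := hw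
      have h3 : IsConj a w := h1.trans (isConj_iff.mpr ⟨l⁻¹, by rw [hw]; group⟩)
      have h4 : w * x = x * w := by
        have h3 : x = l⁻¹ * y * l := by rw [hy]; group
        rw [h3, hw]
        calc l⁻¹ * (y * u) * l * (l⁻¹ * y * l) = l⁻¹ * y * (u * y) * l := by group
          _ = l⁻¹ * y * (y * u) * l := by rw [hus]
          _ = _ := by group
      have h5 : w * a = a * w := by
        rw [hw]
        calc l⁻¹ * (y * u) * l * a = l⁻¹ * (y * u) * (l * a) := by group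
          _ = l⁻¹ * (y * (u * a)) * l := by rw [hla]; group
          _ = l⁻¹ * ((y * a) * u) * l := by rw [hua]; group
          _ = (l⁻¹ * a) * (y * u) * l := by rw [hya]; group
          _ = _ := by rw [hlinva]; group
      have h6 : w = a := hF w h3 h4 h5
      have h7 : y * u = a := by
        have : y * u = l * w * l⁻¹ := by rw [hw]; group
        rw [this, h6, hla]
        group
      -- `b` commutes with `u` and `a`, so with `y`, so with `x' = y`
      have h8 : y = a * u := by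
        rw [← h7, mul_assoc, hu2, mul_one]
      have h9 : b * y = y * b := by
        rw [h8]
        calc b * (a * u) = (b * a) * u := by group
          _ = a * (b * u) := by rw [hcab]; group
          _ = a * (u * b) := by rw [hut]
          _ = _ := by group
      -- conjugate by `l`
      have h10 : l⁻¹ * b * l = a := by
        apply hF
        · exact hab.trans (isConj_iff.mpr ⟨l⁻¹, by group⟩)
        · have h3 : x = l⁻¹ * y * l := by rw [hy]; group
          rw [h3]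
          calc l⁻¹ * b * l * (l⁻¹ * y * l) = l⁻¹ * (b * y) * l := by group
            _ = l⁻¹ * (y * b) * l := by rw [h9]
            _ = _ := by group
        · calc l⁻¹ * b * l * a = l⁻¹ * b * (l * a) := by group
            _ = l⁻¹ * (b * a) * l := by rw [hla]; group
            _ = (l⁻¹ * a) * b * l := by rw [hcab]; group
            _ = _ := by rw [hlinva]; group
      apply hneb
      have h11 : b = l * (l⁻¹ * b * l) * l⁻¹ := by group
      rw [h11, h10, hla]
      group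
  refine hkey.trans (isConj_iff.mpr ⟨g, by group⟩)

/-- Every `z ∈ Δ` commutes with an involution `e ∈ C(x)` with `e ∈ Δ` or `x e ∈ Δ`. -/
theorem exists_link (hx : x * x = 1) (ha : a * a = 1) (hcon : ¬ IsConj a x)
    (hPI : ∀ d d', IsConj a d → IsConj a d' → d * d' = d' * d → d ≠ d' → IsConj a (d * d'))
    {z : G} (hz : IsConj a z) :
    ∃ e : G, e * z = z * e ∧ e * x = x * e ∧ (IsConj a e ∨ IsConj a (x * e)) := by
  have hz2 : z * z = 1 := by
    obtain ⟨c, rfl⟩ := isConj_iff.mp hz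
    calc c * a * c⁻¹ * (c * a * c⁻¹) = c * (a * a) * c⁻¹ := by group
      _ = 1 := by rw [ha]; group
  obtain ⟨k, hk1, hu1, hu2, hus, hut, hev, hod⟩ := exists_central hx hz2 fun h => hcon (hz.trans h)
  refine ⟨(x * z) ^ k, hut, hus, ?_⟩
  rcases Nat.even_or_odd k with he | ho
  · left
    have h1 := hz.trans (hev he)
    have h2 := hPI _ _ h1 hz (by rw [mul_assoc, ← mul_assoc z, ← hut]; group) fun h => hu1 (by
      have := congrArg (fun y => y * z⁻¹) h
      simpa using this)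
    rwa [mul_assoc, hz2, mul_one] at h2
  · exact Or.inr (hz.trans (hod ho))

/-- `Δ ≤ M` -/
theorem mem_of_link (hx : x * x = 1) (ha : a * a = 1) (hcon : ¬ IsConj a x)
    (hPI : ∀ d d', IsConj a d → IsConj a d' → d * d' = d' * d → d ≠ d' → IsConj a (d * d'))
    {M : Subgroup G} (hxM : ∀ y, y * x = x * y → y ∈ M) (haM : ∀ y, y * a = a * y → y ∈ M)
    (hfus : ∀ d, IsConj a d → d * x = x * d → ∃ c, c * x = x * c ∧ c * a * c⁻¹ = d)
    (hxaM : ∀ d, IsConj a d → d * (x * a) = x * a * d → d ∈ M) {z : G} (hz : IsConj a z) :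
    z ∈ M := by
  obtain ⟨e, hez, hex, h⟩ := exists_link hx ha hcon hPI hz
  rcases h with h | h
  · obtain ⟨c, hcx, rfl⟩ := hfus e h hex
    have hcM := hxM c hcx
    have h1 : c⁻¹ * z * c ∈ M := by
      apply haM
      calc c⁻¹ * z * c * a = c⁻¹ * (z * (c * a * c⁻¹)) * c := by group
        _ = c⁻¹ * (c * a * c⁻¹ * z) * c := by rw [hez]
        _ = _ := by group
    have h2 := mul_mem (mul_mem hcM h1) (inv_mem hcM)
    convert h2 using 1
    group
  · have hxe : x * e * x = x * (x * e) := by rw [mul_assoc, hex]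
    obtain ⟨c, hcx, hc⟩ := hfus (x * e) h hxe
    have hcM := hxM c hcx
    have he : e = x * (c * a * c⁻¹) := by rw [hc, ← mul_assoc, hx, one_mul]
    have hcx' : c⁻¹ * x = x * c⁻¹ := by
      have := congrArg (fun z => c⁻¹ * z * c⁻¹) hcx
      simpa [mul_assoc] using this.symm
    have he' : e = c * (x * a) * c⁻¹ := by
      rw [he]
      calc x * (c * a * c⁻¹) = (x * c) * a * c⁻¹ := by group
        _ = _ := by rw [← hcx]; group
    have h1 : c⁻¹ * z * c ∈ M := by
      apply hxaM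
      · exact hz.trans (isConj_iff.mpr ⟨c⁻¹, by group⟩)
      · calc c⁻¹ * z * c * (x * a) = c⁻¹ * (z * (c * (x * a) * c⁻¹)) * c := by group
          _ = c⁻¹ * (c * (x * a) * c⁻¹ * z) * c := by rw [← he', hez]
          _ = _ := by group
    have h2 := mul_mem (mul_mem hcM h1) (inv_mem hcM)
    convert h2 using 1
    group

/-- The link lemma: `a^G ⊆ M`. -/
theorem normalClosure_le (hx : x * x = 1) (ha : a * a = 1) (hxa : x * a = a * x)
    (hcon : ¬ IsConj a x)
    (hLa : ∀ l ∈ L, l * a = a * l) (hLK : ∀ l ∈ L, ∀ k ∈ K, l * k = k * l)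
    (hK : ∀ k ∈ K, k * k = 1 → k ≠ 1 → k * x = x * k → k = a)
    (hF : ∀ d, IsConj a d → d * x = x * d → d * a = a * d → d = a)
    (hV : ∀ d, IsConj a d → d * a = a * d → ∃ l ∈ L, (l * x * l⁻¹ * d) ^ 2 ∈ K)
    {M : Subgroup G} (hxM : ∀ y, y * x = x * y → y ∈ M) (haM : ∀ y, y * a = a * y → y ∈ M)
    (hfus : ∀ d, IsConj a d → d * x = x * d → ∃ c, c * x = x * c ∧ c * a * c⁻¹ = d)
    (hxaM : ∀ d, IsConj a d → d * (x * a) = x * a * d → d ∈ M) :
    normalClosure ({a} : Set G) ≤ M := by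
  rw [normalClosure, closure_le]
  intro z hz
  rw [Group.mem_conjugatesOfSet_iff] at hz
  obtain ⟨a', ha', hz⟩ := hz
  rw [Set.mem_singleton_iff] at ha'
  subst ha'
  exact mem_of_link hx ha hcon
    (fun d d' h1 h2 h3 h4 => pi hx ha hxa hcon hLa hLK hK hF hV h1 h2 h3 h4) hxM haM hfus hxaM hz

end link

end Cfsg.Agent.UGT.LTF.Link
end

-- part: UGT/L34T2/Fr
section
set_option linter.all false

/-!
# Type `L₃(4)`: the 2-local frame of a pair `(a, L)` (UGT #14882, #14883)

`T ∈ Syl₂(C(a))`, `P = T ∩ L`, `Q = C_T(L / O(L))`, `Z = Z(P)`, `A i` the two elementary abelian subgroups of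
order 16 of `P`, `b` the involution of `Z` centralised by `T`.

* `Heis P Z A`: `P` is the Heisenberg group over the field with four elements.
* `Fr T P Q Z A b`: the frame: facts on `P ≤ T / Q ≤ P⟨x, f⟩`.

Types of `y ∈ T`: `y` centralises `Z` or not, `y` fixes `A false`, `A true` or swaps them.
`x` (polarity): swaps, not central on `Z`; `f` (field): fixes, not central; `g` (graph): swaps, central; otherwise
inner, `y ∈ P Q`.
-/

set_option autoImplicit false

namespace Cfsg.Agent.UGT.L34T2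

variable {G : Type*} [Group G]

/-- The Heisenberg group over the field with four elements. -/
structure Heis (P Z : Subgroup G) (A : Bool → Subgroup G) : Prop where
  cardP : Nat.card P = 64
  cardZ : Nat.card Z = 4
  cardA : ∀ i, Nat.card (A i) = 16
  ZA : ∀ i, Z ≤ A i
  AP : ∀ i, A i ≤ P
  Asq : ∀ i, ∀ u ∈ A i, u * u = 1
  Zcen : ∀ z ∈ Z, ∀ p ∈ P, p * z = z * p
  /-- every involution of `P` is in `A false` or `A true` -/
  inv : ∀ p ∈ P, p * p = 1 → ∃ i, p ∈ A i
  /-- `A false ∩ A true = Z` -/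
  inf : ∀ p, p ∈ A false → p ∈ A true → p ∈ Z
  /-- `P = (A false)(A true)` -/
  sup : ∀ p ∈ P, ∃ u ∈ A false, ∃ v ∈ A true, p = u * v
  com : ∀ p ∈ P, ∀ r ∈ P, p * r * p⁻¹ * r⁻¹ ∈ Z
  sq : ∀ p ∈ P, p * p ∈ Z
  /-- `[p, P] = Z` for `p ∈ P - Z` -/
  surj : ∀ p ∈ P, p ∉ Z → ∀ z ∈ Z, ∃ r ∈ P, p * r * p⁻¹ * r⁻¹ = z
  /-- `C_P(u) = A i` for `u ∈ A i - Z` -/
  cen : ∀ i, ∀ u ∈ A i, u ∉ Z → ∀ p ∈ P, p * u = u * p → p ∈ A i

/-- The 2-local frame. -/
structure Fr (T P Q Z : Subgroup G) (A : Bool → Subgroup G) (b : G) : Prop extends Heis P Z A where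
  two : IsPGroup 2 T
  PT : P ≤ T
  QT : Q ≤ T
  nP : ∀ y ∈ T, ∀ p ∈ P, y * p * y⁻¹ ∈ P
  nQ : ∀ y ∈ T, ∀ q ∈ Q, y * q * y⁻¹ ∈ Q
  disj : ∀ g ∈ P, g ∈ Q → g = 1
  comm : ∀ p ∈ P, ∀ q ∈ Q, p * q = q * p
  bZ : b ∈ Z
  b1 : b ≠ 1
  bT : ∀ y ∈ T, y * b = b * y
  /-- `C_T(P) = Z Q` -/
  cenP : ∀ y ∈ T, (∀ p ∈ P, y * p = p * y) → ∃ z ∈ Z, ∃ q ∈ Q, y = z * q
  /-- `y` fixes or swaps `A false`, `A true` -/
  actA : ∀ y ∈ T, (∀ i, ∀ u ∈ A i, y * u * y⁻¹ ∈ A i) ∨ (∀ i, ∀ u ∈ A i, y * u * y⁻¹ ∈ A (!i))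
  /-- `y` centralises `Z`, or `C_Z(y) = {1, b}` -/
  actZ : ∀ y ∈ T, (∀ z ∈ Z, y * z = z * y) ∨ (∀ z ∈ Z, y * z = z * y → z = 1 ∨ z = b)
  /-- inner elements -/
  inner : ∀ y ∈ T, (∀ i, ∀ u ∈ A i, y * u * y⁻¹ ∈ A i) → (∀ z ∈ Z, y * z = z * y) →
    ∃ p ∈ P, ∃ q ∈ Q, y = p * q
  /-- outer elements act nontrivially on `P / Z` -/
  outer : ∀ y ∈ T, (∀ p ∈ P, y * p * y⁻¹ * p⁻¹ ∈ Z) → ∃ p ∈ P, ∃ q ∈ Q, y = p * q
  /-- every outer coset `y P` contains an involution modulo `Q` -/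
  inv2 : ∀ y ∈ T, (¬ ∃ p ∈ P, ∃ q ∈ Q, y = p * q) → ∃ p ∈ P, (y * p) * (y * p) ∈ Q
  /-- the involutions modulo `Q` of an outer coset `y P` are conjugate under `P` -/
  conj : ∀ y ∈ T, (¬ ∃ p ∈ P, ∃ q ∈ Q, y = p * q) → y * y ∈ Q → ∀ p ∈ P, y⁻¹ * p * y * p = 1 →
    ∃ r ∈ P, r * y * r⁻¹ = y * p
  /-- type `x` or `f`: `|C_P(y)| = 8` -/
  card8 : ∀ y ∈ T, y * y ∈ Q → (¬ ∀ z ∈ Z, y * z = z * y) →
    Nat.card {p : G // p ∈ P ∧ y * p = p * y} = 8
  /-- type `x` or `f`: `b ∈ C_P(y)'` -/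
  der : ∀ y ∈ T, y * y ∈ Q → (¬ ∀ z ∈ Z, y * z = z * y) →
    ∃ c ∈ P, ∃ d ∈ P, y * c = c * y ∧ y * d = d * y ∧ c * d * c⁻¹ * d⁻¹ = b
  /-- type `x`: `b` is the only involution of `C_P(y) = Q₈` -/
  xQ8 : ∀ y ∈ T, y * y ∈ Q → (¬ ∀ z ∈ Z, y * z = z * y) → (∀ i, ∀ u ∈ A i, y * u * y⁻¹ ∈ A (!i)) →
    ∀ p ∈ P, y * p = p * y → p * p = 1 → p = 1 ∨ p = b
  /-- type `f`: there is a second involution in `C_P(y) = D₈` -/
  fD8 : ∀ y ∈ T, y * y ∈ Q → (¬ ∀ z ∈ Z, y * z = z * y) → (∀ i, ∀ u ∈ A i, y * u * y⁻¹ ∈ A i) →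
    ∃ p ∈ P, y * p = p * y ∧ p * p = 1 ∧ p ≠ 1 ∧ p ≠ b
  /-- type `g`: `C_P(y) = Z` -/
  gZ : ∀ y ∈ T, (¬ ∃ p ∈ P, ∃ q ∈ Q, y = p * q) → (∀ z ∈ Z, y * z = z * y) → y * y ∈ Q →
    ∀ p ∈ P, y * p = p * y → p ∈ Z
  /-- an element `w` of type `x`, an involution modulo `Q`, commutes modulo `Q` with an involution modulo `Q` in every
  outer coset `y P` -/
  comx : ∀ w ∈ T, w * w ∈ Q → (¬ ∀ z ∈ Z, w * z = z * w) → (∀ i, ∀ u ∈ A i, w * u * w⁻¹ ∈ A (!i)) →
    ∀ y ∈ T, (¬ ∃ p ∈ P, ∃ q ∈ Q, y = p * q) →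
      ∃ p ∈ P, (y * p) * (y * p) ∈ Q ∧ (y * p) * w * (y * p)⁻¹ * w⁻¹ ∈ Q

end Cfsg.Agent.UGT.L34T2
end

-- part: UGT/L34T2/FrBase
section
set_option linter.all false
open scoped Cfsg.Agent.FastGrp

-- part: UGT/L34T2/Dbl
section
/-!
# Type `L₃(4)`, `T < S`, case BIG: the double frame (UGT #14882 (3), (4))

`S = T⟨t⟩ ∈ Syl₂(G)`, `T ∈ Syl₂(C(a))`, `J = P × Q`, `t` swaps `P` and `Q`, `a = b^t`.

`pure` = conjugate to `a` (`I(P) ∪ I(Q)` inside `J`); `mixed` = `p q`, `p ∈ I(P)`, `q ∈ I(Q)` (all conjugate to `a b`).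

`DblX`: in addition the normal subgroup `X`, and for involutions `e` the groups `Inn e`, `Fix e` of elements of
`C(e)` that are inner resp. trivial on the `L₃(4)`-component of `C(e)`.
-/

set_option autoImplicit false

open Subgroup

namespace Cfsg.Agent.UGT.L34T2

variable {G : Type*} [Group G]

/-- The double frame. -/
structure Dbl (S T P Q Z : Subgroup G) (A : Bool → Subgroup G) (K : Subgroup G) (a b t x : G) : Prop
    extends Fr T P Q Z A b where
  S2 : IsPGroup 2 S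
  TS : T ≤ S
  tS : t ∈ S
  tn : t ∉ T
  ST : ∀ s ∈ S, s ∈ T ∨ t⁻¹ * s ∈ T
  tT : ∀ y ∈ T, t * y * t⁻¹ ∈ T
  tP : ∀ p ∈ P, t * p * t⁻¹ ∈ Q
  tQ : ∀ q ∈ Q, t * q * t⁻¹ ∈ P
  ta : t * b * t⁻¹ = a
  tb : t * a * t⁻¹ = b
  xT : x ∈ T
  xx : x * x = 1
  /-- `x` has type `x` on `P` -/
  xZ : ¬ ∀ z ∈ Z, x * z = z * x
  xA : ∀ i, ∀ u ∈ A i, x * u * x⁻¹ ∈ A (!i)
  /-- `x` has type `x` on `Q` -/
  xZ' : ¬ ∀ z ∈ Z, (t⁻¹ * x * t) * z = z * (t⁻¹ * x * t)
  xA' : ∀ i, ∀ u ∈ A i, (t⁻¹ * x * t) * u * (t⁻¹ * x * t)⁻¹ ∈ A (!i)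
  /-- `S` is a Sylow 2-subgroup of `G` -/
  syl : ∀ R : Subgroup G, IsPGroup 2 R → ∃ g : G, ∀ r ∈ R, g * r * g⁻¹ ∈ S
  /-- `T` is a Sylow 2-subgroup of `C(a)` -/
  sylT : ∀ R : Subgroup G, IsPGroup 2 R → (∀ r ∈ R, r * a = a * r) →
    ∃ g : G, g * a = a * g ∧ ∀ r ∈ R, g * r * g⁻¹ ∈ T
  Ta : ∀ y ∈ T, y * a = a * y
  /-- `K` centralises `Q`, contains `P` and fuses the involutions of `P` -/
  KQ : ∀ k ∈ K, ∀ q ∈ Q, k * q = q * k
  PK : P ≤ K
  cls : ∀ p ∈ P, p * p = 1 → p ≠ 1 → ∃ k ∈ K, k * p * k⁻¹ = b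

/-- The double frame with the normal subgroup `X` and the action on the components. -/
structure DblX (S T P Q Z : Subgroup G) (A : Bool → Subgroup G) (K : Subgroup G) (a b t x : G)
    (X : Subgroup G) (Inn Fix : G → Subgroup G) : Prop extends Dbl S T P Q Z A K a b t x where
  Xn : X.Normal
  KX : K ≤ X
  /-- `X` is perfect, `G = X S` if `S` is not contained in `X` -/
  perf : ∀ f : X →* ℤˣ, f = 1
  XS : ∀ g : G, ∃ y ∈ X, ∃ s ∈ S, g = y * s
  /-- equivariance -/
  Innc : ∀ g e y : G, y ∈ Inn e → g * y * g⁻¹ ∈ Inn (g * e * g⁻¹)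
  Fixc : ∀ g e y : G, y ∈ Fix e → g * y * g⁻¹ ∈ Fix (g * e * g⁻¹)
  /-- `e ∈ I(Q)`: an element of `C_T(e)` is inner on the component of `C(e)` iff it lies in `P Q` -/
  InnQ : ∀ e ∈ Q, e * e = 1 → e ≠ 1 → ∀ y ∈ T, y * e = e * y → (y ∈ Inn e ↔ ∃ p ∈ P, ∃ q ∈ Q, y = p * q)
  /-- `e ∈ I(Q)`: an element of `C_T(e)` is trivial on the component of `C(e)` iff it lies in `Q` -/
  FixQ : ∀ e ∈ Q, e * e = 1 → e ≠ 1 → ∀ y ∈ T, y * e = e * y → (y ∈ Fix e ↔ y ∈ Q)

end Cfsg.Agent.UGT.L34T2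
end

-- part: UGT/L34T2/FrBase
section
/-!
# Type `L₃(4)`, frame: basic consequences
-/

set_option autoImplicit false

open Subgroup

namespace Cfsg.Agent.UGT.L34T2

variable {G : Type*} [Group G]

/-- `g H g⁻¹` -/
def cjg (g : G) (H : Subgroup G) : Subgroup G := H.map (MulAut.conj g).toMonoidHom

theorem mem_cjg {g y : G} {H : Subgroup G} : y ∈ cjg g H ↔ g⁻¹ * y * g ∈ H := by
  constructor
  · rintro ⟨h, hh, rfl⟩
    have : g⁻¹ * (g * h * g⁻¹) * g = h := by group
    change g⁻¹ * (g * h * g⁻¹) * g ∈ H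
    rwa [this]
  · intro h
    refine ⟨_, h, ?_⟩
    change g * (g⁻¹ * y * g) * g⁻¹ = y
    group

theorem conj_mem_cjg {g y : G} {H : Subgroup G} : g * y * g⁻¹ ∈ cjg g H ↔ y ∈ H := by
  rw [mem_cjg]
  have : g⁻¹ * (g * y * g⁻¹) * g = y := by group
  rw [this]

theorem card_cjg (g : G) (H : Subgroup G) : Nat.card (cjg g H) = Nat.card H :=
  Subgroup.card_map_of_injective (MulAut.conj g).injective

theorem exists_of_cjg {g y : G} {H : Subgroup G} (h : y ∈ cjg g H) : ∃ u ∈ H, y = g * u * g⁻¹ :=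
  ⟨_, mem_cjg.mp h, by group⟩

theorem conj_mul (g y z : G) : g * (y * z) * g⁻¹ = (g * y * g⁻¹) * (g * z * g⁻¹) := by group

theorem conj_comm {g y z : G} : g * (y * z) * g⁻¹ = g * (z * y) * g⁻¹ ↔ y * z = z * y := by
  constructor
  · intro h; exact mul_left_cancel (mul_right_cancel h)
  · intro h; rw [h]

theorem commute_iff_conj (g : G) {y z : G} :
    (g * y * g⁻¹) * (g * z * g⁻¹) = (g * z * g⁻¹) * (g * y * g⁻¹) ↔ y * z = z * y := by
  rw [← conj_mul, ← conj_mul, conj_comm]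

/-! ### the Heisenberg group -/

namespace Heis

variable {P Z : Subgroup G} {A : Bool → Subgroup G}

theorem ZP (h : Heis P Z A) : Z ≤ P := (h.ZA false).trans (h.AP false)

theorem Zsq (h : Heis P Z A) {z : G} (hz : z ∈ Z) : z * z = 1 := h.Asq false z (h.ZA false hz)

theorem Acomm (h : Heis P Z A) {i : Bool} {u v : G} (hu : u ∈ A i) (hv : v ∈ A i) : u * v = v * u := by
  have h1 := h.Asq i _ ((A i).mul_mem hu hv)
  have h2 := h.Asq i u hu
  have h3 := h.Asq i v hv
  calc u * v = u * (u * v * (u * v)) * v := by rw [h1, mul_one]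
    _ = (u * u) * (v * u) * (v * v) := by group
    _ = v * u := by rw [h2, h3, one_mul, mul_one]

theorem Zcomm (h : Heis P Z A) {z w : G} (hz : z ∈ Z) (hw : w ∈ Z) : z * w = w * z :=
  h.Zcen w hw z (h.ZP hz)

/-- `Z(P) = Z` -/
theorem mem_Z (h : Heis P Z A) {z : G} (hz : z ∈ P) (hc : ∀ p ∈ P, z * p = p * z) : z ∈ Z := by
  by_contra hn
  have h1 : Nat.card Z ≤ 1 := by
    have : Z = ⊥ := by
      rw [eq_bot_iff]
      intro w hw
      obtain ⟨r, hr, e⟩ := h.surj z hz hn w hw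
      rw [mem_bot, ← e, hc r hr]
      group
    rw [this, card_bot]
  rw [h.cardZ] at h1
  omega

theorem exists_not_mem (h : Heis P Z A) (i : Bool) : ∃ u ∈ A i, u ∉ Z := by
  by_contra hcon
  push Not at hcon
  have hZf : Finite Z := Nat.finite_of_card_ne_zero (by rw [h.cardZ]; norm_num)
  have h2 := Subgroup.card_le_of_le (H := A i) (K := Z) hcon
  rw [h.cardA, h.cardZ] at h2
  omega

/-- elements of `A false - Z`, `A true - Z` do not commute -/
theorem not_comm (h : Heis P Z A) {u v : G} {i : Bool} (hu : u ∈ A i) (huZ : u ∉ Z) (hv : v ∈ A (!i))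
    (hvZ : v ∉ Z) : v * u ≠ u * v := by
  intro e
  have h1 := h.cen i u hu huZ v (h.AP _ hv) e
  apply hvZ
  cases i
  · exact h.inf v h1 hv
  · exact h.inf v hv h1

theorem exists_ne (h : Heis P Z A) (z : G) : ∃ w ∈ Z, w ≠ 1 ∧ w ≠ z := by
  classical
  by_contra hcon
  push Not at hcon
  have hZf : Finite Z := Nat.finite_of_card_ne_zero (by rw [h.cardZ]; norm_num)
  have h1 : (Z : Set G) ⊆ {1, z} := by
    intro w hw
    by_cases hw1 : w = 1
    · exact Or.inl hw1
    · exact Or.inr (hcon w hw hw1)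
  have h2 : (Z : Set G).ncard ≤ 2 := by
    refine (Set.ncard_le_ncard h1 (Set.toFinite _)).trans ?_
    exact Set.ncard_insert_le _ _ |>.trans (by rw [Set.ncard_singleton])
  have h3 : (Z : Set G).ncard = 4 := h.cardZ
  omega

/-- `Heis` is invariant under injective homomorphisms -/
theorem map (h : Heis P Z A) {G' : Type*} [Group G'] (f : G →* G') (hf : Function.Injective f) :
    Heis (P.map f) (Z.map f) (fun i => (A i).map f) where
  cardP := by rw [card_map_of_injective hf, h.cardP]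
  cardZ := by rw [card_map_of_injective hf, h.cardZ]
  cardA i := by rw [card_map_of_injective hf, h.cardA]
  ZA i := map_mono (h.ZA i)
  AP i := map_mono (h.AP i)
  Asq := by
    rintro i _ ⟨u, hu, rfl⟩
    rw [← map_mul, h.Asq i u hu, map_one]
  Zcen := by
    rintro _ ⟨z, hz, rfl⟩ _ ⟨p, hp, rfl⟩
    rw [← map_mul, h.Zcen z hz p hp, map_mul]
  inv := by
    rintro _ ⟨p, hp, rfl⟩ e
    obtain ⟨i, hi⟩ := h.inv p hp (hf (by rw [map_mul, e, map_one]))
    exact ⟨i, mem_map_of_mem _ hi⟩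
  inf := by
    rintro _ ⟨u, hu, rfl⟩ ⟨v, hv, e⟩
    rw [hf e] at hv
    exact mem_map_of_mem _ (h.inf u hu hv)
  sup := by
    rintro _ ⟨p, hp, rfl⟩
    obtain ⟨u, hu, v, hv, rfl⟩ := h.sup p hp
    exact ⟨_, mem_map_of_mem _ hu, _, mem_map_of_mem _ hv, map_mul _ _ _⟩
  com := by
    rintro _ ⟨p, hp, rfl⟩ _ ⟨r, hr, rfl⟩
    rw [← map_inv, ← map_inv, ← map_mul, ← map_mul, ← map_mul]
    exact mem_map_of_mem _ (h.com p hp r hr)
  sq := by
    rintro _ ⟨p, hp, rfl⟩
    rw [← map_mul]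
    exact mem_map_of_mem _ (h.sq p hp)
  surj := by
    rintro _ ⟨p, hp, rfl⟩ hn _ ⟨z, hz, rfl⟩
    obtain ⟨r, hr, e⟩ := h.surj p hp (fun h' => hn (mem_map_of_mem _ h')) z hz
    refine ⟨_, mem_map_of_mem _ hr, ?_⟩
    rw [← map_inv, ← map_inv, ← map_mul, ← map_mul, ← map_mul, e]
  cen := by
    rintro i _ ⟨u, hu, rfl⟩ hn _ ⟨p, hp, rfl⟩ e
    rw [← map_mul, ← map_mul] at e
    exact mem_map_of_mem _ (h.cen i u hu (fun h' => hn (mem_map_of_mem _ h')) p hp (hf e))

theorem cj (h : Heis P Z A) (g : G) : Heis (cjg g P) (cjg g Z) (fun i => cjg g (A i)) :=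
  h.map _ (MulAut.conj g).injective

/-- a normal subgroup of `P` not inside `Z` contains `Z` -/
theorem le_of_normal (h : Heis P Z A) {N : Subgroup G} {u : G} (hu : u ∈ N) (huP : u ∈ P) (huZ : u ∉ Z)
    (hN : ∀ p ∈ P, p * u * p⁻¹ ∈ N) : Z ≤ N := by
  intro z hz
  obtain ⟨r, hr, e⟩ := h.surj u huP huZ z⁻¹ (Z.inv_mem hz)
  have h1 := N.mul_mem (hN r hr) (N.inv_mem hu)
  have h2 : r * u * r⁻¹ * u⁻¹ = z := by
    have := congrArg (fun y => y⁻¹) e
    simp only [inv_inv] at this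
    rw [← this]; group
  rwa [h2] at h1

end Heis

end Cfsg.Agent.UGT.L34T2
end
end

-- part: UGT/L34T2/BigAlpha
section
prune_inst 0x4402000004300120000180592310020545400049000230001d9400f06020e9760000327004ce01f00080aae4000000060129800d000100000000004004000052180aa42069348a10427000f80b007180c00000000000000000000000000041004200000000
set_option linter.all false
open scoped Cfsg.Agent.FastGrp

/-!
# Type `L₃(4)`, case BIG, step (alpha) (UGT #14882 (4))

In the double frame an involution `w ∈ S - T` is not conjugate to a fully centralised involution `v ∈ T`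
by an element `g` with `g C_S(w) g⁻¹ ≤ S`.
-/

set_option autoImplicit false

open Subgroup

namespace Cfsg.Agent.UGT.L34T2.BigAlpha

/-! ### counting -/

theorem card_le_of_type {G : Type*} [Group G] [Finite G] (X N : Subgroup G) {B : Type*} [Finite B]
    (f : G → B) (hf : ∀ x ∈ X, ∀ y ∈ X, f x = f y → x⁻¹ * y ∈ N) :
    Nat.card X ≤ Nat.card ↥(N ⊓ X) * Nat.card B := by
  have h1 : (N.subgroupOf X).index ≤ Nat.card B := by
    refine Nat.card_le_card_of_injective (fun q : X ⧸ N.subgroupOf X => f (q.out : X)) ?_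
    intro q r hqr
    rw [← QuotientGroup.out_eq' q, ← QuotientGroup.out_eq' r]
    rw [QuotientGroup.eq, mem_subgroupOf]
    exact hf _ q.out.2 _ r.out.2 hqr
  have h2 := (N.subgroupOf X).card_mul_index
  have h3 : Nat.card ↥(N.subgroupOf X) = Nat.card ↥(N ⊓ X) := by
    rw [← Subgroup.inf_subgroupOf_right]
    exact Nat.card_congr (Subgroup.subgroupOfEquivOfLe inf_le_right).toEquiv
  rw [← h2, h3]
  exact Nat.mul_le_mul_left _ h1

variable {G : Type*} [Group G] {S T P Q Z : Subgroup G} {A : Bool → Subgroup G} {K : Subgroup G} {a b t x : G}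

/-! ### the Heisenberg group -/

theorem A_comm (h : Heis P Z A) {i : Bool} {u v : G} (hu : u ∈ A i) (hv : v ∈ A i) : u * v = v * u := by
  have h1 := h.Asq i _ (mul_mem hu hv)
  have hu' := h.Asq i _ hu
  have hv' := h.Asq i _ hv
  calc u * v = u * (u * v * (u * v)) * v := by rw [h1, mul_one]
    _ = (u * u) * (v * u) * (v * v) := by group
    _ = v * u := by rw [hu', hv', one_mul, mul_one]

/-- an element of `P` commuting with two involutions that do not commute lies in `Z` -/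
theorem mem_Z_of_comm (h : Heis P Z A) {r s y : G} (hr : r ∈ P) (hs : s ∈ P) (hr2 : r * r = 1) (hs2 : s * s = 1)
    (hrs : r * s ≠ s * r) (hy : y ∈ P) (hyr : y * r = r * y) (hys : y * s = s * y) : y ∈ Z := by
  obtain ⟨i, hi⟩ := h.inv r hr hr2
  obtain ⟨j, hj⟩ := h.inv s hs hs2
  have hrZ : r ∉ Z := fun hz => hrs (h.Zcen r hz s hs).symm
  have hsZ : s ∉ Z := fun hz => hrs (h.Zcen s hz r hr)
  have h1 := h.cen i r hi hrZ y hy hyr
  have h2 := h.cen j s hj hsZ y hy hys
  have hij : i ≠ j := by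
    rintro rfl
    exact hrs (A_comm h hi hj)
  cases i <;> cases j
  · exact absurd rfl hij
  · exact h.inf y h1 h2
  · exact h.inf y h2 h1
  · exact absurd rfl hij

theorem ZP (h : Heis P Z A) : Z ≤ P := fun _ hz => h.AP false (h.ZA false hz)

/-- an element of `P` centralising `P` lies in `Z` -/
theorem mem_Z_of_central (h : Heis P Z A) {y : G} (hy : y ∈ P) (hc : ∀ p ∈ P, y * p = p * y) : y ∈ Z := by
  by_contra hyZ
  obtain ⟨z, hz, hz1⟩ : ∃ z ∈ Z, z ≠ 1 := by
    by_contra hcon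
    push Not at hcon
    have h1 : Z = ⊥ := by
      rw [eq_bot_iff]; intro z hz; rw [mem_bot]; exact hcon z hz
    have h2 := h.cardZ
    rw [h1, Subgroup.card_bot] at h2
    omega
  obtain ⟨r, hr, e⟩ := h.surj y hy hyZ z hz
  apply hz1
  rw [← e, hc r hr]
  group

theorem sq_of_conj {e f : G} (he : IsConj e f) (h2 : e * e = 1) : f * f = 1 := by
  obtain ⟨c, rfl⟩ := isConj_iff.mp he
  calc c * e * c⁻¹ * (c * e * c⁻¹) = c * (e * e) * c⁻¹ := by group
    _ = 1 := by rw [h2]; group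

/-! ### types of the elements of `T` -/

/-- `y` fixes `A false`, `A true` -/
def Fx (A : Bool → Subgroup G) (y : G) : Prop := ∀ i, ∀ u ∈ A i, y * u * y⁻¹ ∈ A i

/-- `y` swaps `A false`, `A true` -/
def Sw (A : Bool → Subgroup G) (y : G) : Prop := ∀ i, ∀ u ∈ A i, y * u * y⁻¹ ∈ A (!i)

/-- `y` centralises `Z` -/
def Cn (Z : Subgroup G) (y : G) : Prop := ∀ z ∈ Z, y * z = z * y

theorem not_fx_sw (h : Heis P Z A) {y : G} (h1 : Fx A y) (h2 : Sw A y) : False := by
  have h3 : A false ≤ Z := by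
    intro u hu
    have h4 := h1 false u hu
    have h5 := h2 false u hu
    -- `y u y⁻¹ ∈ A false ∩ A true = Z`
    have h6 : ∀ v ∈ A false, y * v * y⁻¹ ∈ Z := fun v hv => h.inf _ (h1 false v hv) (h2 false v hv)
    have h7 : Function.Injective (fun v : ↥(A false) => (⟨y * v * y⁻¹, h6 v v.2⟩ : ↥Z)) := by
      intro v w e
      have := congrArg Subtype.val e
      exact Subtype.ext (mul_left_cancel (mul_right_cancel this))
    have h8 : Finite ↥Z := Nat.finite_of_card_ne_zero (by rw [h.cardZ]; norm_num)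
    have h9 := Nat.card_le_card_of_injective _ h7
    rw [h.cardZ, h.cardA] at h9
    omega
  have h4 : Finite ↥Z := Nat.finite_of_card_ne_zero (by rw [h.cardZ]; norm_num)
  have h5 := Subgroup.card_le_of_le h3
  rw [h.cardZ, h.cardA] at h5
  omega

/-- the elements of `Z` -/
theorem Z_four (h : Heis P Z A) (hb : b ∈ Z) (hb1 : b ≠ 1) {z w : G} (hz : z ∈ Z) (hz1 : z ≠ 1) (hzb : z ≠ b)
    (hw : w ∈ Z) : w = 1 ∨ w = b ∨ w = z ∨ w = z * b := by
  classical
  have h8 : Finite ↥Z := Nat.finite_of_card_ne_zero (by rw [h.cardZ]; norm_num)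
  have hsub : (({1, b, z, z * b} : Finset G) : Set G) ⊆ (Z : Set G) := by
    intro v hv
    simp only [Finset.coe_insert, Finset.coe_singleton, Set.mem_insert_iff, Set.mem_singleton_iff] at hv
    rcases hv with rfl | rfl | rfl | rfl
    · exact one_mem Z
    · exact hb
    · exact hz
    · exact mul_mem hz hb
  have hzz := h.Asq false _ (h.ZA false hz)
  have hc : ({1, b, z, z * b} : Finset G).card = 4 := by
    rw [Finset.card_eq_succ]
    refine ⟨1, {b, z, z * b}, ?_, rfl, Finset.card_eq_three.mpr ⟨b, z, z * b, hzb.symm, ?_, ?_, rfl⟩⟩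
    · simp only [Finset.mem_insert, Finset.mem_singleton, not_or]
      refine ⟨hb1.symm, hz1.symm, fun e => hzb ?_⟩
      calc z = z * 1 := (mul_one z).symm
        _ = z * (z * b) := by rw [e]
        _ = b := by rw [← mul_assoc, hzz, one_mul]
    · intro e
      exact hz1 (by simpa using e)
    · intro e
      exact hb1 (by simpa using e)
  have heq : (({1, b, z, z * b} : Finset G) : Set G) = (Z : Set G) := by
    refine Set.eq_of_subset_of_ncard_le hsub ?_ (Set.toFinite _)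
    rw [Set.ncard_coe_finset, hc]
    exact le_of_eq h.cardZ
  have hw' : w ∈ (Z : Set G) := hw
  rw [← heq] at hw'
  simpa only [Finset.coe_insert, Finset.coe_singleton, Set.mem_insert_iff, Set.mem_singleton_iff] using hw'

section fr

variable (h : Fr T P Q Z A b)

include h

theorem inv_fx {y : G} (hy : y ∈ T) (h1 : Fx A y) : Fx A y⁻¹ := by
  rcases h.actA y⁻¹ (inv_mem hy) with h2 | h2
  · exact h2
  · exfalso
    refine not_fx_sw h.toHeis h1 fun i u hu => ?_
    -- `y u y⁻¹ ∈ A (!i)`: apply `y⁻¹` swaps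
    have h3 := h2 i _ (h1 i u hu)
    have e : y⁻¹ * (y * u * y⁻¹) * y⁻¹⁻¹ = u := by group
    rw [e] at h3
    exact h1 (!i) u h3

theorem inv_sw {y : G} (hy : y ∈ T) (h1 : Sw A y) : Sw A y⁻¹ := by
  rcases h.actA y⁻¹ (inv_mem hy) with h2 | h2
  · exfalso
    have h3 := inv_fx h (inv_mem hy) h2
    rw [inv_inv] at h3
    exact not_fx_sw h.toHeis h3 h1
  · exact h2

theorem nZ {y z : G} (hy : y ∈ T) (hz : z ∈ Z) : y * z * y⁻¹ ∈ Z := by
  rcases h.actA y hy with h1 | h1
  · exact h.inf _ (h1 _ _ (h.ZA _ hz)) (h1 _ _ (h.ZA _ hz))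
  · exact h.inf _ (h1 true _ (h.ZA _ hz)) (h1 false _ (h.ZA _ hz))

theorem conj_z {y z : G} (hy : y ∈ T) (hc : ¬ Cn Z y) (hz : z ∈ Z) (hz1 : z ≠ 1) (hzb : z ≠ b) :
    y * z * y⁻¹ = z * b := by
  rcases Z_four h.toHeis h.bZ h.b1 hz hz1 hzb (nZ h hy hz) with e | e | e | e
  · exfalso
    apply hz1
    calc z = y⁻¹ * (y * z * y⁻¹) * y := by group
      _ = 1 := by rw [e]; group
  · exfalso
    apply hzb
    have h1 := h.bT y hy
    calc z = y⁻¹ * (y * z * y⁻¹) * y := by group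
      _ = y⁻¹ * (b * y) := by rw [e]; group
      _ = y⁻¹ * (y * b) := by rw [h1]
      _ = b := by group
  · exfalso
    rcases h.actZ y hy with h1 | h1
    · exact hc h1
    · rcases h1 z hz (mul_inv_eq_iff_eq_mul.mp e) with h2 | h2
      · exact hz1 h2
      · exact hzb h2
  · exact e

/-- two elements of `T` of the same type are congruent modulo `P Q` -/
theorem same_type {y y' : G} (hy : y ∈ T) (hy' : y' ∈ T) (h1 : Fx A y ↔ Fx A y') (h2 : Cn Z y ↔ Cn Z y') :
    ∃ p ∈ P, ∃ q ∈ Q, y⁻¹ * y' = p * q := by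
  refine h.inner _ (mul_mem (inv_mem hy) hy') ?_ ?_
  · intro i u hu
    have e : y⁻¹ * y' * u * (y⁻¹ * y')⁻¹ = y⁻¹ * (y' * u * y'⁻¹) * y⁻¹⁻¹ := by group
    rw [e]
    rcases h.actA y hy with h3 | h3
    · exact inv_fx h hy h3 i _ (h1.mp h3 i u hu)
    · have h4 : Sw A y' := by
        rcases h.actA y' hy' with h4 | h4
        · exact absurd h3 (fun h5 => not_fx_sw h.toHeis (h1.mpr h4) h5)
        · exact h4
      have h5 := inv_sw h hy h3 (!i) _ (h4 i u hu)
      rwa [Bool.not_not] at h5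
  · intro z hz
    by_cases hc : Cn Z y
    · have e1 := hc z hz
      have e2 := h2.mp hc z hz
      calc y⁻¹ * y' * z = y⁻¹ * (z * y') := by rw [mul_assoc, e2]
        _ = y⁻¹ * (z * y) * (y⁻¹ * y') := by group
        _ = y⁻¹ * (y * z) * (y⁻¹ * y') := by rw [e1]
        _ = z * (y⁻¹ * y') := by group
    · have hc' : ¬ Cn Z y' := fun h3 => hc (h2.mpr h3)
      by_cases hz1 : z = 1
      · rw [hz1]; group
      by_cases hzb : z = b
      · have e := h.bT _ (mul_mem (inv_mem hy) hy')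
        rw [hzb, e]
      · have e1 := conj_z h hy hc hz hz1 hzb
        have e2 := conj_z h hy' hc' hz hz1 hzb
        rw [← e1] at e2
        calc y⁻¹ * y' * z = y⁻¹ * (y' * z * y'⁻¹) * y' := by group
          _ = y⁻¹ * (y * z * y⁻¹) * y' := by rw [e2]
          _ = z * (y⁻¹ * y') := by group

end fr

/-! ### the double frame -/

section dbl

variable (h : Dbl S T P Q Z A K a b t x)

include h

theorem tt : t * t ∈ T := by
  rcases h.ST _ (mul_mem h.tS h.tS) with h1 | h1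
  · exact h1
  · rw [inv_mul_cancel_left] at h1
    exact absurd h1 h.tn

theorem inv_nQ {y q : G} (hy : y ∈ T) (hq : q ∈ Q) : y⁻¹ * q * y ∈ Q := by
  have := h.nQ y⁻¹ (inv_mem hy) q hq
  rwa [inv_inv] at this

/-- elements of `S - T` -/
theorem exists_y {s : G} (hs : s ∈ S) (hsT : s ∉ T) : ∃ y ∈ T, s = t * y := by
  rcases h.ST s hs with h1 | h1
  · exact absurd h1 hsT
  · exact ⟨t⁻¹ * s, h1, by group⟩

theorem sw_P {s p : G} (hs : s ∈ S) (hsT : s ∉ T) (hp : p ∈ P) : s * p * s⁻¹ ∈ Q := by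
  obtain ⟨y, hy, rfl⟩ := exists_y h hs hsT
  have e : t * y * p * (t * y)⁻¹ = t * (y * p * y⁻¹) * t⁻¹ := by group
  rw [e]
  exact h.tP _ (h.nP y hy p hp)

theorem sw_Q {s q : G} (hs : s ∈ S) (hsT : s ∉ T) (hq : q ∈ Q) : s * q * s⁻¹ ∈ P := by
  obtain ⟨y, hy, rfl⟩ := exists_y h hs hsT
  have e : t * y * q * (t * y)⁻¹ = t * (y * q * y⁻¹) * t⁻¹ := by group
  rw [e]
  exact h.tQ _ (h.nQ y hy q hq)

theorem mul_mem_T {s r : G} (hs : s ∈ S) (hsT : s ∉ T) (hr : r ∈ S) (hrT : r ∉ T) : s * r ∈ T := by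
  obtain ⟨y, hy, rfl⟩ := exists_y h hs hsT
  obtain ⟨y', hy', rfl⟩ := exists_y h hr hrT
  have e : t * y * (t * y') = (t * y * t⁻¹) * (t * t) * y' := by group
  rw [e]
  exact mul_mem (mul_mem (h.tT y hy) (tt h)) hy'

theorem inv_mul_mem_T {s r : G} (hs : s ∈ S) (hsT : s ∉ T) (hr : r ∈ S) (hrT : r ∉ T) : s⁻¹ * r ∈ T :=
  mul_mem_T h (inv_mem hs) (fun hc => hsT (inv_mem_iff.mp hc)) hr hrT

theorem aQ : a ∈ Q := by
  rw [← h.ta]
  exact h.tP _ (ZP h.toHeis h.bZ)

theorem bP : b ∈ P := ZP h.toHeis h.bZ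

theorem b2 : b * b = 1 := h.Asq false _ (h.ZA false h.bZ)

theorem a2 : a * a = 1 := by
  rw [← h.ta]
  calc t * b * t⁻¹ * (t * b * t⁻¹) = t * (b * b) * t⁻¹ := by group
    _ = 1 := by rw [b2 h]; group

theorem a1 : a ≠ 1 := by
  intro e
  have h1 := h.ta
  rw [e] at h1
  apply h.b1
  calc b = t⁻¹ * (t * b * t⁻¹) * t := by group
    _ = 1 := by rw [h1]; group

theorem sw_b {s : G} (hs : s ∈ S) (hsT : s ∉ T) : s * b * s⁻¹ = a := by
  obtain ⟨y, hy, rfl⟩ := exists_y h hs hsT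
  have e : t * y * b * (t * y)⁻¹ = t * (y * b * y⁻¹) * t⁻¹ := by group
  rw [e, h.bT y hy, mul_inv_cancel_right, h.ta]

theorem sw_a {s : G} (hs : s ∈ S) (hsT : s ∉ T) : s * a * s⁻¹ = b := by
  obtain ⟨y, hy, rfl⟩ := exists_y h hs hsT
  have e : t * y * a * (t * y)⁻¹ = t * (y * a * y⁻¹) * t⁻¹ := by group
  rw [e, h.Ta y hy, mul_inv_cancel_right, h.tb]

theorem mem_J {g : G} : g ∈ P ⊔ Q ↔ ∃ p ∈ P, ∃ q ∈ Q, g = p * q := by
  have hn : P ≤ normalizer (Q : Set G) := fun p hp =>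
    mem_normalizer_iff.mpr fun q => by
      constructor
      · intro hq
        rwa [h.comm p hp q hq, mul_inv_cancel_right]
      · intro hq
        have h1 := h.comm p hp _ hq
        have h2 : p * q * p⁻¹ = q := by
          have h3 : p * q = p * q * p⁻¹ * p := by group
          rw [← h1] at h3
          have h4 := mul_left_cancel h3
          exact h4.symm
        rwa [h2] at hq
  rw [← SetLike.mem_coe, coe_mul_of_left_le_normalizer_right _ _ hn, Set.mem_mul]
  constructor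
  · rintro ⟨p, hp, q, hq, rfl⟩
    exact ⟨p, hp, q, hq, rfl⟩
  · rintro ⟨p, hp, q, hq, rfl⟩
    exact ⟨p, hp, q, hq, rfl⟩

theorem JT : P ⊔ Q ≤ T := sup_le h.PT h.QT

theorem uniq {p q p' q' : G} (hp : p ∈ P) (hq : q ∈ Q) (hp' : p' ∈ P) (hq' : q' ∈ Q) (e : p * q = p' * q') :
    p = p' ∧ q = q' := by
  have h1 : p'⁻¹ * p = q' * q⁻¹ := by
    calc p'⁻¹ * p = p'⁻¹ * (p * q) * q⁻¹ := by group
      _ = q' * q⁻¹ := by rw [e]; group
  have h2 := h.disj _ (mul_mem (inv_mem hp') hp) (by rw [h1]; exact mul_mem hq' (inv_mem hq))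
  have h3 : p = p' := (inv_mul_eq_one.mp h2).symm
  refine ⟨h3, ?_⟩
  rw [h3] at e
  exact mul_left_cancel e

theorem nJ {s g : G} (hs : s ∈ S) (hg : g ∈ P ⊔ Q) : s * g * s⁻¹ ∈ P ⊔ Q := by
  obtain ⟨p, hp, q, hq, rfl⟩ := (mem_J h).mp hg
  have e : s * (p * q) * s⁻¹ = (s * p * s⁻¹) * (s * q * s⁻¹) := by group
  rw [e]
  by_cases hsT : s ∈ T
  · exact mul_mem (mem_sup_left (h.nP s hsT p hp)) (mem_sup_right (h.nQ s hsT q hq))
  · exact mul_mem (mem_sup_right (sw_P h hs hsT hp)) (mem_sup_left (sw_Q h hs hsT hq))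

/-- an element of `T` commuting with `p q` commutes with `p` and `q` -/
theorem comm_of {y p q : G} (hy : y ∈ T) (hp : p ∈ P) (hq : q ∈ Q) (e : y * (p * q) = p * q * y) :
    y * p = p * y ∧ y * q = q * y := by
  have h1 : (y * p * y⁻¹) * (y * q * y⁻¹) = p * q := by
    calc (y * p * y⁻¹) * (y * q * y⁻¹) = y * (p * q) * y⁻¹ := by group
      _ = p * q := by rw [e]; group
  obtain ⟨h2, h3⟩ := uniq h (h.nP y hy p hp) (h.nQ y hy q hq) hp hq h1
  exact ⟨mul_inv_eq_iff_eq_mul.mp h2, mul_inv_eq_iff_eq_mul.mp h3⟩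

/-- a swap commuting with `p q` -/
theorem comm_sw {s p q : G} (hs : s ∈ S) (hsT : s ∉ T) (hp : p ∈ P) (hq : q ∈ Q) (e : s * (p * q) = p * q * s) :
    q = s * p * s⁻¹ ∧ p = s * q * s⁻¹ := by
  have h1 : (s * q * s⁻¹) * (s * p * s⁻¹) = p * q := by
    calc (s * q * s⁻¹) * (s * p * s⁻¹) = s * (q * p) * s⁻¹ := by group
      _ = s * (p * q) * s⁻¹ := by rw [h.comm p hp q hq]
      _ = p * q := by rw [e]; group
  obtain ⟨h2, h3⟩ := uniq h (sw_Q h hs hsT hq) (sw_P h hs hsT hp) hp hq h1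
  exact ⟨h3.symm, h2.symm⟩

/-! ### pure and mixed involutions -/

theorem pure_P {p : G} (hp : p ∈ P) (hp2 : p * p = 1) (hp1 : p ≠ 1) : IsConj a p := by
  obtain ⟨k, -, hk⟩ := h.cls p hp hp2 hp1
  refine (isConj_iff.mpr ⟨t, h.tb⟩ : IsConj a b).trans ?_
  exact (isConj_iff.mpr ⟨k, hk⟩ : IsConj p b).symm

theorem exists_kQ {q : G} (hq : q ∈ Q) (hq2 : q * q = 1) (hq1 : q ≠ 1) :
    ∃ k, (∀ p ∈ P, k * p = p * k) ∧ k * q * k⁻¹ = a := by
  have h1 : t⁻¹ * q * t ∈ P := by
    have h2 := sw_Q h (inv_mem h.tS) (fun hc => h.tn (inv_mem_iff.mp hc)) hq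
    rwa [inv_inv] at h2
  have h2 : t⁻¹ * q * t * (t⁻¹ * q * t) = 1 := by
    calc t⁻¹ * q * t * (t⁻¹ * q * t) = t⁻¹ * (q * q) * t := by group
      _ = 1 := by rw [hq2]; group
  have h3 : t⁻¹ * q * t ≠ 1 := by
    intro e
    apply hq1
    calc q = t * (t⁻¹ * q * t) * t⁻¹ := by group
      _ = 1 := by rw [e]; group
  obtain ⟨k, hk, hk2⟩ := h.cls _ h1 h2 h3
  refine ⟨t * k * t⁻¹, fun p hp => ?_, ?_⟩
  · have h4 : t⁻¹ * p * t ∈ Q := by
      have h5 := sw_P h (inv_mem h.tS) (fun hc => h.tn (inv_mem_iff.mp hc)) hp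
      rwa [inv_inv] at h5
    have h5 := h.KQ k hk _ h4
    calc t * k * t⁻¹ * p = t * (k * (t⁻¹ * p * t)) * t⁻¹ := by group
      _ = t * (t⁻¹ * p * t * k) * t⁻¹ := by rw [h5]
      _ = p * (t * k * t⁻¹) := by group
  · calc t * k * t⁻¹ * q * (t * k * t⁻¹)⁻¹ = t * (k * (t⁻¹ * q * t) * k⁻¹) * t⁻¹ := by group
      _ = a := by rw [hk2, h.ta]

theorem pure_Q {q : G} (hq : q ∈ Q) (hq2 : q * q = 1) (hq1 : q ≠ 1) : IsConj a q := by
  obtain ⟨k, -, hk⟩ := exists_kQ h hq hq2 hq1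
  exact (isConj_iff.mpr ⟨k, hk⟩ : IsConj q a).symm

theorem mixed {p q : G} (hp : p ∈ P) (hp2 : p * p = 1) (hp1 : p ≠ 1) (hq : q ∈ Q) (hq2 : q * q = 1) (hq1 : q ≠ 1) :
    IsConj (a * b) (p * q) := by
  obtain ⟨k, hk, hk2⟩ := h.cls p hp hp2 hp1
  obtain ⟨l, hl, hl2⟩ := exists_kQ h hq hq2 hq1
  refine (isConj_iff.mpr ⟨l * k, ?_⟩ : IsConj (p * q) (a * b)).symm
  have h1 := h.KQ k hk q hq
  have h2 := hl b (bP h)
  calc l * k * (p * q) * (l * k)⁻¹ = l * ((k * p * k⁻¹) * (k * q * k⁻¹)) * l⁻¹ := by group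
    _ = l * (b * q) * l⁻¹ := by rw [hk2, h1, mul_inv_cancel_right]
    _ = (l * b * l⁻¹) * (l * q * l⁻¹) := by group
    _ = b * a := by rw [h2, mul_inv_cancel_right, hl2]
    _ = a * b := h.comm b (bP h) a (aQ h)

theorem ab2 : a * b * (a * b) = 1 := by
  have h1 := h.comm b (bP h) a (aQ h)
  calc a * b * (a * b) = a * (b * a) * b := by group
    _ = a * (a * b) * b := by rw [h1]
    _ = (a * a) * (b * b) := by group
    _ = 1 := by rw [a2 h, b2 h, one_mul]

theorem sq_parts {p q : G} (hp : p ∈ P) (hq : q ∈ Q) (e : p * q * (p * q) = 1) : p * p = 1 ∧ q * q = 1 := by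
  have h1 : (p * p) * (q * q) = 1 * 1 := by
    rw [one_mul, ← e]
    calc p * p * (q * q) = p * (p * q) * q := by group
      _ = p * (q * p) * q := by rw [h.comm p hp q hq]
      _ = p * q * (p * q) := by group
  exact uniq h (mul_mem hp hp) (mul_mem hq hq) (one_mem _) (one_mem _) h1

/-- a mixed involution of `J` -/
theorem mixed_J (hpm : ¬ IsConj a (a * b)) {p q : G} (hp : p ∈ P) (hq : q ∈ Q) (he : IsConj (a * b) (p * q)) :
    p * p = 1 ∧ q * q = 1 ∧ p ≠ 1 ∧ q ≠ 1 := by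
  obtain ⟨h1, h2⟩ := sq_parts h hp hq (sq_of_conj he (ab2 h))
  have hne : p * q ≠ 1 := by
    intro e
    rw [e, isConj_one_left] at he
    · have h3 : a * b = 1 * 1 := by rw [he, one_mul]
      have h4 : b * a = 1 * 1 := by rw [h.comm b (bP h) a (aQ h), h3]
      exact h.b1 (uniq h (bP h) (aQ h) (one_mem _) (one_mem _) h4).1
  refine ⟨h1, h2, ?_, ?_⟩
  · rintro rfl
    rw [one_mul] at he hne
    exact hpm ((pure_Q h hq h2 hne).trans he.symm)
  · rintro rfl
    rw [mul_one] at he hne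
    exact hpm ((pure_P h hp h1 hne).trans he.symm)

/-- a pure involution of `J` -/
theorem pure_J (hpm : ¬ IsConj a (a * b)) {p q : G} (hp : p ∈ P) (hq : q ∈ Q) (he : IsConj a (p * q)) :
    p = 1 ∨ q = 1 := by
  by_contra hcon
  push Not at hcon
  obtain ⟨h1, h2⟩ := sq_parts h hp hq (sq_of_conj he (a2 h))
  exact hpm (he.trans (mixed h hp h1 hcon.1 hq h2 hcon.2).symm)

/-! ### counting -/

theorem card_T4 {H : Type*} [Group H] [Finite H] (φ : H →* G) (X : Subgroup H) (hX : ∀ y ∈ X, φ y ∈ T) :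
    Nat.card X ≤ Nat.card ↥((P ⊔ Q).comap φ ⊓ X) * 4 := by
  classical
  have h1 := card_le_of_type X ((P ⊔ Q).comap φ) (fun y => (decide (Fx A (φ y)), decide (Cn Z (φ y)))) (by
    intro y hy y' hy' e
    rw [Prod.mk.injEq, decide_eq_decide, decide_eq_decide] at e
    rw [mem_comap, map_mul, map_inv]
    exact (mem_J h).mpr (same_type h.toFr (hX y hy) (hX y' hy') e.1 e.2))
  have h2 : Nat.card (Bool × Bool) = 4 := by
    rw [Nat.card_eq_fintype_card, Fintype.card_prod, Fintype.card_bool]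
  rwa [h2] at h1

theorem card_T3 {H : Type*} [Group H] [Finite H] (φ : H →* G) (X : Subgroup H) (hX : ∀ y ∈ X, φ y ∈ T)
    (hx : ∀ y ∈ X, Fx A (φ y) ∨ Cn Z (φ y)) : Nat.card X ≤ Nat.card ↥((P ⊔ Q).comap φ ⊓ X) * 3 := by
  classical
  have h1 := card_le_of_type X ((P ⊔ Q).comap φ) (fun y => (if Fx A (φ y) then
      (if Cn Z (φ y) then 0 else 1) else 2 : Fin 3)) (by
    intro y hy y' hy' e
    rw [mem_comap, map_mul, map_inv]
    refine (mem_J h).mpr (same_type h.toFr (hX y hy) (hX y' hy') ?_ ?_)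
    · by_cases c1 : Fx A (φ y) <;> by_cases c2 : Fx A (φ y') <;> by_cases c3 : Cn Z (φ y) <;>
        by_cases c4 : Cn Z (φ y') <;> simp_all only [↓ _root_.reduceIte, _root_.Fin.isValue, _root_.zero_ne_one, _root_.one_ne_zero, _root_.Fin.reduceEq]
    · have k1 := hx y hy
      have k2 := hx y' hy'
      by_cases c1 : Fx A (φ y) <;> by_cases c2 : Fx A (φ y') <;> by_cases c3 : Cn Z (φ y) <;>
        by_cases c4 : Cn Z (φ y') <;> simp_all only [↓ _root_.reduceIte, _root_.Fin.isValue, _root_.or_self, _root_.zero_ne_one, _root_.one_ne_zero, _root_.or_false, _root_.Fin.reduceEq, _root_.or_true])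
  rwa [Nat.card_eq_fintype_card (α := Fin 3), Fintype.card_fin] at h1

theorem card_S2 {H : Type*} [Group H] [Finite H] (φ : H →* G) (X : Subgroup H) (hX : ∀ y ∈ X, φ y ∈ S) :
    Nat.card X ≤ Nat.card ↥(T.comap φ ⊓ X) * 2 := by
  classical
  have h1 := card_le_of_type X (T.comap φ) (fun y => decide (φ y ∈ T)) (by
    intro y hy y' hy' e
    rw [decide_eq_decide] at e
    rw [mem_comap, map_mul, map_inv]
    by_cases hc : φ y ∈ T
    · exact mul_mem (inv_mem hc) (e.mp hc)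
    · exact inv_mul_mem_T h (hX y hy) hc (hX y' hy') (fun h1 => hc (e.mpr h1)))
  rwa [Nat.card_eq_fintype_card (α := Bool), Fintype.card_bool] at h1

theorem card_S8 {H : Type*} [Group H] [Finite H] (φ : H →* G) (X : Subgroup H) (hX : ∀ y ∈ X, φ y ∈ S) :
    Nat.card X ≤ Nat.card ↥((P ⊔ Q).comap φ ⊓ X) * 8 := by
  have h1 := card_S2 h φ X hX
  have h2 := card_T4 h φ (T.comap φ ⊓ X) (fun y hy => hy.1)
  have h3 : (P ⊔ Q).comap φ ⊓ (T.comap φ ⊓ X) ≤ (P ⊔ Q).comap φ ⊓ X :=
    inf_le_inf le_rfl inf_le_right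
  have h4 := Subgroup.card_le_of_le h3
  omega

end dbl

/-! ### the `P`-part -/

open scoped Classical in
/-- the `P`-part of an element of `P Q` -/
noncomputable def pp (P Q : Subgroup G) (g : G) : G :=
  if h : ∃ p, p ∈ P ∧ ∃ q ∈ Q, g = p * q then h.choose else 1

section pp

variable (h : Dbl S T P Q Z A K a b t x)

include h

theorem pp_eq {p q : G} (hp : p ∈ P) (hq : q ∈ Q) : pp P Q (p * q) = p := by
  have h1 : ∃ p', p' ∈ P ∧ ∃ q' ∈ Q, p * q = p' * q' := ⟨p, hp, q, hq, rfl⟩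
  rw [pp, dif_pos h1]
  obtain ⟨h2, q', hq', e⟩ := h1.choose_spec
  exact (uniq h hp hq h2 hq' e).1.symm

theorem pp_spec {g : G} (hg : g ∈ P ⊔ Q) : pp P Q g ∈ P ∧ ∃ q ∈ Q, g = pp P Q g * q := by
  obtain ⟨p, hp, q, hq, rfl⟩ := (mem_J h).mp hg
  rw [pp_eq h hp hq]
  exact ⟨hp, q, hq, rfl⟩

theorem pp_mul {g g' : G} (hg : g ∈ P ⊔ Q) (hg' : g' ∈ P ⊔ Q) : pp P Q (g * g') = pp P Q g * pp P Q g' := by
  obtain ⟨p, hp, q, hq, rfl⟩ := (mem_J h).mp hg
  obtain ⟨p', hp', q', hq', rfl⟩ := (mem_J h).mp hg'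
  have e : p * q * (p' * q') = (p * p') * (q * q') := by
    calc p * q * (p' * q') = p * (q * p') * q' := by group
      _ = p * (p' * q) * q' := by rw [h.comm p' hp' q hq]
      _ = (p * p') * (q * q') := by group
  rw [e, pp_eq h (mul_mem hp hp') (mul_mem hq hq'), pp_eq h hp hq, pp_eq h hp' hq']

theorem pp_inv {g : G} (hg : g ∈ P ⊔ Q) : pp P Q g⁻¹ = (pp P Q g)⁻¹ := by
  obtain ⟨p, hp, q, hq, rfl⟩ := (mem_J h).mp hg
  have e : (p * q)⁻¹ = p⁻¹ * q⁻¹ := by
    rw [h.comm p hp q hq]; group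
  rw [e, pp_eq h (inv_mem hp) (inv_mem hq), pp_eq h hp hq]

/-- elements of `T` commuting with `g` commute with its `P`-part -/
theorem pp_comm {y g : G} (hy : y ∈ T) (hg : g ∈ P ⊔ Q) (e : y * g = g * y) :
    y * pp P Q g = pp P Q g * y := by
  obtain ⟨p, hp, q, hq, rfl⟩ := (mem_J h).mp hg
  rw [pp_eq h hp hq]
  exact (comm_of h hy hp hq e).1

theorem card_le_pp {H : Type*} [Group H] [Finite H] (ψ : H →* G) (Y : Subgroup H) (hY : ∀ y ∈ Y, ψ y ∈ P ⊔ Q)
    (hinj : ∀ y ∈ Y, pp P Q (ψ y) = 1 → y = 1) (C : Set G) (hfin : C.Finite) (hC : ∀ y ∈ Y, pp P Q (ψ y) ∈ C) :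
    Nat.card Y ≤ Nat.card C := by
  have : Finite C := hfin
  refine Nat.card_le_card_of_injective (fun y : Y => (⟨pp P Q (ψ y), hC y y.2⟩ : C)) ?_
  intro y y' e
  have e1 : pp P Q (ψ y) = pp P Q (ψ y') := congrArg Subtype.val e
  have e2 : pp P Q (ψ ((y : H)⁻¹ * y')) = 1 := by
    rw [map_mul, map_inv, pp_mul h (inv_mem (hY y y.2)) (hY y' y'.2), pp_inv h (hY y y.2), e1, inv_mul_cancel]
  have e3 := hinj _ (mul_mem (inv_mem y.2) y'.2) e2
  exact Subtype.ext (inv_mul_eq_one.mp e3)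

theorem surj_pp {H : Type*} [Group H] [Finite H] (ψ : H →* G) (Y : Subgroup H) (hY : ∀ y ∈ Y, ψ y ∈ P ⊔ Q)
    (hinj : ∀ y ∈ Y, pp P Q (ψ y) = 1 → y = 1) {C : G → Prop} (hC : ∀ y ∈ Y, C (pp P Q (ψ y)))
    (hfin : Finite {p // C p}) (hcard : Nat.card Y = Nat.card {p // C p}) :
    ∀ p, C p → ∃ n ∈ Y, pp P Q (ψ n) = p := by
  have hf : Function.Injective (fun y : Y => (⟨pp P Q (ψ y), hC y y.2⟩ : {p // C p})) := by
    intro y y' e
    have e1 : pp P Q (ψ y) = pp P Q (ψ y') := congrArg Subtype.val e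
    have e2 : pp P Q (ψ ((y : H)⁻¹ * y')) = 1 := by
      rw [map_mul, map_inv, pp_mul h (inv_mem (hY y y.2)) (hY y' y'.2), pp_inv h (hY y y.2), e1, inv_mul_cancel]
    have e3 := hinj _ (mul_mem (inv_mem y.2) y'.2) e2
    exact Subtype.ext (inv_mul_eq_one.mp e3)
  have hb := (Nat.bijective_iff_injective_and_card _).mpr ⟨hf, hcard⟩
  intro p hp
  obtain ⟨y, hy⟩ := hb.2 ⟨p, hp⟩
  exact ⟨y, y.2, congrArg Subtype.val hy⟩

end pp

/-! ### the image of the diagonal group -/

/-- `φ p = g (p p^w) g⁻¹`, `v = g w g⁻¹` -/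
structure Phi (S P : Subgroup G) (a b : G) (φ : ↥P →* G) (v : G) : Prop where
  inj : ∀ p, φ p = 1 → p = 1
  mS : ∀ p, φ p ∈ S
  cv : ∀ p, φ p * v = v * φ p
  mix : ∀ p, p * p = 1 → p ≠ 1 → IsConj (a * b) (φ p)
  vmul : ∀ p, p * p = 1 → IsConj v (v * φ p)
  nv : ∀ p, φ p ≠ v
  vT : v ∈ S
  v2 : v * v = 1

section phi

variable (h : Dbl S T P Q Z A K a b t x) {φ : ↥P →* G} {v : G} (F : Phi S P a b φ v)

include h F

omit h in
theorem v1 : v ≠ 1 := fun e => F.nv 1 (by rw [map_one, e])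

/-- `Z₁ ≤ J` -/
theorem φZ_J [Finite G] {z : ↥P} (hz : (z : G) ∈ Z) : φ z ∈ P ⊔ Q := by
  have h1 := card_S8 h φ ⊤ (fun y _ => F.mS y)
  rw [Subgroup.card_top, h.cardP] at h1
  obtain ⟨n, hn, hnZ⟩ : ∃ n : ↥P, φ n ∈ P ⊔ Q ∧ (n : G) ∉ Z := by
    by_contra hcon
    push Not at hcon
    have h2 : (P ⊔ Q).comap φ ⊓ ⊤ ≤ Z.subgroupOf P := fun n hn => mem_subgroupOf.mpr (hcon n hn.1)
    have h3 := Subgroup.card_le_of_le h2
    have h4 : Nat.card ↥(Z.subgroupOf P) = 4 := by
      rw [Nat.card_congr (Subgroup.subgroupOfEquivOfLe (ZP h.toHeis)).toEquiv, h.cardZ]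
    omega
  obtain ⟨r, hr, e⟩ := h.surj n n.2 hnZ z hz
  have h2 : z = n * (⟨r, hr⟩ * n⁻¹ * ⟨r, hr⟩⁻¹) := by
    apply Subtype.ext
    rw [← e]
    simp only [coe_mul, coe_inv]
    group
  rw [h2, map_mul, map_mul, map_mul, map_inv, map_inv]
  exact mul_mem hn (nJ h (F.mS _) (inv_mem hn))

/-- the involutions of `φ P ∩ J` are mixed -/
theorem parts (hpm : ¬ IsConj a (a * b)) {n : ↥P} {p q : G} (hp : p ∈ P) (hq : q ∈ Q) (e : φ n = p * q)
    (hn2 : n * n = 1) (hn1 : n ≠ 1) : p * p = 1 ∧ q * q = 1 ∧ p ≠ 1 ∧ q ≠ 1 := by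
  refine mixed_J h hpm hp hq ?_
  rw [← e]
  exact F.mix n hn2 hn1

/-- `φ n ∈ J` has a trivial component only if `n = 1` -/
theorem eq_one_of_part (hpm : ¬ IsConj a (a * b)) {n : ↥P} {p q : G} (hp : p ∈ P) (hq : q ∈ Q) (e : φ n = p * q)
    (h1 : p = 1 ∨ q = 1) : n = 1 := by
  by_cases hn : n * n = 1
  · by_contra hn1
    obtain ⟨-, -, h2, h3⟩ := parts h F hpm hp hq e hn hn1
    rcases h1 with h1 | h1
    · exact h2 h1
    · exact h3 h1
  · exfalso
    have h2 : (n * n) * (n * n) = 1 := Subtype.ext (h.Asq false _ (h.ZA false (h.sq n n.2)))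
    have h3 : φ (n * n) = (p * p) * (q * q) := by
      rw [map_mul, e]
      calc p * q * (p * q) = p * (q * p) * q := by group
        _ = p * (p * q) * q := by rw [h.comm p hp q hq]
        _ = p * p * (q * q) := by group
    obtain ⟨-, -, h4, h5⟩ := parts h F hpm (mul_mem hp hp) (mul_mem hq hq) h3 h2 hn
    rcases h1 with h1 | h1
    · exact h4 (by rw [h1, one_mul])
    · exact h5 (by rw [h1, one_mul])

omit F in
theorem exists_z0 : ∃ z ∈ Z, z ≠ 1 ∧ z ≠ b := by
  classical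
  by_contra hcon
  push Not at hcon
  have h1 : (Z : Set G) ⊆ (({1, b} : Finset G) : Set G) := by
    intro z hz
    simp only [Finset.coe_insert, Finset.coe_singleton, Set.mem_insert_iff, Set.mem_singleton_iff]
    by_cases hz1 : z = 1
    · exact Or.inl hz1
    · exact Or.inr (hcon z hz hz1)
  have h2 := Set.ncard_le_ncard h1 (Set.toFinite _)
  have h3 : (({1, b} : Finset G) : Set G).ncard ≤ 2 := by
    rw [Set.ncard_coe_finset]; exact Finset.card_le_two
  have h4 : (Z : Set G).ncard = 4 := h.cardZ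
  omega

/-- `v` is not pure -/
theorem not_pure [Finite G] (hpm : ¬ IsConj a (a * b)) (hvJ : v ∈ P ⊔ Q) (hv : IsConj a v) : False := by
  obtain ⟨z0, hz0, hz1, hzb⟩ := exists_z0 h
  have hvc := v1 F
  have key : ∀ z : ↥P, (z : G) ∈ Z → z ≠ 1 → ∀ p ∈ P, ∀ q ∈ Q, φ z = p * q → p ≠ 1 ∧ q ≠ 1 := by
    intro z hz hz1 p hp q hq e
    have hz2 : z * z = 1 := Subtype.ext (h.Asq false _ (h.ZA false hz))
    have h1 := parts h F hpm hp hq e hz2 hz1
    exact ⟨h1.2.2.1, h1.2.2.2⟩
  have hvm : ∀ z : ↥P, (z : G) ∈ Z → IsConj a (v * φ z) := fun z hz =>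
    hv.trans (F.vmul z (Subtype.ext (h.Asq false _ (h.ZA false hz))))
  have hbP := bP h
  have hz0P := ZP h.toHeis hz0
  set B : ↥P := ⟨b, hbP⟩ with hB
  set Z0 : ↥P := ⟨z0, hz0P⟩ with hZ0
  have hB1 : B ≠ 1 := fun e => h.b1 (congrArg Subtype.val e)
  have hZ1 : Z0 ≠ 1 := fun e => hz1 (congrArg Subtype.val e)
  have hBZ : B * Z0 ≠ 1 := by
    intro e
    have e1 : b * z0 = 1 := congrArg Subtype.val e
    apply hzb
    calc z0 = b⁻¹ * (b * z0) := by group
      _ = b⁻¹ := by rw [e1, mul_one]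
      _ = b := inv_eq_of_mul_eq_one_left (b2 h)
  have hBZZ : ((B * Z0 : ↥P) : G) ∈ Z := mul_mem h.bZ hz0
  obtain ⟨p, hp, q, hq, e⟩ := (mem_J h).mp (φZ_J h F (z := B) h.bZ)
  obtain ⟨p', hp', q', hq', e'⟩ := (mem_J h).mp (φZ_J h F (z := Z0) hz0)
  obtain ⟨k1, k2⟩ := key B h.bZ hB1 p hp q hq e
  obtain ⟨k3, k4⟩ := key Z0 hz0 hZ1 p' hp' q' hq' e'
  have c1 := hvm B h.bZ
  have c2 := hvm Z0 hz0
  have c3 : φ (B * Z0) = (p * p') * (q * q') := by
    rw [map_mul, e, e']
    calc p * q * (p' * q') = p * (q * p') * q' := by group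
      _ = p * (p' * q) * q' := by rw [h.comm p' hp' q hq]
      _ = (p * p') * (q * q') := by group
  obtain ⟨k5, k6⟩ := key _ hBZZ hBZ _ (mul_mem hp hp') _ (mul_mem hq hq') c3
  rw [e] at c1
  rw [e'] at c2
  obtain ⟨r, hr, s, hs, rfl⟩ := (mem_J h).mp hvJ
  have hrs := sq_parts h hr hs F.v2
  rcases pure_J h hpm hr hs hv with hr1 | hs1
  · subst hr1
    rw [one_mul] at c1 c2
    have e1 : s * (p * q) = p * (s * q) := by
      rw [← mul_assoc, ← h.comm p hp s hs, mul_assoc]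
    have e2 : s * (p' * q') = p' * (s * q') := by
      rw [← mul_assoc, ← h.comm p' hp' s hs, mul_assoc]
    rw [e1] at c1
    rw [e2] at c2
    have d1 : s * q = 1 := (pure_J h hpm hp (mul_mem hs hq) c1).resolve_left k1
    have d2 : s * q' = 1 := (pure_J h hpm hp' (mul_mem hs hq') c2).resolve_left k3
    apply k6
    have d3 : q = s⁻¹ := (inv_eq_of_mul_eq_one_right d1).symm
    have d4 : q' = s⁻¹ := (inv_eq_of_mul_eq_one_right d2).symm
    rw [d3, d4, ← mul_inv_rev, hrs.2, inv_one]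
  · subst hs1
    rw [mul_one] at c1 c2
    rw [← mul_assoc] at c1 c2
    have d1 : r * p = 1 := (pure_J h hpm (mul_mem hr hp) hq c1).resolve_right k2
    have d2 : r * p' = 1 := (pure_J h hpm (mul_mem hr hp') hq' c2).resolve_right k4
    apply k5
    have d3 : p = r⁻¹ := (inv_eq_of_mul_eq_one_right d1).symm
    have d4 : p' = r⁻¹ := (inv_eq_of_mul_eq_one_right d2).symm
    rw [d3, d4, ← mul_inv_rev, hrs.1, inv_one]

/-- `v` is not in `T - J` -/
theorem not_outer [Finite G] (hpm : ¬ IsConj a (a * b)) (hvT : v ∈ T) (hvJ : v ∉ P ⊔ Q) : False := by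
  have hni : ¬ ∃ p ∈ P, ∃ q ∈ Q, v = p * q := fun hc => hvJ ((mem_J h).mpr hc)
  have hvQ : v * v ∈ Q := by rw [F.v2]; exact one_mem _
  obtain ⟨N, hN⟩ : ∃ N, N = (P ⊔ Q).comap φ := ⟨_, rfl⟩
  have hNJ : ∀ n ∈ N, φ n ∈ P ⊔ Q := fun n hn => by rw [hN] at hn; exact hn
  have h1 := card_S8 h φ ⊤ (fun y _ => F.mS y)
  rw [Subgroup.card_top, h.cardP, inf_top_eq, ← hN] at h1
  have hinj : ∀ y ∈ N, pp P Q (φ y) = 1 → y = 1 := by
    intro y hy e
    obtain ⟨k1, q, hq, k2⟩ := pp_spec h (hNJ y hy)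
    exact eq_one_of_part h F hpm k1 hq k2 (Or.inl e)
  have hcom : ∀ y ∈ N, v * pp P Q (φ y) = pp P Q (φ y) * v := fun y hy =>
    pp_comm h hvT (hNJ y hy) (F.cv y).symm
  by_cases hc : Cn Z v
  · have h2 := card_le_pp h φ N hNJ hinj (Z : Set G) (Set.toFinite _) (fun y hy =>
      h.gZ v hvT hni hc hvQ _ (pp_spec h (hNJ y hy)).1 (hcom y hy))
    have h3 : Nat.card ↥(Z : Set G) = 4 := h.cardZ
    rw [h3] at h2
    omega
  · have h8 := h.card8 v hvT hvQ hc
    have h2 := card_le_pp h φ N hNJ hinj {p : G | p ∈ P ∧ v * p = p * v} (Set.toFinite _) (fun y hy =>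
      ⟨(pp_spec h (hNJ y hy)).1, hcom y hy⟩)
    have h3 : Nat.card N = 8 := by
      have : Nat.card ↥{p : G | p ∈ P ∧ v * p = p * v} = 8 := h8
      omega
    obtain ⟨c, hcP, d, hdP, e1, e2, e3⟩ := h.der v hvT hvQ hc
    -- surjectivity
    have hsur : ∀ p ∈ P, v * p = p * v → ∃ n ∈ N, pp P Q (φ n) = p := by
      have hf : Function.Injective (fun y : N => (⟨pp P Q (φ y), (pp_spec h (hNJ y y.2)).1, hcom y y.2⟩ :
          {p : G // p ∈ P ∧ v * p = p * v})) := by
        intro y y' e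
        have f1 : pp P Q (φ y) = pp P Q (φ y') := congrArg Subtype.val e
        have f2 : pp P Q (φ ((y : ↥P)⁻¹ * y')) = 1 := by
          rw [map_mul, map_inv, pp_mul h (inv_mem (hNJ y y.2)) (hNJ y' y'.2), pp_inv h (hNJ y y.2), f1,
            inv_mul_cancel]
        have f3 := hinj _ (mul_mem (inv_mem y.2) y'.2) f2
        exact Subtype.ext (inv_mul_eq_one.mp f3)
      have hb := (Nat.bijective_iff_injective_and_card _).mpr ⟨hf, by rw [h3, h8]⟩
      intro p hp hvp
      obtain ⟨y, hy⟩ := hb.2 ⟨p, hp, hvp⟩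
      exact ⟨y, y.2, congrArg Subtype.val hy⟩
    obtain ⟨n, hn, rfl⟩ := hsur c hcP e1
    obtain ⟨m, hm, rfl⟩ := hsur d hdP e2
    have hnm : n * m ≠ m * n := by
      intro e
      apply h.b1
      rw [← e3, ← pp_mul h (hNJ n hn) (hNJ m hm), ← map_mul, e, map_mul, pp_mul h (hNJ m hm) (hNJ n hn)]
      group
    -- `N` is abelian
    obtain ⟨Z', hZ'⟩ : ∃ Z', Z' = Z.subgroupOf P := ⟨_, rfl⟩
    have hZN : Z' ≤ N := by
      intro z hz
      rw [hZ', mem_subgroupOf] at hz
      rw [hN]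
      exact φZ_J h F hz
    have h4 : Nat.card ↥Z' = 4 := by
      rw [hZ', Nat.card_congr (Subgroup.subgroupOfEquivOfLe (ZP h.toHeis)).toEquiv, h.cardZ]
    have h5 : (Z'.subgroupOf N).index = 2 := by
      have h6 := (Z'.subgroupOf N).card_mul_index
      rw [Nat.card_congr (Subgroup.subgroupOfEquivOfLe hZN).toEquiv, h4, h3] at h6
      omega
    have hcen : ∀ z ∈ Z', ∀ y : ↥P, y * z = z * y := fun z hz y => by
      rw [hZ', mem_subgroupOf] at hz
      exact Subtype.ext (h.Zcen z hz y y.2)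
    by_cases hnZ : n ∈ Z'
    · exact hnm (hcen n hnZ m).symm
    by_cases hmZ : m ∈ Z'
    · exact hnm (hcen m hmZ n)
    have h6 := (Subgroup.mul_mem_iff_of_index_two h5 (a := ⟨n, hn⟩⁻¹) (b := ⟨m, hm⟩)).mpr (by
      rw [inv_mem_iff, mem_subgroupOf, mem_subgroupOf]
      exact ⟨fun h7 => absurd h7 hnZ, fun h7 => absurd h7 hmZ⟩)
    rw [mem_subgroupOf] at h6
    have h7 : (n⁻¹ * m) ∈ Z' := h6
    apply hnm
    have h8 := hcen _ h7 n
    calc n * m = n * (n * (n⁻¹ * m)) := by group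
      _ = n * ((n⁻¹ * m) * n) := by rw [h8]
      _ = m * n := by group

/-- a fully centralised mixed involution of `J` is `a b` -/
theorem eq_ab [Finite G] (hpm : ¬ IsConj a (a * b)) (hvJ : v ∈ P ⊔ Q) (hv : IsConj (a * b) v)
    (hfull : ∀ R : Subgroup G, IsPGroup 2 R → (∀ r ∈ R, r * v = v * r) →
      Nat.card R ≤ Nat.card {s : G // s ∈ S ∧ s * v = v * s}) : v = a * b := by
  obtain ⟨c, hc⟩ := isConj_iff.mp hv
  have hab := h.comm b (bP h) a (aQ h)
  have hS : ∀ s ∈ S, s * (a * b) = a * b * s := by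
    intro s hs
    by_cases hsT : s ∈ T
    · calc s * (a * b) = (s * a) * b := by group
        _ = a * (s * b) := by rw [h.Ta s hsT]; group
        _ = a * b * s := by rw [h.bT s hsT]; group
    · have e1 := sw_a h hs hsT
      have e2 := sw_b h hs hsT
      calc s * (a * b) = (s * a * s⁻¹) * (s * b * s⁻¹) * s := by group
        _ = b * a * s := by rw [e1, e2]
        _ = a * b * s := by rw [hab]
  have h1 := hfull (S.map (MulAut.conj c).toMonoidHom) (h.S2.map _) (by
    rintro _ ⟨s, hs, rfl⟩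
    change c * s * c⁻¹ * v = v * (c * s * c⁻¹)
    rw [← hc]
    calc c * s * c⁻¹ * (c * (a * b) * c⁻¹) = c * (s * (a * b)) * c⁻¹ := by group
      _ = c * (a * b * s) * c⁻¹ := by rw [hS s hs]
      _ = c * (a * b) * c⁻¹ * (c * s * c⁻¹) := by group)
  rw [Nat.card_congr (S.equivMapOfInjective _ (MulAut.conj c).injective).symm.toEquiv] at h1
  have hcen : ∀ s ∈ S, s * v = v * s := by
    have h2 : {s : G | s ∈ S ∧ s * v = v * s} ⊆ (S : Set G) := fun s hs => hs.1
    have h3 : {s : G | s ∈ S ∧ s * v = v * s} = (S : Set G) :=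
      Set.eq_of_subset_of_ncard_le h2 h1 (Set.toFinite _)
    intro s hs
    have h4 : s ∈ {s : G | s ∈ S ∧ s * v = v * s} := by rw [h3]; exact hs
    exact h4.2
  obtain ⟨p, hp, q, hq, rfl⟩ := (mem_J h).mp hvJ
  obtain ⟨-, -, hp1, -⟩ := mixed_J h hpm hp hq hv
  have h2 : ∀ y ∈ T, y * p = p * y := fun y hy => (comm_of h hy hp hq (hcen y (h.TS hy))).1
  have hpZ : p ∈ Z := mem_Z_of_central h.toHeis hp fun r hr => (h2 r (h.PT hr)).symm
  have hpb : p = b := by
    rcases h.actZ x h.xT with h3 | h3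
    · exact absurd h3 h.xZ
    · rcases h3 p hpZ (h2 x h.xT) with h4 | h4
      · exact absurd h4 hp1
      · exact h4
  have h3 := (comm_sw h h.tS h.tn hp hq (hcen t h.tS)).1
  rw [h3, hpb, h.ta]
  exact hab

/-- the main step of the mixed case -/
theorem exists_pair [Finite G] (hpm : ¬ IsConj a (a * b)) (hvJ : v ∈ P ⊔ Q) (hv : IsConj (a * b) v) (i : Bool) :
    ∃ c e : ↥P, (c : G) ∈ A i ∧ (c : G) ∉ Z ∧ φ c ∈ P ⊔ Q ∧ (e : G) ∈ A i ∧ φ e ∉ T := by
  classical
  have hvT := JT h hvJ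
  have hvc := v1 F
  have hz : ∀ y ∈ zpowers v, y = 1 ∨ y = v := by
    intro y hy
    obtain ⟨k, rfl⟩ := mem_zpowers_iff.mp hy
    have h2 : v ^ (2 : ℤ) = 1 := by rw [zpow_two, F.v2]
    rcases Int.even_or_odd' k with ⟨m, hm | hm⟩
    · left; rw [hm, zpow_mul, h2, one_zpow]
    · right; rw [hm, zpow_add, zpow_mul, h2, one_zpow, one_mul, zpow_one]
  have hcz : Nat.card (zpowers v) = 2 := by
    rw [Nat.card_zpowers]
    exact orderOf_eq_prime (by rw [pow_two]; exact F.v2) hvc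
  have hcom : ∀ (p : ↥P) (y : zpowers v), Commute (φ p) ((zpowers v).subtype y) := by
    rintro p ⟨y, hy⟩
    rcases hz y hy with rfl | rfl
    · exact Commute.one_right _
    · exact F.cv p
  obtain ⟨ψ, hψ⟩ : ∃ ψ : ↥P × zpowers v →* G, ∀ p y, ψ (p, y) = φ p * y :=
    ⟨φ.noncommCoprod (zpowers v).subtype hcom, fun p y => MonoidHom.noncommCoprod_apply _ _ _ _⟩
  obtain ⟨X, hX⟩ : ∃ X, X = ((A i).subgroupOf P).prod (⊤ : Subgroup (zpowers v)) := ⟨_, rfl⟩
  have hXm : ∀ y : ↥P × zpowers v, y ∈ X → (y.1 : G) ∈ A i := fun y hy => by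
    rw [hX] at hy
    exact mem_subgroupOf.mp hy.1
  have hXm' : ∀ y : ↥P × zpowers v, (y.1 : G) ∈ A i → y ∈ X := fun y hy => by
    rw [hX]
    exact ⟨mem_subgroupOf.mpr hy, mem_top _⟩
  have hcX : Nat.card X = 32 := by
    rw [hX, Nat.card_congr (Subgroup.prodEquiv _ _).toEquiv, Nat.card_prod,
      Nat.card_congr (Subgroup.subgroupOfEquivOfLe (h.AP i)).toEquiv, h.cardA, Nat.card_congr
      (Subgroup.topEquiv (G := zpowers v)).toEquiv, hcz]
  have hψS : ∀ y, ψ y ∈ S := by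
    rintro ⟨p, y, hy⟩
    rw [hψ]
    refine mul_mem (F.mS p) ?_
    rcases hz y hy with rfl | rfl
    · exact one_mem _
    · exact F.vT
  have hmix : ∀ y ∈ X, y ≠ 1 → IsConj (a * b) (ψ y) := by
    rintro ⟨p, y, hy⟩ hyX hne
    have hp : p * p = 1 := Subtype.ext (h.Asq i _ (hXm _ hyX))
    rw [hψ]
    rcases hz y hy with rfl | rfl
    · rw [mul_one]
      refine F.mix p hp fun e => hne ?_
      rw [e]; rfl
    · change IsConj _ (φ p * _)
      rw [F.cv p]
      exact hv.trans (F.vmul p hp)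
  have hsq : ∀ y ∈ X, ψ y * ψ y = 1 := by
    intro y hy
    by_cases hy1 : y = 1
    · rw [hy1, map_one, one_mul]
    · exact sq_of_conj (hmix y hy hy1) (ab2 h)
  have hcomX : ∀ y ∈ X, ∀ y' ∈ X, y * y' = y' * y := by
    rintro ⟨p, y⟩ hy ⟨p', y'⟩ hy'
    refine Prod.ext (Subtype.ext (A_comm h.toHeis (hXm _ hy) (hXm _ hy'))) (Subtype.ext ?_)
    change (y : G) * y' = y' * y
    rcases hz _ y.2 with e | e <;> rcases hz _ y'.2 with e' | e' <;> simp [e, e']
  have hinj : ∀ y ∈ X, ψ y ∈ P ⊔ Q → pp P Q (ψ y) = 1 → y = 1 := by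
    intro y hy hyJ e
    by_contra hy1
    obtain ⟨k1, q, hq, k2⟩ := pp_spec h hyJ
    have k3 := hmix y hy hy1
    rw [k2] at k3
    exact (mixed_J h hpm k1 hq k3).2.2.1 e
  obtain ⟨Y, hY⟩ : ∃ Y, Y = (P ⊔ Q).comap ψ ⊓ X := ⟨_, rfl⟩
  have hYX : Y ≤ X := by rw [hY]; exact inf_le_right
  have hYJ : ∀ y ∈ Y, ψ y ∈ P ⊔ Q := fun y hy => by rw [hY] at hy; exact hy.1
  have hYi : ∀ y ∈ Y, pp P Q (ψ y) = 1 → y = 1 := fun y hy => hinj y (hYX hy) (hYJ y hy)
  have hpsq : ∀ y ∈ Y, pp P Q (ψ y) * pp P Q (ψ y) = 1 := by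
    intro y hy
    obtain ⟨k1, q, hq, k2⟩ := pp_spec h (hYJ y hy)
    have k3 := hsq y (hYX hy)
    have k4 := pp_eq h (one_mem P) (one_mem Q)
    rw [one_mul] at k4
    rw [← pp_mul h (hYJ y hy) (hYJ y hy), k3, k4]
  obtain ⟨XT, hXT⟩ : ∃ XT, XT = T.comap ψ ⊓ X := ⟨_, rfl⟩
  have hXT1 : 16 ≤ Nat.card XT := by
    have h1 := card_S2 h ψ X (fun y _ => hψS y)
    rw [← hXT] at h1
    omega
  have hYXT : (P ⊔ Q).comap ψ ⊓ XT ≤ Y := by
    rw [hY, hXT]
    exact inf_le_inf le_rfl inf_le_right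
  have hYc := Subgroup.card_le_of_le hYXT
  have hTc : ∀ e ∈ XT, ∀ y ∈ Y, ψ e * pp P Q (ψ y) = pp P Q (ψ y) * ψ e := by
    intro e he y hy
    rw [hXT] at he
    refine pp_comm h he.1 (hYJ y hy) ?_
    rw [← map_mul, ← map_mul, hcomX e he.2 y (hYX hy)]
  -- `XT ≤ J`
  have hTJ : ∀ e ∈ XT, ψ e ∈ P ⊔ Q := by
    intro e he
    by_contra heJ
    have he' := he
    rw [hXT] at he'
    have heT : ψ e ∈ T := he'.1
    have hni : ¬ ∃ p ∈ P, ∃ q ∈ Q, ψ e = p * q := fun hc => heJ ((mem_J h).mpr hc)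
    have heQ : ψ e * ψ e ∈ Q := by rw [hsq e he'.2]; exact one_mem _
    by_cases hxt : ∃ f ∈ XT, ¬ (Fx A (ψ f) ∨ Cn Z (ψ f))
    · obtain ⟨f, hf, hfx⟩ := hxt
      push Not at hfx
      have hf' := hf
      rw [hXT] at hf'
      have hfQ : ψ f * ψ f ∈ Q := by rw [hsq f hf'.2]; exact one_mem _
      have hsw : Sw A (ψ f) := (h.actA _ hf'.1).resolve_left hfx.1
      have h2 := card_le_pp h ψ Y hYJ hYi (({1, b} : Finset G) : Set G) (Set.toFinite _) (fun y hy => by
        simp only [Finset.coe_insert, Finset.coe_singleton, Set.mem_insert_iff, Set.mem_singleton_iff]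
        exact h.xQ8 _ hf'.1 hfQ hfx.2 hsw _ (pp_spec h (hYJ y hy)).1 (hTc f hf y hy) (hpsq y hy))
      have h3 : Nat.card ↥(({1, b} : Finset G) : Set G) ≤ 2 := by
        rw [Nat.card_coe_set_eq, Set.ncard_coe_finset]
        exact Finset.card_le_two
      have h4 := card_T4 h ψ XT (fun y hy => by rw [hXT] at hy; exact hy.1)
      omega
    · push Not at hxt
      have h4 := card_T3 h ψ XT (fun y hy => by rw [hXT] at hy; exact hy.1) (fun y hy => by
        by_cases hc : Fx A (ψ y)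
        · exact Or.inl hc
        · exact Or.inr (by_contra fun hcon => (hxt y hy).elim hc hcon))
      by_cases hc : Cn Z (ψ e)
      · have h2 := card_le_pp h ψ Y hYJ hYi (Z : Set G) (Set.toFinite _) (fun y hy =>
          h.gZ _ heT hni hc heQ _ (pp_spec h (hYJ y hy)).1 (hTc e he y hy))
        have h3 : Nat.card ↥(Z : Set G) = 4 := h.cardZ
        omega
      · have h8 := h.card8 _ heT heQ hc
        have h2 := card_le_pp h ψ Y hYJ hYi {p : G | p ∈ P ∧ ψ e * p = p * ψ e} (Set.toFinite _)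
          (fun y hy => ⟨(pp_spec h (hYJ y hy)).1, hTc e he y hy⟩)
        have h3 : Nat.card ↥{p : G | p ∈ P ∧ ψ e * p = p * ψ e} = 8 := h8
        have h5 : Nat.card Y ∣ 32 := by rw [← hcX]; exact Subgroup.card_dvd_of_le hYX
        have h6 : Nat.card Y = 8 := by
          have h7 : Nat.card Y ≤ 8 := by omega
          have h9 : 6 ≤ Nat.card Y := by omega
          generalize Nat.card Y = k at *
          interval_cases k <;> omega
        have hsur := surj_pp h ψ Y hYJ hYi (C := fun p => p ∈ P ∧ ψ e * p = p * ψ e)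
          (fun y hy => ⟨(pp_spec h (hYJ y hy)).1, hTc e he y hy⟩)
          (Nat.finite_of_card_ne_zero (by rw [h8]; norm_num)) (by rw [h6, h8])
        obtain ⟨c, hcP, d, hdP, e1, e2, e3⟩ := h.der _ heT heQ hc
        obtain ⟨n, hn, rfl⟩ := hsur c ⟨hcP, e1⟩
        obtain ⟨m, hm, rfl⟩ := hsur d ⟨hdP, e2⟩
        apply h.b1
        rw [← e3, ← pp_mul h (hYJ n hn) (hYJ m hm), ← map_mul, hcomX n (hYX hn) m (hYX hm), map_mul,
          pp_mul h (hYJ m hm) (hYJ n hn)]
        group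
  -- the element `c`
  obtain ⟨c, hcA, hcZ, hcT⟩ : ∃ c : ↥P, (c : G) ∈ A i ∧ (c : G) ∉ Z ∧ φ c ∈ T := by
    by_contra hcon
    push Not at hcon
    have h1 := card_S2 h φ ((A i).subgroupOf P) (fun y _ => F.mS y)
    rw [Nat.card_congr (Subgroup.subgroupOfEquivOfLe (h.AP i)).toEquiv, h.cardA] at h1
    have h2 : T.comap φ ⊓ (A i).subgroupOf P ≤ Z.subgroupOf P := by
      rintro y ⟨hy, hyA⟩
      rw [mem_subgroupOf]
      by_contra hyZ
      exact hcon y (mem_subgroupOf.mp hyA) hyZ hy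
    have h3 := Subgroup.card_le_of_le h2
    have h4 : Nat.card ↥(Z.subgroupOf P) = 4 := by
      rw [Nat.card_congr (Subgroup.subgroupOfEquivOfLe (ZP h.toHeis)).toEquiv, h.cardZ]
    omega
  -- the element `e`
  obtain ⟨e, heA, heT⟩ : ∃ e : ↥P, (e : G) ∈ A i ∧ φ e ∉ T := by
    by_contra hcon
    push Not at hcon
    have h1 : X ≤ Y := by
      intro y hyX
      rw [hY]
      refine ⟨mem_comap.mpr (hTJ y ?_), hyX⟩
      rw [hXT]
      refine ⟨mem_comap.mpr ?_, hyX⟩
      obtain ⟨p, y, hy⟩ := y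
      rw [hψ]
      refine mul_mem (hcon p (hXm _ hyX)) ?_
      rcases hz y hy with rfl | rfl
      · exact one_mem _
      · exact hvT
    have h2 : Nat.card Y = 32 := by rw [le_antisymm hYX h1, hcX]
    obtain ⟨y0, hy0, hy0Z⟩ : ∃ y ∈ Y, pp P Q (ψ y) ∉ Z := by
      by_contra hcon2
      push Not at hcon2
      have h3 := card_le_pp h ψ Y hYJ hYi (Z : Set G) (Set.toFinite _) hcon2
      have h4 : Nat.card ↥(Z : Set G) = 4 := h.cardZ
      omega
    obtain ⟨j, hj⟩ := h.inv _ (pp_spec h (hYJ y0 hy0)).1 (hpsq y0 hy0)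
    have h3 := card_le_pp h ψ Y hYJ hYi (A j : Set G) (Set.toFinite _) (fun y hy =>
      h.cen j _ hj hy0Z _ (pp_spec h (hYJ y hy)).1 (by
        rw [← pp_mul h (hYJ y hy) (hYJ y0 hy0), ← pp_mul h (hYJ y0 hy0) (hYJ y hy), ← map_mul, ← map_mul,
          hcomX y (hYX hy) y0 (hYX hy0)]))
    have h4 : Nat.card ↥(A j : Set G) = 16 := h.cardA j
    omega
  refine ⟨c, e, hcA, hcZ, ?_, heA, heT⟩
  have h1 := hTJ (c, 1) (by
    rw [hXT]
    refine ⟨mem_comap.mpr ?_, hXm' _ hcA⟩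
    rw [hψ]
    exact mul_mem hcT (one_mem _))
  rw [hψ] at h1
  simpa only [_root_.OneMemClass.coe_one, _root_.mul_one] using h1

/-- `v` is not mixed -/
theorem not_mixed [Finite G] (hpm : ¬ IsConj a (a * b)) (hvJ : v ∈ P ⊔ Q) (hv : IsConj (a * b) v)
    (hfull : ∀ R : Subgroup G, IsPGroup 2 R → (∀ r ∈ R, r * v = v * r) →
      Nat.card R ≤ Nat.card {s : G // s ∈ S ∧ s * v = v * s}) : False := by
  have hab := eq_ab h F hpm hvJ hv hfull
  obtain ⟨c, e0, hcA, hcZ, hcJ, he0A, he0T⟩ := exists_pair h F hpm hvJ hv false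
  obtain ⟨d, e1, hdA, hdZ, hdJ, he1A, he1T⟩ := exists_pair h F hpm hvJ hv true
  have he0S := F.mS e0
  have he1S := F.mS e1
  obtain ⟨p, hp, q, hq, ec⟩ := (mem_J h).mp hcJ
  obtain ⟨r, hr, s, hs, ed⟩ := (mem_J h).mp hdJ
  have hcd : c * d ≠ d * c := by
    intro e
    exact hdZ (h.inf _ (h.cen false c hcA hcZ d (h.AP _ hdA) (congrArg Subtype.val e).symm) hdA)
  have hc2 : φ c * φ c = 1 := by
    have k : c * c = 1 := Subtype.ext (h.Asq _ _ hcA)
    rw [← map_mul, k, map_one]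
  have hd2 : φ d * φ d = 1 := by
    have k : d * d = 1 := Subtype.ext (h.Asq _ _ hdA)
    rw [← map_mul, k, map_one]
  have hφ : φ c * φ d ≠ φ d * φ c := by
    intro e
    apply hcd
    have h1 : φ (c * d * (d * c)⁻¹) = 1 := by
      rw [map_mul, map_inv, map_mul, map_mul, e, mul_inv_cancel]
    exact mul_inv_eq_one.mp (F.inj _ h1)
  rw [ec] at hc2
  rw [ed] at hd2
  obtain ⟨hp2, hq2⟩ := sq_parts h hp hq hc2
  obtain ⟨hr2, hs2⟩ := sq_parts h hr hs hd2
  have hJZ : ∀ z : ↥P, (z : G) ∈ Z → ∀ α ∈ P, ∀ β ∈ Q, φ z = α * β →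
      α ∈ Z ∧ β = φ e0 * α * (φ e0)⁻¹ := by
    intro z hz α hα β hβ e
    have hze : φ e0 * (α * β) = α * β * φ e0 := by
      rw [← e, ← map_mul, ← map_mul]
      exact congrArg φ (Subtype.ext (h.Zcen z hz e0 e0.2))
    obtain ⟨f1, f2⟩ := comm_sw h he0S he0T hα hβ hze
    refine ⟨?_, f1⟩
    -- commutation with `c`, `d`
    have g1 : (α * β) * (p * q) = (p * q) * (α * β) := by
      rw [← e, ← ec, ← map_mul, ← map_mul]
      exact congrArg φ (Subtype.ext (h.Zcen z hz c c.2).symm)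
    have g2 : (α * β) * (r * s) = (r * s) * (α * β) := by
      rw [← e, ← ed, ← map_mul, ← map_mul]
      exact congrArg φ (Subtype.ext (h.Zcen z hz d d.2).symm)
    have split : ∀ p₁ ∈ P, ∀ q₁ ∈ Q, ∀ p₂ ∈ P, ∀ q₂ ∈ Q, (p₁ * q₁) * (p₂ * q₂) = (p₂ * q₂) * (p₁ * q₁) →
        p₁ * p₂ = p₂ * p₁ ∧ q₁ * q₂ = q₂ * q₁ := by
      intro p₁ hp₁ q₁ hq₁ p₂ hp₂ q₂ hq₂ k
      apply uniq h (mul_mem hp₁ hp₂) (mul_mem hq₁ hq₂) (mul_mem hp₂ hp₁) (mul_mem hq₂ hq₁)
      calc p₁ * p₂ * (q₁ * q₂) = p₁ * (p₂ * q₁) * q₂ := by group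
        _ = p₁ * (q₁ * p₂) * q₂ := by rw [h.comm p₂ hp₂ q₁ hq₁]
        _ = (p₁ * q₁) * (p₂ * q₂) := by group
        _ = (p₂ * q₂) * (p₁ * q₁) := k
        _ = p₂ * (q₂ * p₁) * q₁ := by group
        _ = p₂ * (p₁ * q₂) * q₁ := by rw [h.comm p₁ hp₁ q₂ hq₂]
        _ = p₂ * p₁ * (q₂ * q₁) := by group
    obtain ⟨a1, a2⟩ := split α hα β hβ p hp q hq g1
    obtain ⟨a3, a4⟩ := split α hα β hβ r hr s hs g2
    by_cases hpr : p * r = r * p
    · have hqs : q * s ≠ s * q := by
        intro k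
        apply hφ
        rw [ec, ed]
        calc (p * q) * (r * s) = p * (q * r) * s := by group
          _ = p * (r * q) * s := by rw [h.comm r hr q hq]
          _ = (p * r) * (q * s) := by group
          _ = (r * p) * (s * q) := by rw [hpr, k]
          _ = r * (p * s) * q := by group
          _ = r * (s * p) * q := by rw [h.comm p hp s hs]
          _ = (r * s) * (p * q) := by group
      have m1 := sw_Q h he0S he0T hq
      have m2 := sw_Q h he0S he0T hs
      refine mem_Z_of_comm h.toHeis m1 m2 ?_ ?_ ?_ hα ?_ ?_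
      · calc φ e0 * q * (φ e0)⁻¹ * (φ e0 * q * (φ e0)⁻¹) = φ e0 * (q * q) * (φ e0)⁻¹ := by group
          _ = 1 := by rw [hq2]; group
      · calc φ e0 * s * (φ e0)⁻¹ * (φ e0 * s * (φ e0)⁻¹) = φ e0 * (s * s) * (φ e0)⁻¹ := by group
          _ = 1 := by rw [hs2]; group
      · intro k
        apply hqs
        calc q * s = (φ e0)⁻¹ * (φ e0 * q * (φ e0)⁻¹ * (φ e0 * s * (φ e0)⁻¹)) * φ e0 := by group
          _ = (φ e0)⁻¹ * (φ e0 * s * (φ e0)⁻¹ * (φ e0 * q * (φ e0)⁻¹)) * φ e0 := by rw [k]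
          _ = s * q := by group
      · rw [f2]
        calc φ e0 * β * (φ e0)⁻¹ * (φ e0 * q * (φ e0)⁻¹) = φ e0 * (β * q) * (φ e0)⁻¹ := by group
          _ = φ e0 * (q * β) * (φ e0)⁻¹ := by rw [a2]
          _ = φ e0 * q * (φ e0)⁻¹ * (φ e0 * β * (φ e0)⁻¹) := by group
      · rw [f2]
        calc φ e0 * β * (φ e0)⁻¹ * (φ e0 * s * (φ e0)⁻¹) = φ e0 * (β * s) * (φ e0)⁻¹ := by group
          _ = φ e0 * (s * β) * (φ e0)⁻¹ := by rw [a4]
          _ = φ e0 * s * (φ e0)⁻¹ * (φ e0 * β * (φ e0)⁻¹) := by group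
    · exact mem_Z_of_comm h.toHeis hp hr hp2 hr2 hpr hα a1 a3
  -- surjectivity of `Z → Z`
  have hfin : Finite ↥Z := Nat.finite_of_card_ne_zero (by rw [h.cardZ]; norm_num)
  have hzJ : ∀ z : ↥Z, φ ⟨z, ZP h.toHeis z.2⟩ ∈ P ⊔ Q := fun z => φZ_J h F z.2
  have hf : Function.Injective (fun z : ↥Z => (⟨pp P Q (φ ⟨z, ZP h.toHeis z.2⟩), by
      obtain ⟨k1, β, hβ, k2⟩ := pp_spec h (hzJ z)
      exact (hJZ _ z.2 _ k1 β hβ k2).1⟩ : ↥Z)) := by
    intro z z' e
    have e1 : pp P Q (φ ⟨z, ZP h.toHeis z.2⟩) = pp P Q (φ ⟨z', ZP h.toHeis z'.2⟩) := congrArg Subtype.val e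
    have e2 : pp P Q (φ ((⟨z, ZP h.toHeis z.2⟩ : ↥P)⁻¹ * ⟨z', ZP h.toHeis z'.2⟩)) = 1 := by
      rw [map_mul, map_inv, pp_mul h (inv_mem (hzJ z)) (hzJ z'), pp_inv h (hzJ z), e1, inv_mul_cancel]
    have e3 : φ ((⟨z, ZP h.toHeis z.2⟩ : ↥P)⁻¹ * ⟨z', ZP h.toHeis z'.2⟩) ∈ P ⊔ Q := by
      rw [map_mul, map_inv]
      exact mul_mem (inv_mem (hzJ z)) (hzJ z')
    obtain ⟨k1, β, hβ, k2⟩ := pp_spec h e3
    have e4 := eq_one_of_part h F hpm k1 hβ k2 (Or.inl e2)
    have e5 := congrArg Subtype.val (inv_mul_eq_one.mp e4)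
    exact Subtype.ext e5
  obtain ⟨z, hz⟩ := (Finite.injective_iff_surjective.mp hf) ⟨b, h.bZ⟩
  have hzb : pp P Q (φ ⟨z, ZP h.toHeis z.2⟩) = b := congrArg Subtype.val hz
  obtain ⟨k1, β, hβ, k2⟩ := pp_spec h (hzJ z)
  have k3 := (hJZ _ z.2 _ k1 β hβ k2).2
  rw [hzb] at k2 k3
  rw [sw_b h he0S he0T] at k3
  apply F.nv ⟨z, ZP h.toHeis z.2⟩
  rw [k2, k3, hab, h.comm b (bP h) a (aQ h)]

/-- the contradiction -/
theorem false_of_phi [Finite G] (hpm : ¬ IsConj a (a * b)) (hvT : v ∈ T)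
    (hfull : ∀ R : Subgroup G, IsPGroup 2 R → (∀ r ∈ R, r * v = v * r) →
      Nat.card R ≤ Nat.card {s : G // s ∈ S ∧ s * v = v * s}) : False := by
  by_cases hvJ : v ∈ P ⊔ Q
  · obtain ⟨p, hp, q, hq, e⟩ := (mem_J h).mp hvJ
    have hvc := v1 F
    have h2 := F.v2
    rw [e] at h2
    obtain ⟨hp2, hq2⟩ := sq_parts h hp hq h2
    by_cases hp1 : p = 1
    · rw [hp1, one_mul] at e
      refine not_pure h F hpm hvJ ?_
      rw [e]
      exact pure_Q h hq hq2 (fun k => hvc (by rw [e, k]))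
    · by_cases hq1 : q = 1
      · rw [hq1, mul_one] at e
        refine not_pure h F hpm hvJ ?_
        rw [e]
        exact pure_P h hp hp2 hp1
      · refine not_mixed h F hpm hvJ ?_ hfull
        rw [e]
        exact mixed h hp hp2 hp1 hq hq2 hq1
  · exact not_outer h F hpm hvT hvJ

end phi

/-- **(alpha)**: an involution `w ∈ S - T` is not conjugate to a fully centralised involution of `T`. -/
theorem alpha [Finite G] (h : Dbl S T P Q Z A K a b t x) (hpm : ¬ IsConj a (a * b)) {w g : G} (hw : w ∈ S)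
    (hwT : w ∉ T) (hw2 : w * w = 1) (hvT : g * w * g⁻¹ ∈ T) (hC : ∀ s ∈ S, s * w = w * s → g * s * g⁻¹ ∈ S)
    (hfull : ∀ R : Subgroup G, IsPGroup 2 R → (∀ r ∈ R, r * (g * w * g⁻¹) = g * w * g⁻¹ * r) →
      Nat.card R ≤ Nat.card {s : G // s ∈ S ∧ s * (g * w * g⁻¹) = g * w * g⁻¹ * s}) : False := by
  have hwi : w⁻¹ = w := inv_eq_of_mul_eq_one_left hw2
  have hcom : ∀ p ∈ P, ∀ r ∈ P, p * (w * r * w⁻¹) = (w * r * w⁻¹) * p := fun p hp r hr =>
    h.comm p hp _ (sw_P h hw hwT hr)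
  let D : ↥P →* G :=
    { toFun := fun p => g * (p * (w * p * w⁻¹)) * g⁻¹
      map_one' := by
        change g * (1 * (w * 1 * w⁻¹)) * g⁻¹ = 1
        group
      map_mul' := by
        intro p r
        change g * (p * r * (w * (p * r) * w⁻¹)) * g⁻¹ = g * (p * (w * p * w⁻¹)) * g⁻¹ * (g * (r * (w * r * w⁻¹)) * g⁻¹)
        calc g * ((p : G) * r * (w * (p * r) * w⁻¹)) * g⁻¹
            = g * (p * (r * (w * p * w⁻¹)) * (w * r * w⁻¹)) * g⁻¹ := by group
          _ = g * (p * ((w * p * w⁻¹) * r) * (w * r * w⁻¹)) * g⁻¹ := by rw [hcom r r.2 p p.2]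
          _ = g * (p * (w * p * w⁻¹)) * g⁻¹ * (g * (r * (w * r * w⁻¹)) * g⁻¹) := by group }
  have hD : ∀ p : ↥P, D p = g * (p * (w * p * w⁻¹)) * g⁻¹ := fun _ => rfl
  have hDw : ∀ p : ↥P, ((p : G) * (w * p * w⁻¹)) * w = w * (p * (w * p * w⁻¹)) := by
    intro p
    calc ((p : G) * (w * p * w⁻¹)) * w = p * (w * p) := by group
      _ = p * (w * p * w⁻¹) * w := by group
      _ = (w * p * w⁻¹) * p * w := by rw [hcom p p.2 p p.2]
      _ = w * (p * (w⁻¹ * p * w)) := by group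
      _ = w * (p * (w * p * w⁻¹)) := by rw [hwi]
  have hDS : ∀ p : ↥P, (p : G) * (w * p * w⁻¹) ∈ S := fun p =>
    mul_mem (h.TS (h.PT p.2)) (mul_mem (mul_mem hw (h.TS (h.PT p.2))) (inv_mem hw))
  refine false_of_phi h (φ := D) (v := g * w * g⁻¹) ?_ hpm hvT hfull
  refine { inj := ?_, mS := ?_, cv := ?_, mix := ?_, vmul := ?_, nv := ?_, vT := h.TS hvT, v2 := ?_ }
  · intro p e
    rw [hD] at e
    have e1 : (p : G) * (w * p * w⁻¹) = 1 * 1 := by
      calc (p : G) * (w * p * w⁻¹) = g⁻¹ * (g * (p * (w * p * w⁻¹)) * g⁻¹) * g := by group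
        _ = 1 * 1 := by rw [e]; group
    exact Subtype.ext (uniq h p.2 (sw_P h hw hwT p.2) (one_mem _) (one_mem _) e1).1
  · intro p
    rw [hD]
    exact hC _ (hDS p) (hDw p)
  · intro p
    rw [hD]
    calc g * (p * (w * p * w⁻¹)) * g⁻¹ * (g * w * g⁻¹) = g * ((p * (w * p * w⁻¹)) * w) * g⁻¹ := by group
      _ = g * (w * (p * (w * p * w⁻¹))) * g⁻¹ := by rw [hDw]
      _ = g * w * g⁻¹ * (g * (p * (w * p * w⁻¹)) * g⁻¹) := by group
  · intro p hp2 hp1
    have e2 : (p : G) * p = 1 := congrArg Subtype.val hp2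
    have e1 : (p : G) ≠ 1 := fun e => hp1 (Subtype.ext e)
    refine (mixed h p.2 e2 e1 (sw_P h hw hwT p.2) ?_ ?_).trans (isConj_iff.mpr ⟨g, (hD p).symm⟩)
    · calc w * p * w⁻¹ * (w * p * w⁻¹) = w * ((p : G) * p) * w⁻¹ := by group
        _ = 1 := by rw [e2]; group
    · intro e
      apply e1
      calc (p : G) = w⁻¹ * (w * p * w⁻¹) * w := by group
        _ = 1 := by rw [e]; group
  · intro p hp2
    have e2 : (p : G) * p = 1 := congrArg Subtype.val hp2
    have e3 : (p : G)⁻¹ = p := inv_eq_of_mul_eq_one_left e2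
    refine isConj_iff.mpr ⟨g * p * g⁻¹, ?_⟩
    rw [hD]
    calc g * p * g⁻¹ * (g * w * g⁻¹) * (g * p * g⁻¹)⁻¹ = g * (p * w * (p : G)⁻¹) * g⁻¹ := by group
      _ = g * (p * w * p) * g⁻¹ := by rw [e3]
      _ = g * ((p * (w * p * w⁻¹)) * w) * g⁻¹ := by group
      _ = g * (w * (p * (w * p * w⁻¹))) * g⁻¹ := by rw [hDw]
      _ = g * w * g⁻¹ * (g * (p * (w * p * w⁻¹)) * g⁻¹) := by group
  · intro p e
    rw [hD] at e
    have e1 : (p : G) * (w * p * w⁻¹) = w := by
      calc (p : G) * (w * p * w⁻¹) = g⁻¹ * (g * (p * (w * p * w⁻¹)) * g⁻¹) * g := by group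
        _ = w := by rw [e]; group
    apply hwT
    rw [← e1]
    exact mul_mem (h.PT p.2) (h.QT (sw_P h hw hwT p.2))
  · calc g * w * g⁻¹ * (g * w * g⁻¹) = g * (w * w) * g⁻¹ := by group
      _ = 1 := by rw [hw2]; group

end Cfsg.Agent.UGT.L34T2.BigAlpha

private theorem dce_6fbe91555d2c : _root_.True := by
  try have : _root_.True := by simp only [_root_.Cfsg.Agent.UGT.L34T2.BigAlpha.pp.eq_1]
  exact _root_.True.intro
end

-- part: UGT/L34T2/BigBeta
section
prune_inst 0x4403004205322120000180592310020545400049200630001f9400f06024e9760a04727004ce01f10080aae4000000060139800d040300000000004004004052180aa52069348a10427000f80b007180c00000000000000000000000000041004200000000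
set_option linter.all false
open scoped Cfsg.Agent.FastGrp

/-!
# Type `L₃(4)`, `T < S`, case BIG: (β) and (γ) of UGT #14882 (4)

* `Dbl.beta` : an element of `S` conjugate to `a` lies in `P` or in `Q`;
* `DblX.gamma` : an involution of `T - P Q` is not conjugate to an element of `P Q`.

Inputs: `Alpha` = (α), `NoMix` = "pure is not conjugate to mixed".
-/

set_option autoImplicit false
set_option linter.unusedVariables false
set_option linter.unusedSectionVars false

open Subgroup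

namespace Cfsg.Agent.UGT.L34T2.Big

variable {G : Type*} [Group G]

/-- (α) -/
def Alpha (S T : Subgroup G) : Prop :=
  ∀ w v g : G, w ∈ S → w ∉ T → w * w = 1 → g * w * g⁻¹ = v → v ∈ T →
    (∀ y ∈ S, y * w = w * y → g * y * g⁻¹ ∈ S) →
    (∀ R : Subgroup G, IsPGroup 2 R → (∀ r ∈ R, r * v = v * r) →
      Nat.card R ≤ Nat.card (S ⊓ centralizer ({v} : Set G) : Subgroup G)) → False

/-- mixed elements are not conjugate to `a` -/
def NoMix (P Q : Subgroup G) (a : G) : Prop :=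
  ∀ p ∈ P, ∀ q ∈ Q, p * p = 1 → p ≠ 1 → q * q = 1 → q ≠ 1 → ∀ g : G, g * (p * q) * g⁻¹ ≠ a

/-- `y ∈ P Q` -/
def JM (P Q : Subgroup G) (y : G) : Prop := ∃ p ∈ P, ∃ q ∈ Q, y = p * q

/-- `y` centralises `Z` -/
def Cz (Z : Subgroup G) (y : G) : Prop := ∀ z ∈ Z, y * z = z * y

/-- `y` fixes the `A i` -/
def Fx (A : Bool → Subgroup G) (y : G) : Prop := ∀ i, ∀ u ∈ A i, y * u * y⁻¹ ∈ A i

/-- `y` swaps the `A i` -/
def Sw (A : Bool → Subgroup G) (y : G) : Prop := ∀ i, ∀ u ∈ A i, y * u * y⁻¹ ∈ A (!i)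

section Fr

variable {T P Q Z : Subgroup G} {A : Bool → Subgroup G} {b : G} (D : Fr T P Q Z A b)
include D

theorem Z_le : Z ≤ P := (D.ZA false).trans (D.AP false)

theorem conj_Z {y z : G} (hy : y ∈ T) (hz : z ∈ Z) : y * z * y⁻¹ ∈ Z := by
  rcases D.actA y hy with h | h
  · exact D.inf _ (h false z (D.ZA false hz)) (h true z (D.ZA true hz))
  · exact D.inf _ (h true z (D.ZA true hz)) (h false z (D.ZA false hz))

theorem b_sq : b * b = 1 := D.Asq false b (D.ZA false D.bZ)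

theorem Z_sq {z : G} (hz : z ∈ Z) : z * z = 1 := D.Asq false z (D.ZA false hz)

/-- the elements of `Z` -/
theorem Z_cases {z w : G} (hz : z ∈ Z) (h1 : z ≠ 1) (hb : z ≠ b) (hw : w ∈ Z) :
    w = 1 ∨ w = b ∨ w = z ∨ w = z * b := by
  classical
  by_contra hcon
  push Not at hcon
  obtain ⟨n1, n2, n3, n4⟩ := hcon
  have hfin : Finite Z := Nat.finite_of_card_ne_zero (by rw [D.cardZ]; norm_num)
  have hbb := (b_sq D)
  have hzz := (Z_sq D) hz
  let f : Fin 5 → Z := ![1, ⟨b, D.bZ⟩, ⟨z, hz⟩, ⟨z * b, mul_mem hz D.bZ⟩, ⟨w, hw⟩]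
  have e1 : z * b ≠ 1 := fun h => hb (by
    calc z = z * b * b := by rw [mul_assoc, hbb, mul_one]
      _ = b := by rw [h, one_mul])
  have e2 : z * b ≠ b := fun h => h1 (mul_eq_right.1 h)
  have e3 : z * b ≠ z := fun h => D.b1 (mul_eq_left.1 h)
  have hf : Function.Injective f := by
    intro i j hij
    fin_cases i <;> fin_cases j <;> first | rfl | (exfalso; revert hij; simp [f, Subtype.ext_iff, D.b1, h1, hb,
      n1, n2, n3, n4, e1, e2, e3, Ne.symm D.b1, Ne.symm h1, Ne.symm hb, Ne.symm n1, Ne.symm n2, Ne.symm n3,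
      Ne.symm n4, Ne.symm e1, Ne.symm e2, Ne.symm e3])
  have := Nat.card_le_card_of_injective f hf
  rw [D.cardZ, Nat.card_eq_fintype_card, Fintype.card_fin] at this
  omega

theorem exists_z : ∃ z ∈ Z, z ≠ 1 ∧ z ≠ b := by
  by_contra hcon
  push Not at hcon
  have hfin : Finite Z := Nat.finite_of_card_ne_zero (by rw [D.cardZ]; norm_num)
  have h : (Z : Set G) ⊆ {1, b} := by
    intro z hz
    by_cases h1 : z = 1
    · exact Or.inl h1
    · exact Or.inr (hcon z hz h1)
  have h2 := Set.ncard_le_ncard h (Set.toFinite _)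
  have h3 : (Z : Set G).ncard = 4 := D.cardZ
  have h4 : ({1, b} : Set G).ncard ≤ 2 := Set.ncard_insert_le 1 {b} |>.trans (by rw [Set.ncard_singleton])
  omega

/-- an element which is not central on `Z` moves `z` to `z b` -/
theorem conj_z {y z : G} (hy : y ∈ T) (hc : ¬ Cz Z y) (hz : z ∈ Z) (h1 : z ≠ 1) (hb : z ≠ b) :
    y * z * y⁻¹ = z * b := by
  have h2 : ∀ z ∈ Z, y * z = z * y → z = 1 ∨ z = b := (D.actZ y hy).resolve_left hc
  have h3 := (conj_Z D) hy hz
  rcases (Z_cases D) hz h1 hb h3 with h | h | h | h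
  · exfalso
    exact h1 (conj_eq_one_iff.1 h)
  · exfalso
    apply hb
    have h4 := D.bT y hy
    calc z = y⁻¹ * (y * z * y⁻¹) * y := by group
      _ = b := by rw [h, mul_assoc, ← h4]; group
  · exfalso
    rcases h2 z hz (mul_inv_eq_iff_eq_mul.1 h) with h4 | h4
    · exact h1 h4
    · exact hb h4
  · exact h

theorem Cz_mul {y y' : G} (h : Cz Z y) (h' : Cz Z y') : Cz Z (y * y') := by
  intro z hz
  rw [mul_assoc, h' z hz, ← mul_assoc, h z hz, mul_assoc]

theorem Cz_mul' {y y' : G} (hy : y ∈ T) (hy' : y' ∈ T) (h : ¬ Cz Z y) (h' : ¬ Cz Z y') : Cz Z (y * y') := by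
  intro z hz
  by_cases h1 : z = 1
  · rw [h1, mul_one, one_mul]
  by_cases hb : z = b
  · rw [hb]
    exact D.bT _ (mul_mem hy hy')
  have h2 := (conj_z D) hy' h' hz h1 hb
  have h3 := (conj_z D) hy h hz h1 hb
  rw [← mul_inv_eq_iff_eq_mul]
  calc y * y' * z * (y * y')⁻¹ = y * (y' * z * y'⁻¹) * y⁻¹ := by group
    _ = (y * z * y⁻¹) * (y * b * y⁻¹) := by rw [h2]; group
    _ = z * b * b := by rw [h3, mul_inv_eq_iff_eq_mul.2 (D.bT y hy)]
    _ = z := by rw [mul_assoc, (b_sq D), mul_one]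

theorem Cz_inv {y : G} (h : Cz Z y) : Cz Z y⁻¹ := by
  intro z hz
  have := h z hz
  rw [inv_mul_eq_iff_eq_mul, ← mul_assoc, this, mul_assoc, mul_inv_cancel, mul_one]

theorem Cz_inv_iff {y : G} : Cz Z y⁻¹ ↔ Cz Z y := ⟨fun h => by
  have := (Cz_inv D) h
  rwa [inv_inv] at this, (Cz_inv D)⟩

theorem Cz_iff {y y' : G} (hy : y ∈ T) (hy' : y' ∈ T) : Cz Z (y * y') ↔ (Cz Z y ↔ Cz Z y') := by
  by_cases h : Cz Z y <;> by_cases h' : Cz Z y'
  · simp only [h, h', iff_true]; exact (Cz_mul D) h h'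
  · simp only [h, h', iff_false, not_true_eq_false]
    intro h2
    apply h'
    have := (Cz_mul D) ((Cz_inv D) h) h2
    rwa [inv_mul_cancel_left] at this
  · simp only [h, h', iff_true, iff_false]
    intro h2
    apply h
    have := (Cz_mul D) h2 ((Cz_inv D) h')
    rwa [mul_inv_cancel_right] at this
  · simp only [h, h', iff_true]; exact (Cz_mul' D) hy hy' h h'

theorem Fx_mul {y y' : G} (h : Fx A y) (h' : Fx A y') : Fx A (y * y') := by
  intro i u hu
  have := h i _ (h' i u hu)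
  rwa [show y * (y' * u * y'⁻¹) * y⁻¹ = y * y' * u * (y * y')⁻¹ by group] at this

theorem Fx_mul' {y y' : G} (h : Sw A y) (h' : Sw A y') : Fx A (y * y') := by
  intro i u hu
  have := h _ _ (h' i u hu)
  rwa [show y * (y' * u * y'⁻¹) * y⁻¹ = y * y' * u * (y * y')⁻¹ by group, Bool.not_not] at this

theorem not_both {y : G} (h : Fx A y) (h' : Sw A y) : False := by
  have hfin : Finite Z := Nat.finite_of_card_ne_zero (by rw [D.cardZ]; norm_num)
  have h1 : Nat.card (A false) ≤ Nat.card Z :=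
    Nat.card_le_card_of_injective (fun u : A false => (⟨y * u * y⁻¹, D.inf _ (h false u u.2) (h' false u u.2)⟩ : Z))
      (fun u v huv => by
        have h2 : y * (u : G) * y⁻¹ = y * v * y⁻¹ := congrArg Subtype.val huv
        exact Subtype.ext (mul_left_cancel (mul_right_cancel h2)))
  rw [D.cardA, D.cardZ] at h1
  omega

theorem Fx_iff {y y' : G} (hy : y ∈ T) (hy' : y' ∈ T) : Fx A (y * y') ↔ (Fx A y ↔ Fx A y') := by
  rcases D.actA y hy with h | h <;> rcases D.actA y' hy' with h' | h'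
  · exact ⟨fun _ => ⟨fun _ => h', fun _ => h⟩, fun _ => (Fx_mul D) h h'⟩
  · constructor
    · intro h2
      refine absurd (show Sw A (y * y') from ?_) (fun h3 => (not_both D) h2 h3)
      intro i u hu
      have := h _ _ (h' i u hu)
      rwa [show y * (y' * u * y'⁻¹) * y⁻¹ = y * y' * u * (y * y')⁻¹ by group] at this
    · intro h2
      exact ((not_both D) (h2.1 h) h').elim
  · constructor
    · intro h2
      refine absurd (show Sw A (y * y') from ?_) (fun h3 => (not_both D) h2 h3)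
      intro i u hu
      have := h _ _ (h' i u hu)
      rwa [show y * (y' * u * y'⁻¹) * y⁻¹ = y * y' * u * (y * y')⁻¹ by group] at this
    · intro h2
      exact ((not_both D) (h2.2 h') h).elim
  · exact ⟨fun _ => ⟨fun h3 => ((not_both D) h3 h).elim, fun h3 => ((not_both D) h3 h').elim⟩, fun _ => (Fx_mul' D) h h'⟩

theorem Fx_one : Fx A 1 := by
  intro i u hu
  rwa [one_mul, inv_one, mul_one]

theorem Fx_inv_iff {y : G} (hy : y ∈ T) : Fx A y⁻¹ ↔ Fx A y := by
  have h := (Fx_iff D) hy (inv_mem hy)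
  rw [mul_inv_cancel] at h
  have := h.1 (Fx_one D)
  exact this.symm

/-- same type: same coset of `J` -/
theorem JM_of_same {y y' : G} (hy : y ∈ T) (hy' : y' ∈ T) (h1 : Fx A y ↔ Fx A y') (h2 : Cz Z y ↔ Cz Z y') :
    JM P Q (y * y') :=
  D.inner _ (mul_mem hy hy') (((Fx_iff D) hy hy').2 h1) (((Cz_iff D) hy hy').2 h2)

theorem comm_JM {y y' : G} (hy : y ∈ T) (hy' : y' ∈ T) : JM P Q (y * y' * y⁻¹ * y'⁻¹) := by
  have h1 := (Fx_iff D) (mul_mem (mul_mem hy hy') (inv_mem hy)) (inv_mem hy')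
  rw [(Fx_iff D) (mul_mem hy hy') (inv_mem hy), (Fx_iff D) hy hy', (Fx_inv_iff D) hy, (Fx_inv_iff D) hy'] at h1
  have h2 := (Cz_iff D) (mul_mem (mul_mem hy hy') (inv_mem hy)) (inv_mem hy')
  rw [(Cz_iff D) (mul_mem hy hy') (inv_mem hy), (Cz_iff D) hy hy', (Cz_inv_iff D), (Cz_inv_iff D)] at h2
  exact D.inner _ (mul_mem (mul_mem (mul_mem hy hy') (inv_mem hy)) (inv_mem hy')) (h1.2 (by
    by_cases hA : Fx A y <;> by_cases hB : Fx A y' <;> simp [hA, hB])) (h2.2 (by
    by_cases hA : Cz Z y <;> by_cases hB : Cz Z y' <;> simp [hA, hB]))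

theorem JM_Cz {y : G} (h : JM P Q y) : Cz Z y := by
  obtain ⟨p, hp, q, hq, rfl⟩ := h
  intro z hz
  have h1 := D.Zcen z hz p hp
  have h2 := D.comm z ((Z_le D) hz) q hq
  calc p * q * z = p * (z * q) := by rw [mul_assoc, ← h2]
    _ = z * (p * q) := by rw [← mul_assoc, h1, mul_assoc]

/-- `e y ∈ P Q` with `e` of type `x` -/
theorem conjP {e p : G} (he : e ∈ T) (hJ : ¬ JM P Q e) (hee : e * e = 1) (hp : p ∈ P) (hpp : p * p = 1)
    (hc : e * p = p * e) : ∃ r ∈ P, r * e * r⁻¹ = e * p := by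
  refine D.conj e he hJ (by rw [hee]; exact one_mem _) p hp ?_
  rw [mul_assoc e⁻¹, ← hc, inv_mul_cancel_left, hpp]

end Fr

section Dbl

variable {S T P Q Z : Subgroup G} {A : Bool → Subgroup G} {K : Subgroup G} {a b t x : G}
  (D : Dbl S T P Q Z A K a b t x)
include D

theorem tt_mem : t * t ∈ T := by
  rcases D.ST _ (mul_mem D.tS D.tS) with h | h
  · exact h
  · exfalso
    rw [inv_mul_cancel_left] at h
    exact D.tn h

theorem tT' {y : G} (hy : y ∈ T) : t⁻¹ * y * t ∈ T := by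
  have h1 := mul_mem (mul_mem (inv_mem (tt_mem D)) (D.tT y hy)) (tt_mem D)
  rwa [show (t * t)⁻¹ * (t * y * t⁻¹) * (t * t) = t⁻¹ * y * t by group] at h1

theorem tP' {p : G} (hp : p ∈ P) : t⁻¹ * p * t ∈ Q := by
  have h1 := D.nQ _ (inv_mem (tt_mem D)) _ (D.tP p hp)
  rwa [show (t * t)⁻¹ * (t * p * t⁻¹) * (t * t)⁻¹⁻¹ = t⁻¹ * p * t by group] at h1

theorem tQ' {q : G} (hq : q ∈ Q) : t⁻¹ * q * t ∈ P := by
  have h1 := D.nP _ (inv_mem (tt_mem D)) _ (D.tQ q hq)
  rwa [show (t * t)⁻¹ * (t * q * t⁻¹) * (t * t)⁻¹⁻¹ = t⁻¹ * q * t by group] at h1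

theorem JM_t {y : G} (h : JM P Q y) : JM P Q (t * y * t⁻¹) := by
  obtain ⟨p, hp, q, hq, rfl⟩ := h
  refine ⟨_, D.tQ q hq, _, D.tP p hp, ?_⟩
  rw [D.comm p hp q hq]
  group

theorem JM_t' {y : G} (h : JM P Q y) : JM P Q (t⁻¹ * y * t) := by
  obtain ⟨p, hp, q, hq, rfl⟩ := h
  refine ⟨_, tQ' D hq, _, tP' D hp, ?_⟩
  rw [D.comm p hp q hq]
  group

theorem JM_t'_iff {y : G} : JM P Q (t⁻¹ * y * t) ↔ JM P Q y := by
  refine ⟨fun h => ?_, JM_t' D⟩
  have := JM_t D h
  rwa [show t * (t⁻¹ * y * t) * t⁻¹ = y by group] at this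

theorem a_mem : a ∈ Q := by
  rw [← D.ta]
  exact D.tP b (Z_le D.toFr D.bZ)

theorem a_sq : a * a = 1 := by
  rw [← D.ta, show t * b * t⁻¹ * (t * b * t⁻¹) = t * (b * b) * t⁻¹ by group, b_sq D.toFr]
  group

theorem a_ne : a ≠ 1 := by
  rw [← D.ta]
  intro h
  exact D.b1 (conj_eq_one_iff.1 h)

/-- involutions of `P` are conjugate to `a` -/
theorem pureP {p : G} (hp : p ∈ P) (hpp : p * p = 1) (hp1 : p ≠ 1) : ∃ h : G, h * p * h⁻¹ = a := by
  obtain ⟨k, -, hk⟩ := D.cls p hp hpp hp1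
  refine ⟨t * k, ?_⟩
  rw [← D.ta, ← hk]
  group

theorem pureQ {q : G} (hq : q ∈ Q) (hqq : q * q = 1) (hq1 : q ≠ 1) : ∃ h : G, h * q * h⁻¹ = a := by
  obtain ⟨h, hh⟩ := pureP D (D.tQ q hq)
    (by rw [show t * q * t⁻¹ * (t * q * t⁻¹) = t * (q * q) * t⁻¹ by group, hqq]; group)
    (fun h => hq1 (conj_eq_one_iff.1 h))
  refine ⟨h * t, ?_⟩
  rw [← hh]
  group

/-- the conjugates of `e` and `e q`, `q ∈ Q` -/
theorem conjQ {e q : G} (he : e ∈ T) (hJ : ¬ JM P Q e) (hee : e * e = 1) (hq : q ∈ Q) (hqq : q * q = 1)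
    (hc : e * q = q * e) : ∃ r ∈ Q, r * e * r⁻¹ = e * q := by
  obtain ⟨r, hr, hr'⟩ := conjP D.toFr (tT' D he) (fun h => hJ ((JM_t'_iff D).1 h))
    (by rw [show t⁻¹ * e * t * (t⁻¹ * e * t) = t⁻¹ * (e * e) * t by group, hee]; group) (tQ' D hq)
    (by rw [show t⁻¹ * q * t * (t⁻¹ * q * t) = t⁻¹ * (q * q) * t by group, hqq]; group)
    (by rw [show t⁻¹ * e * t * (t⁻¹ * q * t) = t⁻¹ * (e * q) * t by group, hc]; group)
  refine ⟨t * r * t⁻¹, D.tP r hr, ?_⟩
  calc t * r * t⁻¹ * e * (t * r * t⁻¹)⁻¹ = t * (r * (t⁻¹ * e * t) * r⁻¹) * t⁻¹ := by group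
    _ = t * (t⁻¹ * e * t * (t⁻¹ * q * t)) * t⁻¹ := by rw [hr']
    _ = e * q := by group

variable (hmix : NoMix P Q a)
include hmix

/-- an involution of `P Q` conjugate to `a` is in `P` or in `Q` -/
theorem mem_or {y : G} (h : JM P Q y) {g : G} (hg : g * y * g⁻¹ = a) : y ∈ P ∨ y ∈ Q := by
  obtain ⟨p, hp, q, hq, rfl⟩ := h
  have h1 : (p * q) * (p * q) = 1 := by
    have h2 : g * ((p * q) * (p * q)) * g⁻¹ = 1 := by
      rw [show g * ((p * q) * (p * q)) * g⁻¹ = (g * (p * q) * g⁻¹) * (g * (p * q) * g⁻¹) by group, hg, a_sq D]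
    exact conj_eq_one_iff.1 h2
  have h2 : (p * q) * (p * q) = (p * p) * (q * q) := by
    have := D.comm p hp q hq
    calc (p * q) * (p * q) = p * (q * p) * q := by group
      _ = p * (p * q) * q := by rw [this]
      _ = (p * p) * (q * q) := by group
  rw [h2] at h1
  have h3 : p * p ∈ Q := by
    rw [mul_eq_one_iff_eq_inv.1 h1]
    exact inv_mem (mul_mem hq hq)
  have h4 := D.disj _ (mul_mem hp hp) h3
  rw [h4, one_mul] at h1
  by_cases hp1 : p = 1
  · right
    rw [hp1, one_mul]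
    exact hq
  by_cases hq1 : q = 1
  · left
    rw [hq1, mul_one]
    exact hp
  exact absurd hg (hmix p hp q hq h4 hp1 h1 hq1 g)

/-- (K1) -/
theorem k1 {e g u h : G} (hg : g * e * g⁻¹ = a) (hu : h * u * h⁻¹ = a) (hr : ∃ r : G, r * e * r⁻¹ = e * u)
    (hJ : JM P Q (g * u * g⁻¹)) : g * u * g⁻¹ ∈ Q := by
  rcases mem_or D hmix (g := h * g⁻¹) hJ (by rw [← hu]; group) with h1 | h1
  · exfalso
    obtain ⟨r, hr⟩ := hr
    have huu : u * u = 1 := by
      have h2 : h * (u * u) * h⁻¹ = 1 := by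
        rw [show h * (u * u) * h⁻¹ = (h * u * h⁻¹) * (h * u * h⁻¹) by group, hu, a_sq D]
      exact conj_eq_one_iff.1 h2
    have hu1 : u ≠ 1 := by
      rintro rfl
      apply a_ne D
      rw [← hu]; group
    refine hmix _ h1 a (a_mem D) ?_ ?_ (a_sq D) (a_ne D) (g * r⁻¹ * g⁻¹) ?_
    · rw [show g * u * g⁻¹ * (g * u * g⁻¹) = g * (u * u) * g⁻¹ by group, huu]; group
    · exact fun h => hu1 (conj_eq_one_iff.1 h)
    · rw [D.comm _ h1 a (a_mem D)]
      calc g * r⁻¹ * g⁻¹ * (a * (g * u * g⁻¹)) * (g * r⁻¹ * g⁻¹)⁻¹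
          = g * r⁻¹ * g⁻¹ * (g * e * g⁻¹ * (g * u * g⁻¹)) * (g * r⁻¹ * g⁻¹)⁻¹ := by rw [hg]
        _ = g * (r⁻¹ * (e * u) * r) * g⁻¹ := by group
        _ = g * (r⁻¹ * (r * e * r⁻¹) * r) * g⁻¹ := by rw [hr]
        _ = a := by rw [← hg]; group
  · exact h1

/-- (K2) -/
theorem k2 {g u u' : G} (hu : u ∈ P) (huu : u * u = 1) (hu1 : u ≠ 1) (hu' : u' ∈ Q) (huu' : u' * u' = 1)
    (hu1' : u' ≠ 1) (h1 : g * u * g⁻¹ ∈ Q) (h2 : g * u' * g⁻¹ ∈ Q) : False := by
  have h3 : g * (u * u') * g⁻¹ ∈ Q := by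
    rw [show g * (u * u') * g⁻¹ = g * u * g⁻¹ * (g * u' * g⁻¹) by group]
    exact mul_mem h1 h2
  have hc := D.comm u hu u' hu'
  have h4 : (u * u') * (u * u') = 1 := by
    calc (u * u') * (u * u') = u * (u' * u) * u' := by group
      _ = u * (u * u') * u' := by rw [hc]
      _ = (u * u) * (u' * u') := by group
      _ = 1 := by rw [huu, huu', one_mul]
  have h5 : u * u' ≠ 1 := by
    intro h6
    apply hu1
    refine D.disj u hu ?_
    rw [mul_eq_one_iff_eq_inv.1 h6]
    exact inv_mem hu'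
  obtain ⟨h, hh⟩ := pureQ D h3
    (by rw [show g * (u * u') * g⁻¹ * (g * (u * u') * g⁻¹) = g * ((u * u') * (u * u')) * g⁻¹ by group, h4]; group)
    (fun h => h5 (conj_eq_one_iff.1 h))
  refine hmix u hu u' hu' huu hu1 huu' hu1' (h * g) ?_
  rw [← hh]
  group

/-- `b^g ∈ Q` for `e` of type `x` or `f` on `P` -/
theorem b_mem {e g : G} (he : e ∈ T) (hJ : ¬ JM P Q e) (hee : e * e = 1) (hg : g * e * g⁻¹ = a)
    (hC : ∀ y ∈ S, y * e = e * y → g * y * g⁻¹ ∈ T) (h1 : ¬ Cz Z e) : g * b * g⁻¹ ∈ Q := by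
  have hbP : b ∈ P := Z_le D.toFr D.bZ
  obtain ⟨h, hh⟩ := pureP D hbP (b_sq D.toFr) D.b1
  obtain ⟨r, -, hr⟩ := conjP D.toFr he hJ hee hbP (b_sq D.toFr) (D.bT e he)
  refine k1 D hmix hg hh ⟨r, hr⟩ ?_
  obtain ⟨c, hc, d, hd, hec, hed, hcd⟩ := D.der e he (by rw [hee]; exact one_mem _) h1
  have h2 := hC c (D.TS (D.PT hc)) hec.symm
  have h3 := hC d (D.TS (D.PT hd)) hed.symm
  have h4 := comm_JM D.toFr h2 h3
  rwa [show g * c * g⁻¹ * (g * d * g⁻¹) * (g * c * g⁻¹)⁻¹ * (g * d * g⁻¹)⁻¹ = g * (c * d * c⁻¹ * d⁻¹) * g⁻¹ by group,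
    hcd] at h4

/-- `a^g ∈ Q` for `e` of type `x` or `f` on `Q` -/
theorem a_mem' {e g : G} (he : e ∈ T) (hJ : ¬ JM P Q e) (hee : e * e = 1) (hg : g * e * g⁻¹ = a)
    (hC : ∀ y ∈ S, y * e = e * y → g * y * g⁻¹ ∈ T) (h1 : ¬ Cz Z (t⁻¹ * e * t)) : g * a * g⁻¹ ∈ Q := by
  have h5 := b_mem D hmix (e := t⁻¹ * e * t) (g := g * t) (tT' D he) (fun h => hJ ((JM_t'_iff D).1 h))
    (by rw [show t⁻¹ * e * t * (t⁻¹ * e * t) = t⁻¹ * (e * e) * t by group, hee]; group)
    (by rw [← hg]; group)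
    (fun y hy hye => by
      have h2 : t * y * t⁻¹ ∈ S := mul_mem (mul_mem D.tS hy) (inv_mem D.tS)
      have h3 : t * y * t⁻¹ * e = e * (t * y * t⁻¹) := by
        calc t * y * t⁻¹ * e = t * (y * (t⁻¹ * e * t)) * t⁻¹ := by group
          _ = t * (t⁻¹ * e * t * y) * t⁻¹ := by rw [hye]
          _ = e * (t * y * t⁻¹) := by group
      have h4 := hC _ h2 h3
      rwa [show g * (t * y * t⁻¹) * g⁻¹ = g * t * y * (g * t)⁻¹ by group] at h4) h1
  rwa [show g * t * b * (g * t)⁻¹ = g * (t * b * t⁻¹) * g⁻¹ by group, D.ta] at h5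

/-- Case 1: types `x`, `(f,f)` -/
theorem case1 {e g : G} (he : e ∈ T) (hJ : ¬ JM P Q e) (hee : e * e = 1) (hg : g * e * g⁻¹ = a)
    (hC : ∀ y ∈ S, y * e = e * y → g * y * g⁻¹ ∈ T) (h1 : ¬ Cz Z e) (h2 : ¬ Cz Z (t⁻¹ * e * t)) : False :=
  k2 D hmix (Z_le D.toFr D.bZ) (b_sq D.toFr) D.b1 (a_mem D) (a_sq D) (a_ne D) (b_mem D hmix he hJ hee hg hC h1)
    (a_mem' D hmix he hJ hee hg hC h2)

omit hmix in
/-- the choice of `g` -/
theorem exists_g {e g : G} (hg : g * e * g⁻¹ = a) :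
    ∃ g' : G, g' * e * g'⁻¹ = a ∧ ∀ y ∈ S, y * e = e * y → g' * y * g'⁻¹ ∈ T := by
  let R : Subgroup G := (S ⊓ centralizer ({e} : Set G)).map (MulAut.conj g).toMonoidHom
  have hR2 : IsPGroup 2 R := (D.S2.to_le inf_le_left).map _
  obtain ⟨h, ha, hh⟩ := D.sylT R hR2 (by
    rintro r ⟨y, hy, rfl⟩
    have h1 : y * e = e * y := (mem_centralizer_singleton_iff.1 hy.2)
    change g * y * g⁻¹ * a = a * (g * y * g⁻¹)
    rw [← hg]
    calc g * y * g⁻¹ * (g * e * g⁻¹) = g * (y * e) * g⁻¹ := by group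
      _ = g * (e * y) * g⁻¹ := by rw [h1]
      _ = _ := by group)
  refine ⟨h * g, ?_, ?_⟩
  · calc h * g * e * (h * g)⁻¹ = h * (g * e * g⁻¹) * h⁻¹ := by group
      _ = a := by rw [hg, ha, mul_inv_cancel_right]
  · intro y hy hye
    have h1 := hh (g * y * g⁻¹) ⟨y, ⟨hy, mem_centralizer_singleton_iff.2 hye⟩, rfl⟩
    rwa [show h * (g * y * g⁻¹) * h⁻¹ = h * g * y * (h * g)⁻¹ by group] at h1

omit hmix in
theorem sq_of {e g : G} (hg : g * e * g⁻¹ = a) : e * e = 1 := by
  have h2 : g * (e * e) * g⁻¹ = 1 := by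
    rw [show g * (e * e) * g⁻¹ = (g * e * g⁻¹) * (g * e * g⁻¹) by group, hg, a_sq D]
  exact conj_eq_one_iff.1 h2

omit hmix in
theorem not_Cz_x : ¬ Cz Z x := D.xZ

omit hmix in
theorem not_Fx_x : ¬ Fx A x := fun h => not_both D.toFr h D.xA

/-- type `x` -/
theorem typeX {e g : G} (he : e ∈ T) (hJ : ¬ JM P Q e) (hg : g * e * g⁻¹ = a) (hf : ¬ Fx A e)
    (hc : ¬ Cz Z e) : False := by
  obtain ⟨g', hg', hC⟩ := exists_g D hg
  refine case1 D hmix he hJ (sq_of D hg) hg' hC hc ?_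
  intro h1
  have h2 : JM P Q (e * x) := JM_of_same D.toFr he D.xT (by simp [hf, not_Fx_x D]) (by simp [hc, not_Cz_x D])
  have h3 := JM_Cz D.toFr (JM_t' D h2)
  rw [show t⁻¹ * (e * x) * t = t⁻¹ * e * t * (t⁻¹ * x * t) by group, Cz_iff D.toFr (tT' D he) (tT' D D.xT)] at h3
  exact D.xZ' (h3.1 h1)

/-- three elements `y1`, `y2`, `y1 y2` outside `J`, none of type `x` -/
theorem three {y1 y2 : G} (h1 : y1 ∈ T) (h2 : y2 ∈ T) (n1 : ¬ JM P Q y1) (n2 : ¬ JM P Q y2)
    (n3 : ¬ JM P Q (y1 * y2)) (c1 : ∃ g : G, g * y1 * g⁻¹ = a) (c2 : ∃ g : G, g * y2 * g⁻¹ = a)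
    (c3 : ∃ g : G, g * (y1 * y2) * g⁻¹ = a) : False := by
  obtain ⟨g1, c1⟩ := c1
  obtain ⟨g2, c2⟩ := c2
  obtain ⟨g3, c3⟩ := c3
  have t1 := fun hf hc => typeX D hmix h1 n1 c1 hf hc
  have t2 := fun hf hc => typeX D hmix h2 n2 c2 hf hc
  have t3 := fun hf hc => typeX D hmix (mul_mem h1 h2) n3 c3 hf hc
  have i1 := fun hf hc => n1 (D.inner y1 h1 hf hc)
  have i2 := fun hf hc => n2 (D.inner y2 h2 hf hc)
  have i3 := fun hf hc => n3 (D.inner (y1 * y2) (mul_mem h1 h2) hf hc)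
  change Fx A y1 → Cz Z y1 → False at i1
  change Fx A y2 → Cz Z y2 → False at i2
  change Fx A (y1 * y2) → Cz Z (y1 * y2) → False at i3
  rw [Fx_iff D.toFr h1 h2, Cz_iff D.toFr h1 h2] at t3 i3
  generalize Fx A y1 = F1 at *
  generalize Fx A y2 = F2 at *
  generalize Cz Z y1 = C1 at *
  generalize Cz Z y2 = C2 at *
  clear c1 c2 c3 h1 h2 n1 n2 n3
  by_cases hF1 : F1 <;> by_cases hF2 : F2 <;> by_cases hC1 : C1 <;> by_cases hC2 : C2 <;>
    simp [hF1, hF2, hC1, hC2] at t1 t2 t3 i1 i2 i3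

/-- the elements of `Z^t` -/
theorem zt_Q {e g z : G} (he : e ∈ T) (hJ : ¬ JM P Q e) (hg : g * e * g⁻¹ = a)
    (hC : ∀ y ∈ S, y * e = e * y → g * y * g⁻¹ ∈ T) (h2 : Cz Z (t⁻¹ * e * t)) (hz : z ∈ Z) (h1 : z ≠ 1) :
    g * (t * z * t⁻¹) * g⁻¹ ∈ T ∧ (∃ h : G, h * (g * (t * z * t⁻¹) * g⁻¹) * h⁻¹ = a) ∧
      (JM P Q (g * (t * z * t⁻¹) * g⁻¹) → g * (t * z * t⁻¹) * g⁻¹ ∈ Q) := by
  have hzQ : t * z * t⁻¹ ∈ Q := D.tP z (Z_le D.toFr hz)
  have hzz : t * z * t⁻¹ * (t * z * t⁻¹) = 1 := by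
    rw [show t * z * t⁻¹ * (t * z * t⁻¹) = t * (z * z) * t⁻¹ by group, Z_sq D.toFr hz]; group
  have hz1 : t * z * t⁻¹ ≠ 1 := fun h => h1 (conj_eq_one_iff.1 h)
  have hc : e * (t * z * t⁻¹) = t * z * t⁻¹ * e := by
    have := h2 z hz
    calc e * (t * z * t⁻¹) = t * (t⁻¹ * e * t * z) * t⁻¹ := by group
      _ = t * (z * (t⁻¹ * e * t)) * t⁻¹ := by rw [this]
      _ = t * z * t⁻¹ * e := by group
  obtain ⟨r, -, hr⟩ := conjQ D he hJ (sq_of D hg) hzQ hzz hc
  obtain ⟨h, hh⟩ := pureQ D hzQ hzz hz1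
  exact ⟨hC _ (D.TS (D.QT hzQ)) hc.symm, ⟨h * g⁻¹, by rw [← hh]; group⟩, k1 D hmix hg hh ⟨r, hr⟩⟩

/-- the elements of `Z` -/
theorem z_Q {e g z : G} (he : e ∈ T) (hJ : ¬ JM P Q e) (hg : g * e * g⁻¹ = a)
    (hC : ∀ y ∈ S, y * e = e * y → g * y * g⁻¹ ∈ T) (h2 : Cz Z e) (hz : z ∈ Z) (h1 : z ≠ 1) :
    g * z * g⁻¹ ∈ T ∧ (∃ h : G, h * (g * z * g⁻¹) * h⁻¹ = a) ∧
      (JM P Q (g * z * g⁻¹) → g * z * g⁻¹ ∈ Q) := by
  have hzP : z ∈ P := Z_le D.toFr hz
  have hzz := Z_sq D.toFr hz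
  obtain ⟨r, -, hr⟩ := conjP D.toFr he hJ (sq_of D hg) hzP hzz (h2 z hz)
  obtain ⟨h, hh⟩ := pureP D hzP hzz h1
  exact ⟨hC _ (D.TS (D.PT hzP)) (h2 z hz).symm, ⟨h * g⁻¹, by rw [← hh]; group⟩, k1 D hmix hg hh ⟨r, hr⟩⟩

/-- Case 2: type `(f, g)` -/
theorem case2 {e g : G} (he : e ∈ T) (hJ : ¬ JM P Q e) (hg : g * e * g⁻¹ = a)
    (hC : ∀ y ∈ S, y * e = e * y → g * y * g⁻¹ ∈ T) (h1 : ¬ Cz Z e) (h2 : Cz Z (t⁻¹ * e * t)) : False := by
  have hb := b_mem D hmix he hJ (sq_of D hg) hg hC h1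
  have key : ∀ z ∈ Z, z ≠ 1 → ¬ JM P Q (g * (t * z * t⁻¹) * g⁻¹) := by
    intro z hz hz1 h
    have h3 := (zt_Q D hmix he hJ hg hC h2 hz hz1).2.2 h
    exact k2 D hmix (Z_le D.toFr D.bZ) (b_sq D.toFr) D.b1 (D.tP z (Z_le D.toFr hz))
      (by rw [show t * z * t⁻¹ * (t * z * t⁻¹) = t * (z * z) * t⁻¹ by group, Z_sq D.toFr hz]; group)
      (fun h => hz1 (conj_eq_one_iff.1 h)) hb h3
  obtain ⟨z, hz, hz1, hzb⟩ := exists_z D.toFr
  have hzb1 : z * b ≠ 1 := fun h => hzb (by
    calc z = z * b * b := by rw [mul_assoc, b_sq D.toFr, mul_one]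
      _ = b := by rw [h, one_mul])
  have hmz := mul_mem hz D.bZ
  have q1 := zt_Q D hmix he hJ hg hC h2 hz hz1
  have q2 := zt_Q D hmix he hJ hg hC h2 D.bZ D.b1
  have q3 := zt_Q D hmix he hJ hg hC h2 hmz hzb1
  have e3 : g * (t * (z * b) * t⁻¹) * g⁻¹ = g * (t * z * t⁻¹) * g⁻¹ * (g * (t * b * t⁻¹) * g⁻¹) := by group
  have k3 := key (z * b) hmz hzb1
  rw [e3] at q3 k3
  exact three D hmix q1.1 q2.1 (key z hz hz1) (key b D.bZ D.b1) k3 q1.2.1 q2.2.1 q3.2.1

/-- Case 3 -/
theorem case3 {e g : G} (he : e ∈ T) (hJ : ¬ JM P Q e) (hg : g * e * g⁻¹ = a)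
    (hC : ∀ y ∈ S, y * e = e * y → g * y * g⁻¹ ∈ T) (h1 : Cz Z e) (h2 : ¬ Cz Z (t⁻¹ * e * t)) : False := by
  refine case2 D hmix (e := t⁻¹ * e * t) (g := g * t) (tT' D he) (fun h => hJ ((JM_t'_iff D).1 h))
    (by rw [← hg]; group) ?_ h2 ?_
  · intro y hy hye
    have h2 : t * y * t⁻¹ ∈ S := mul_mem (mul_mem D.tS hy) (inv_mem D.tS)
    have h3 : t * y * t⁻¹ * e = e * (t * y * t⁻¹) := by
      calc t * y * t⁻¹ * e = t * (y * (t⁻¹ * e * t)) * t⁻¹ := by group
        _ = t * (t⁻¹ * e * t * y) * t⁻¹ := by rw [hye]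
        _ = e * (t * y * t⁻¹) := by group
    have h4 := hC _ h2 h3
    rwa [show g * (t * y * t⁻¹) * g⁻¹ = g * t * y * (g * t)⁻¹ by group] at h4
  · have ht := tt_mem D
    rw [show t⁻¹ * (t⁻¹ * e * t) * t = (t * t)⁻¹ * e * (t * t) by group,
      Cz_iff D.toFr (mul_mem (inv_mem ht) he) ht, Cz_iff D.toFr (inv_mem ht) he, Cz_inv_iff D.toFr]
    by_cases h3 : Cz Z (t * t) <;> simp [h3, h1]

/-- an element of `T - J` conjugate to `a` has type `(g, g)` -/
theorem typeG {e : G} (he : e ∈ T) (hJ : ¬ JM P Q e) (hg : ∃ g : G, g * e * g⁻¹ = a) : Cz Z e := by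
  obtain ⟨g, hg⟩ := hg
  obtain ⟨g', hg', hC⟩ := exists_g D hg
  by_contra h1
  by_cases h2 : Cz Z (t⁻¹ * e * t)
  · exact case2 D hmix he hJ hg' hC h1 h2
  · exact case1 D hmix he hJ (sq_of D hg) hg' hC h1 h2

/-- three elements, no `x`, no `f` -/
theorem three' {y1 y2 : G} (h1 : y1 ∈ T) (h2 : y2 ∈ T) (n1 : ¬ JM P Q y1) (n2 : ¬ JM P Q y2)
    (n3 : ¬ JM P Q (y1 * y2)) (c1 : ∃ g : G, g * y1 * g⁻¹ = a) (c2 : ∃ g : G, g * y2 * g⁻¹ = a) : False := by
  have z1 := typeG D hmix h1 n1 c1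
  have z2 := typeG D hmix h2 n2 c2
  refine n3 (JM_of_same D.toFr h1 h2 ?_ (by simp [z1, z2]))
  have i1 := fun hf => n1 (D.inner y1 h1 hf z1)
  have i2 := fun hf => n2 (D.inner y2 h2 hf z2)
  exact ⟨fun h => (i1 h).elim, fun h => (i2 h).elim⟩

/-- no element of `T - J` is conjugate to `a` -/
theorem betaT {e g : G} (he : e ∈ T) (hJ : ¬ JM P Q e) (hg : g * e * g⁻¹ = a) : False := by
  obtain ⟨g', hg', hC⟩ := exists_g D hg
  have h1 := typeG D hmix he hJ ⟨g, hg⟩
  by_cases h2 : Cz Z (t⁻¹ * e * t)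
  swap
  · exact case3 D hmix he hJ hg' hC h1 h2
  obtain ⟨z, hz, hz1, hzb⟩ := exists_z D.toFr
  have hzb1 : z * b ≠ 1 := fun h => hzb (by
    calc z = z * b * b := by rw [mul_assoc, b_sq D.toFr, mul_one]
      _ = b := by rw [h, one_mul])
  have hmz := mul_mem hz D.bZ
  have s1 : ∃ u ∈ Z, u ≠ 1 ∧ g' * u * g'⁻¹ ∈ Q := by
    by_contra hcon
    push Not at hcon
    have q1 := z_Q D hmix he hJ hg' hC h1 hz hz1
    have q2 := z_Q D hmix he hJ hg' hC h1 D.bZ D.b1
    have q3 := z_Q D hmix he hJ hg' hC h1 hmz hzb1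
    have n3 : ¬ JM P Q (g' * (z * b) * g'⁻¹) := fun h => hcon _ hmz hzb1 (q3.2.2 h)
    rw [show g' * (z * b) * g'⁻¹ = g' * z * g'⁻¹ * (g' * b * g'⁻¹) by group] at n3
    exact three' D hmix q1.1 q2.1 (fun h => hcon _ hz hz1 (q1.2.2 h)) (fun h => hcon _ D.bZ D.b1 (q2.2.2 h)) n3
      q1.2.1 q2.2.1
  have s2 : ∃ u ∈ Z, u ≠ 1 ∧ g' * (t * u * t⁻¹) * g'⁻¹ ∈ Q := by
    by_contra hcon
    push Not at hcon
    have q1 := zt_Q D hmix he hJ hg' hC h2 hz hz1
    have q2 := zt_Q D hmix he hJ hg' hC h2 D.bZ D.b1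
    have q3 := zt_Q D hmix he hJ hg' hC h2 hmz hzb1
    have n3 : ¬ JM P Q (g' * (t * (z * b) * t⁻¹) * g'⁻¹) := fun h => hcon _ hmz hzb1 (q3.2.2 h)
    rw [show g' * (t * (z * b) * t⁻¹) * g'⁻¹ = g' * (t * z * t⁻¹) * g'⁻¹ * (g' * (t * b * t⁻¹) * g'⁻¹) by group] at n3
    exact three' D hmix q1.1 q2.1 (fun h => hcon _ hz hz1 (q1.2.2 h)) (fun h => hcon _ D.bZ D.b1 (q2.2.2 h)) n3
      q1.2.1 q2.2.1
  obtain ⟨u, hu, hu1, hu2⟩ := s1
  obtain ⟨v, hv, hv1, hv2⟩ := s2
  exact k2 D hmix (Z_le D.toFr hu) (Z_sq D.toFr hu) hu1 (D.tP v (Z_le D.toFr hv))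
      (by rw [show t * v * t⁻¹ * (t * v * t⁻¹) = t * (v * v) * t⁻¹ by group, Z_sq D.toFr hv]; group)
      (fun h => hv1 (conj_eq_one_iff.1 h)) hu2 hv2

/-- (β) -/
theorem beta [Finite G] (hα : Alpha S T) {e g : G} (he : e ∈ S) (hg : g * e * g⁻¹ = a) : e ∈ P ∨ e ∈ Q := by
  by_cases heT : e ∈ T
  · by_cases hJ : JM P Q e
    · exact mem_or D hmix hJ hg
    · exact (betaT D hmix heT hJ hg).elim
  · exfalso
    obtain ⟨g', hg', hC⟩ := exists_g D hg
    refine hα e a g' he heT (sq_of D hg) hg' (D.QT (a_mem D)) (fun y hy hye => D.TS (hC y hy hye)) ?_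
    intro R hR hRa
    obtain ⟨h, -, hh⟩ := D.sylT R hR hRa
    have hTC : T ≤ S ⊓ centralizer ({a} : Set G) := fun y hy => ⟨D.TS hy, mem_centralizer_singleton_iff.2 (D.Ta y hy)⟩
    exact Nat.card_le_card_of_injective
      (fun r : R => (⟨h * r * h⁻¹, hTC (hh r r.2)⟩ : (S ⊓ centralizer ({a} : Set G) : Subgroup G)))
      (fun r s hrs => by
        have h2 : h * (r : G) * h⁻¹ = h * s * h⁻¹ := congrArg Subtype.val hrs
        exact Subtype.ext (mul_left_cancel (mul_right_cancel h2)))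

end Dbl

end Cfsg.Agent.UGT.L34T2.Big
end

-- part: UGT/L34T2/BigGamma
section
set_option linter.all false
open scoped Cfsg.Agent.FastGrp

/-!
# Type `L₃(4)`, `T < S`, case BIG: (γ) of UGT #14882 (4)

`gamma`: an involution of `T - P Q` is not conjugate to an element of `P Q`.
-/

set_option autoImplicit false
set_option linter.unusedVariables false
set_option linter.unusedSectionVars false

open Subgroup

namespace Cfsg.Agent.UGT.L34T2.Big

variable {G : Type*} [Group G]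

section Dbl

variable {S T P Q Z : Subgroup G} {A : Bool → Subgroup G} {K : Subgroup G} {a b t x : G}
  (D : Dbl S T P Q Z A K a b t x)
include D

/-- `S` centralises `a b` -/
theorem Sab {s : G} (hs : s ∈ S) : s * (a * b) = a * b * s := by
  have hab : a * b = b * a := (D.comm b (Z_le D.toFr D.bZ) a (a_mem D)).symm
  have h1 : ∀ y ∈ T, y * (a * b) = a * b * y := by
    intro y hy
    rw [← mul_assoc, D.Ta y hy, mul_assoc, D.bT y hy, mul_assoc]
  rcases D.ST s hs with h | h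
  · exact h1 s h
  · have h2 := h1 _ h
    have h3 : t * (a * b) * t⁻¹ = a * b := by
      calc t * (a * b) * t⁻¹ = (t * a * t⁻¹) * (t * b * t⁻¹) := by group
        _ = b * a := by rw [D.ta, D.tb]
        _ = a * b := hab.symm
    calc s * (a * b) = t * (t⁻¹ * s * (a * b)) := by group
      _ = t * (a * b * (t⁻¹ * s)) := by rw [h2]
      _ = t * (a * b) * t⁻¹ * s := by group
      _ = a * b * s := by rw [h3]

/-- the involutions of `P Q` -/
theorem inv_J {y : G} (h : JM P Q y) (hyy : y * y = 1) : ∃ p ∈ P, ∃ q ∈ Q, y = p * q ∧ p * p = 1 ∧ q * q = 1 := by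
  obtain ⟨p, hp, q, hq, rfl⟩ := h
  have h2 : (p * q) * (p * q) = (p * p) * (q * q) := by
    have := D.comm p hp q hq
    calc (p * q) * (p * q) = p * (q * p) * q := by group
      _ = p * (p * q) * q := by rw [this]
      _ = (p * p) * (q * q) := by group
  rw [h2] at hyy
  have h3 : p * p ∈ Q := by
    rw [mul_eq_one_iff_eq_inv.1 hyy]
    exact inv_mem (mul_mem hq hq)
  have h4 := D.disj _ (mul_mem hp hp) h3
  rw [h4, one_mul] at hyy
  exact ⟨p, hp, q, hq, rfl, h4, hyy⟩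

/-- the mixed involutions are conjugate to `a b` -/
theorem mixed {p q : G} (hp : p ∈ P) (hq : q ∈ Q) (hpp : p * p = 1) (hp1 : p ≠ 1) (hqq : q * q = 1) (hq1 : q ≠ 1) :
    ∃ g : G, g * (p * q) * g⁻¹ = a * b := by
  obtain ⟨k, hk, hk'⟩ := D.cls p hp hpp hp1
  have h1 := D.KQ k hk q hq
  obtain ⟨l, hl, hl'⟩ := D.cls _ (D.tQ q hq)
    (by rw [show t * q * t⁻¹ * (t * q * t⁻¹) = t * (q * q) * t⁻¹ by group, hqq]; group)
    (fun h => hq1 (conj_eq_one_iff.1 h))
  have h2 := D.KQ l hl a (a_mem D)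
  refine ⟨l * t * k, ?_⟩
  calc l * t * k * (p * q) * (l * t * k)⁻¹ = l * (t * ((k * p * k⁻¹) * (k * q * k⁻¹)) * t⁻¹) * l⁻¹ := by group
    _ = l * (t * (b * (q * k * k⁻¹)) * t⁻¹) * l⁻¹ := by rw [hk', h1]
    _ = l * ((t * b * t⁻¹) * (t * q * t⁻¹)) * l⁻¹ := by group
    _ = (l * a * l⁻¹) * (l * (t * q * t⁻¹) * l⁻¹) := by rw [D.ta]; group
    _ = a * b := by rw [hl', h2, mul_inv_cancel_right]

/-- `|R| ≤ |S|` -/
theorem card_le [Finite G] {R : Subgroup G} (hR : IsPGroup 2 R) : Nat.card R ≤ Nat.card S := by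
  obtain ⟨h, hh⟩ := D.syl R hR
  exact Nat.card_le_card_of_injective (fun r : R => (⟨h * r * h⁻¹, hh r r.2⟩ : S))
    (fun r s hrs => by
      have h2 : h * (r : G) * h⁻¹ = h * s * h⁻¹ := congrArg Subtype.val hrs
      exact Subtype.ext (mul_left_cancel (mul_right_cancel h2)))

/-- the choice of `g` for `a b` -/
theorem exists_gS [Finite G] {e g : G} (hg : g * e * g⁻¹ = a * b) :
    ∃ g' : G, g' * e * g'⁻¹ = a * b ∧ ∀ y ∈ S, y * e = e * y → g' * y * g'⁻¹ ∈ S := by
  let C : Subgroup G := centralizer ({a * b} : Set G)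
  let R : Subgroup G := (S ⊓ centralizer ({e} : Set G)).map (MulAut.conj g).toMonoidHom
  have hR2 : IsPGroup 2 R := (D.S2.to_le inf_le_left).map _
  have hRC : R ≤ C := by
    rintro r ⟨y, hy, rfl⟩
    have h1 : y * e = e * y := (mem_centralizer_singleton_iff.1 hy.2)
    refine mem_centralizer_singleton_iff.2 ?_
    change g * y * g⁻¹ * (a * b) = a * b * (g * y * g⁻¹)
    rw [← hg]
    calc g * y * g⁻¹ * (g * e * g⁻¹) = g * (y * e) * g⁻¹ := by group
      _ = g * (e * y) * g⁻¹ := by rw [h1]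
      _ = _ := by group
  have hSC : S ≤ C := fun s hs => mem_centralizer_singleton_iff.2 (Sab D hs)
  have hSC2 : IsPGroup 2 (S.subgroupOf C) := D.S2.comap_of_injective C.subtype C.subtype_injective
  obtain ⟨V, hV⟩ := hSC2.exists_le_sylow
  have hV2 : IsPGroup 2 ((V : Subgroup C).map C.subtype) := V.2.map _
  have hle : S ≤ (V : Subgroup C).map C.subtype := by
    intro s hs
    exact ⟨⟨s, hSC hs⟩, hV (show (⟨s, hSC hs⟩ : C) ∈ S.subgroupOf C from hs), rfl⟩
  have hEq : S = (V : Subgroup C).map C.subtype := by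
    refine SetLike.coe_injective (Set.eq_of_subset_of_ncard_le hle ?_ (Set.toFinite _))
    exact card_le D hV2
  have hRC2 : IsPGroup 2 (R.subgroupOf C) := hR2.comap_of_injective C.subtype C.subtype_injective
  obtain ⟨U, hU⟩ := hRC2.exists_le_sylow
  obtain ⟨c, hc⟩ := MulAction.exists_smul_eq C U V
  refine ⟨(c : G) * g, ?_, ?_⟩
  · have h1 : (c : G) * (a * b) = a * b * c := (mem_centralizer_singleton_iff.1 c.2)
    calc (c : G) * g * e * ((c : G) * g)⁻¹ = c * (g * e * g⁻¹) * (c : G)⁻¹ := by group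
      _ = a * b := by rw [hg, h1, mul_inv_cancel_right]
  · intro y hy hye
    have h1 : g * y * g⁻¹ ∈ R := ⟨y, ⟨hy, mem_centralizer_singleton_iff.2 hye⟩, rfl⟩
    have h2 : (⟨g * y * g⁻¹, hRC h1⟩ : C) ∈ (U : Subgroup C) := hU h1
    have h3 : c * ⟨g * y * g⁻¹, hRC h1⟩ * c⁻¹ ∈ (V : Subgroup C) := by
      rw [← hc]
      exact Subgroup.smul_mem_pointwise_smul _ (MulAut.conj c) _ h2
    rw [hEq]
    refine ⟨_, h3, ?_⟩
    change (c : G) * (g * y * g⁻¹) * (c : G)⁻¹ = _
    group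

end Dbl

/-- (γ) -/
theorem gamma [Finite G] {S T P Q Z : Subgroup G} {A : Bool → Subgroup G} {K : Subgroup G} {a b t x : G}
    {X : Subgroup G} {Inn Fix : G → Subgroup G} (D : DblX S T P Q Z A K a b t x X Inn Fix) (hmix : NoMix P Q a)
    (hα : Alpha S T) {y g : G} (hy : y ∈ T) (hJ : ¬ JM P Q y) (hyy : y * y = 1) : ¬ JM P Q (g * y * g⁻¹) := by
  intro hg
  have D' := D.toDbl
  have hβ := @beta G _ S T P Q Z A K a b t x D' hmix _ hα
  have hy1 : y ≠ 1 := by
    rintro rfl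
    exact hJ ⟨1, one_mem _, 1, one_mem _, (one_mul 1).symm⟩
  obtain ⟨p, hp, q, hq, hpq, hpp, hqq⟩ := inv_J D' hg
    (by rw [show g * y * g⁻¹ * (g * y * g⁻¹) = g * (y * y) * g⁻¹ by group, hyy]; group)
  have hpure : ∀ h : G, h * y * h⁻¹ ≠ a := fun h hh => by
    rcases hβ (D'.TS hy) hh with h1 | h1
    · exact hJ ⟨y, h1, 1, one_mem _, (mul_one y).symm⟩
    · exact hJ ⟨1, one_mem _, y, h1, (one_mul y).symm⟩
  have hp1 : p ≠ 1 := by
    rintro rfl
    rw [one_mul] at hpq
    obtain ⟨h, hh⟩ := pureQ D' hq hqq (fun h => hy1 (by rw [h] at hpq; exact conj_eq_one_iff.1 hpq))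
    exact hpure (h * g) (by rw [← hh, ← hpq]; group)
  have hq1 : q ≠ 1 := by
    rintro rfl
    rw [mul_one] at hpq
    obtain ⟨h, hh⟩ := pureP D' hp hpp hp1
    exact hpure (h * g) (by rw [← hh, ← hpq]; group)
  obtain ⟨h, hh⟩ := mixed D' hp hq hpp hp1 hqq hq1
  obtain ⟨k, hk, hkS⟩ := exists_gS D' (e := y) (g := h * g) (by rw [← hh, ← hpq]; group)
  have haS : a ∈ S := D'.TS (D'.QT (a_mem D'))
  have he1S : k * a * k⁻¹ ∈ S := hkS a haS (D'.Ta y hy).symm
  have he11 : k * a * k⁻¹ * (k * a * k⁻¹) = 1 := by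
    rw [show k * a * k⁻¹ * (k * a * k⁻¹) = k * (a * a) * k⁻¹ by group, a_sq D']; group
  have he1n : k * a * k⁻¹ ≠ 1 := fun h => a_ne D' (conj_eq_one_iff.1 h)
  have hyI : y ∉ Inn a := fun h1 => hJ ((D.InnQ a (a_mem D') (a_sq D') (a_ne D') y hy (D'.Ta y hy)).1 h1)
  have habI : a * b ∉ Inn (k * a * k⁻¹) := by
    intro h1
    apply hyI
    have h2 := D.Innc k⁻¹ _ _ h1
    rwa [← hk, show k⁻¹ * (k * y * k⁻¹) * k⁻¹⁻¹ = y by group, show k⁻¹ * (k * a * k⁻¹) * k⁻¹⁻¹ = a by group] at h2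
  have haT : a ∈ T := D'.QT (a_mem D')
  have hbP : b ∈ P := Z_le D'.toFr D'.bZ
  have habT : a * b ∈ T := mul_mem haT (D'.PT hbP)
  have habJ : ∃ p ∈ P, ∃ q ∈ Q, a * b = p * q := ⟨b, hbP, a, a_mem D', (D'.comm b hbP a (a_mem D')).symm⟩
  rcases hβ he1S (e := k * a * k⁻¹) (g := k⁻¹) (by group) with h1 | h1
  · apply habI
    have h2 : t * (k * a * k⁻¹) * t⁻¹ ∈ Q := D'.tP _ h1
    have h3 : t * (k * a * k⁻¹) * t⁻¹ * (t * (k * a * k⁻¹) * t⁻¹) = 1 := by
      rw [show t * (k * a * k⁻¹) * t⁻¹ * (t * (k * a * k⁻¹) * t⁻¹) = t * (k * a * k⁻¹ * (k * a * k⁻¹)) * t⁻¹ by group,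
        he11]
      group
    have h4 : t * (k * a * k⁻¹) * t⁻¹ ≠ 1 := fun h => he1n (conj_eq_one_iff.1 h)
    have h5 := (D.InnQ _ h2 h3 h4 (a * b) habT (Sab D' (D'.TS (D'.QT h2))).symm).2 habJ
    have h6 := D.Innc t⁻¹ _ _ h5
    have h7 : t⁻¹ * (a * b) * t⁻¹⁻¹ = a * b := by
      have := Sab D' (inv_mem D'.tS)
      rw [this, inv_inv, mul_assoc, inv_mul_cancel, mul_one]
    rwa [h7, show t⁻¹ * (t * (k * a * k⁻¹) * t⁻¹) * t⁻¹⁻¹ = k * a * k⁻¹ by group] at h6
  · exact habI ((D.InnQ _ h1 he11 he1n (a * b) habT (Sab D' he1S).symm).2 habJ)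

end Cfsg.Agent.UGT.L34T2.Big
end

-- part: UGT/Ctl/FusWeak
section
prune_inst 0x4502001205722120000180592310020547400049200630001f9400f06024e9761a04727017ce01f10091aaa70200a0040131000d90010000020000e004000052180aa72c49348b10427000fc0f807180c00000000000000000000000000041004200000000
set_option linter.all false
open scoped Cfsg.Agent.FastGrp

/-!
# Permuted commuting parts: the weak frame

`Frame S H 𝓛`: as `OddHalf.D3.Fus.Frame` (helper308), but the control hypothesis `sc` is only required for the products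
of the sets `J` of parts with at most one member or with at least two parts outside `J`.

`Frame.normalizer_le`: `N_G(X) ≤ H` for every essential subgroup `X` of `S`.
-/

set_option autoImplicit false
set_option linter.style.haveILetI false

namespace Cfsg.Agent.UGT.Ctl.Fus

open Subgroup Cfsg.Agent.Lib.GoldschmidtFusion Cfsg.Agent.ClassTwoFusion.Ess
open Cfsg.Agent.OddHalf.D3.EssSE
open Cfsg.Agent.OddHalf.D3.Fus (Half exists_half exists_fix orderOf_eq_two_of_sq sq_of_orderOf ne_one_of_orderOf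
  exists_of_mem_sup conj_mem_sSup)

variable {G : Type*} [Group G]

/-! ### The frame -/

/-- commuting parts permuted by `S`, weak form -/
structure Frame (S : Subgroup G) (H : Subgroup G) (𝓛 : Set (Subgroup G)) : Prop where
  le : ∀ A ∈ 𝓛, A ≤ S
  comm : ∀ A ∈ 𝓛, ∀ B ∈ 𝓛, A ≠ B → ∀ a ∈ A, ∀ b ∈ B, a * b = b * a
  perm : ∀ s ∈ S, ∀ A ∈ 𝓛, A.map (MulAut.conj s).toMonoidHom ∈ 𝓛
  ne : ∀ A ∈ 𝓛, A ≠ ⊥
  rich : ∀ A ∈ 𝓛, ∀ x ∈ A, orderOf x = 2 → ∃ y ∈ A, orderOf y = 2 ∧ y ≠ x ∧ x * y = y * x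
  two : ∃ A ∈ 𝓛, ∃ B ∈ 𝓛, A ≠ B
  sc : ∀ J : Set (Subgroup G), J ⊆ 𝓛 → J ≠ 𝓛 → (J.Subsingleton ∨ (𝓛 \ J).Nontrivial) → ∀ u ∈ sSup J, orderOf u = 2 → ∀ g : G, g * u * g⁻¹ ∈ S → g ∈ H

namespace Frame

variable {S H : Subgroup G} {𝓛 : Set (Subgroup G)} (h : Frame S H 𝓛)
include h

theorem sSup_le {J : Set (Subgroup G)} (hJ : J ⊆ 𝓛) : sSup J ≤ S :=
  _root_.sSup_le fun A hA => h.le A (hJ hA)

/-- products of disjoint sets of parts commute -/
theorem sSup_comm {J J' : Set (Subgroup G)} (hJ : J ⊆ 𝓛) (hJ' : J' ⊆ 𝓛) (hd : ∀ A ∈ J, A ∉ J') {a b : G}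
    (ha : a ∈ sSup J) (hb : b ∈ sSup J') : a * b = b * a := by
  have h1 : sSup J ≤ centralizer ((sSup J' : Subgroup G) : Set G) := by
    refine _root_.sSup_le fun A hA => ?_
    rw [le_centralizer_iff]
    refine _root_.sSup_le fun B hB => ?_
    intro y hy
    rw [mem_centralizer_iff]
    intro x hx
    exact h.comm A (hJ hA) B (hJ' hB) (fun e => hd A hA (e ▸ hB)) x hx y hy
  exact ((mem_centralizer_iff.1 (h1 ha)) b hb).symm

end Frame

/-! ### The main theorem -/

/-- an essential subgroup whose normaliser is not in `H` -/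
structure Bad (S : Sylow 2 G) (H : Subgroup G) (X : Subgroup G) : Prop where
  ess : IsEss 2 (S : Subgroup G) X
  not_le : ¬ normalizer (X : Set G) ≤ H

namespace Bad

variable [Finite G] {S : Sylow 2 G} {H X : Subgroup G} {𝓛 : Set (Subgroup G)}
  (h : Frame (S : Subgroup G) H 𝓛) (hB : Bad S H X)
include h hB

omit [Finite G] in
/-- `X` contains no involution of a proper product of parts -/
theorem notMem_of_two {J : Set (Subgroup G)} (hJ : J ⊆ 𝓛) (hJ' : J ≠ 𝓛) (hw : J.Subsingleton ∨ (𝓛 \ J).Nontrivial)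
    {u : G} (hu : u ∈ sSup J)
    (ou : orderOf u = 2) : u ∉ X := by
  intro huX
  apply hB.not_le
  intro g hg
  exact h.sc J hJ hJ' hw u hu ou g (hB.ess.lt.le ((mem_normalizer_iff.1 hg u).1 huX))

omit [Finite G] in
/-- `X` meets the proper products of parts trivially -/
theorem eq_one {J : Set (Subgroup G)} (hJ : J ⊆ 𝓛) (hJ' : J ≠ 𝓛) (hw : J.Subsingleton ∨ (𝓛 \ J).Nontrivial)
    {u : G} (hu : u ∈ sSup J)
    (huX : u ∈ X) : u = 1 := by
  haveI : Fact (Nat.Prime 2) := ⟨Nat.prime_two⟩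
  by_contra hne
  have hSp : IsPGroup 2 (S : Subgroup G) := S.isPGroup'
  obtain ⟨k, hk⟩ := hSp ⟨u, hB.ess.lt.le huX⟩
  have hk' : u ^ 2 ^ k = 1 := congrArg Subtype.val hk
  have h1 : ∃ j, u ^ 2 ^ j ≠ 1 ∧ u ^ 2 ^ (j + 1) = 1 := by
    by_contra hcon
    push Not at hcon
    have : ∀ j, u ^ 2 ^ j ≠ 1 := by
      intro j
      induction j with
      | zero => simpa using hne
      | succ j ih => exact hcon j ih
    exact this k hk'
  obtain ⟨j, hj1, hj2⟩ := h1
  refine notMem_of_two h hB hJ hJ' hw (u := u ^ 2 ^ j) (pow_mem hu _) (orderOf_eq_two_of_sq ?_ hj1) (pow_mem huX _)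
  rw [← pow_add, ← two_mul, ← pow_succ']
  exact hj2

omit h [Finite G] in
theorem mem_of_comm {c : G} (hc : c ∈ S) (hcX : ∀ x ∈ X, x * c = c * x) : c ∈ X :=
  hB.ess.centric ⟨mem_centralizer_iff.2 fun x hx => hcX x hx, hc⟩

theorem transitive {A B : Subgroup G} (hA : A ∈ 𝓛) (hBB : B ∈ 𝓛) :
    ∃ x ∈ X, B = A.map (MulAut.conj x).toMonoidHom := by
  set J : Set (Subgroup G) := {B | ∃ x ∈ X, B = A.map (MulAut.conj x).toMonoidHom} with hJd
  have hXS : X ≤ S := hB.ess.lt.le
  have hJ : J ⊆ 𝓛 := by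
    rintro _ ⟨x, hx, rfl⟩
    exact h.perm x (hXS hx) A hA
  by_cases hJ' : J = 𝓛
  · have : B ∈ J := by rw [hJ']; exact hBB
    exact this
  · exfalso
    have hAJ : A ∈ J := ⟨1, one_mem _, (map_conj_one A).symm⟩
    by_cases hw : J.Subsingleton ∨ (𝓛 \ J).Nontrivial
    · obtain ⟨e, he, oe, hec⟩ := exists_fix (S := (S : Subgroup G)) (X := X) (D := sSup J) S.isPGroup' hXS
        (h.sSup_le hJ) (fun hb => h.ne A hA (by rw [eq_bot_iff, ← hb]; exact le_sSup hAJ)) (by
          intro x hx d hd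
          refine conj_mem_sSup ?_ hd
          rintro _ ⟨x', hx', rfl⟩
          exact ⟨x * x', mul_mem hx hx', by rw [map_conj_map_conj]⟩)
      exact notMem_of_two h hB hJ hJ' hw he oe (mem_of_comm hB (h.sSup_le hJ he) hec)
    · -- the complement of `J` is one part
      rw [not_or, Set.not_nontrivial_iff] at hw
      obtain ⟨C, hC, hCJ⟩ : ∃ C, C ∈ 𝓛 ∧ C ∉ J := by
        by_contra hcon
        push Not at hcon
        exact hJ' (Set.Subset.antisymm hJ hcon)
      have hXC : ∀ x ∈ X, C.map (MulAut.conj x).toMonoidHom = C := by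
        intro x hx
        refine hw.2 ⟨h.perm x (hXS hx) C hC, ?_⟩ ⟨hC, hCJ⟩
        rintro ⟨x', hx', hxx⟩
        apply hCJ
        refine ⟨x⁻¹ * x', X.mul_mem (X.inv_mem hx) hx', ?_⟩
        rw [← map_conj_map_conj, ← hxx, map_conj_map_conj, inv_mul_cancel, map_conj_one]
      obtain ⟨e, he, oe, hec⟩ := exists_fix (S := (S : Subgroup G)) (X := X) (D := C) S.isPGroup' hXS
        (h.le C hC) (h.ne C hC) (by
          intro x hx d hd
          have h1 : x * d * x⁻¹ ∈ C.map (MulAut.conj x).toMonoidHom := conj_mem_map_conj hd x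
          rwa [hXC x hx] at h1)
      refine notMem_of_two h hB (J := {C}) (by simpa using hC) ?_ (Or.inl Set.subsingleton_singleton)
        (by simpa using he) oe (mem_of_comm hB (h.le C hC he) hec)
      intro h1
      have h2 : A ∈ ({C} : Set (Subgroup G)) := by rw [h1]; exact hA
      rw [Set.mem_singleton_iff] at h2
      exact hCJ (h2 ▸ hAJ)

/-- the stabiliser of a part is proper -/
theorem stab_lt {A : Subgroup G} (hA : A ∈ 𝓛) : X ⊓ normalizer (A : Set G) < X := by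
  refine lt_of_le_of_ne inf_le_left fun h1 => ?_
  have h2 : X ≤ normalizer (A : Set G) := by rw [← h1]; exact inf_le_right
  obtain ⟨C, hC, D, hD, hCD⟩ := h.two
  apply hCD
  have key : ∀ C ∈ 𝓛, C = A := by
    intro C hC
    obtain ⟨x, hx, hx'⟩ := transitive h hB hA hC
    rw [hx', mem_normalizer_iff_map_conj.1 (h2 hx)]
  rw [key C hC, key D hD]

omit [Finite G] in
/-- the transvection of an involution `e` centralising the half `M` of `X` -/
theorem tr_of {A M : Subgroup G} (hA : A ∈ 𝓛) (hM : Half X M) (hAM : X ⊓ normalizer (A : Set G) ≤ M) {e : G}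
    (he : e ∈ sSup {B : Subgroup G | ∃ x ∈ M, B = A.map (MulAut.conj x).toMonoidHom}) (oe : orderOf e = 2)
    (hec : ∀ x ∈ M, x * e = e * x) {y : G} (hy : y ∈ X) (hyM : y ∉ M) :
    Tr (S : Subgroup G) X e (e * (y * e * y⁻¹)) ∧ e * (y * e * y⁻¹) = y * e * y⁻¹ * e := by
  set J : Set (Subgroup G) := {B | ∃ x ∈ M, B = A.map (MulAut.conj x).toMonoidHom} with hJd
  set J' : Set (Subgroup G) := {B | ∃ x ∈ M, B = A.map (MulAut.conj (y * x)).toMonoidHom} with hJ'd
  have hXS : X ≤ S := hB.ess.lt.le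
  have hJ : J ⊆ 𝓛 := by
    rintro _ ⟨x, hx, rfl⟩
    exact h.perm x (hXS (hM.le hx)) A hA
  have hJ'𝓛 : J' ⊆ 𝓛 := by
    rintro _ ⟨x, hx, rfl⟩
    exact h.perm _ (hXS (mul_mem hy (hM.le hx))) A hA
  have hdis : ∀ B ∈ J, B ∉ J' := by
    rintro _ ⟨x, hx, rfl⟩ ⟨x', hx', hxx⟩
    apply hyM
    have h1 : x⁻¹ * (y * x') ∈ normalizer (A : Set G) := by
      rw [mem_normalizer_iff_map_conj, ← map_conj_map_conj, ← hxx, map_conj_map_conj, inv_mul_cancel, map_conj_one]
    have h2 : x⁻¹ * (y * x') ∈ M :=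
      hAM (mem_inf.2 ⟨X.mul_mem (X.inv_mem (hM.le hx)) (X.mul_mem hy (hM.le hx')), h1⟩)
    have h3 : y = x * (x⁻¹ * (y * x')) * x'⁻¹ := by group
    rw [h3]
    exact M.mul_mem (M.mul_mem hx h2) (M.inv_mem hx')
  have hAJ : A ∈ J := ⟨1, one_mem _, (map_conj_one A).symm⟩
  have hJne : J ≠ 𝓛 := by
    intro h1
    have h2 : A.map (MulAut.conj (y * 1)).toMonoidHom ∈ J := by
      rw [h1]; exact h.perm _ (hXS (mul_mem hy (one_mem _))) A hA
    exact hdis _ h2 ⟨1, one_mem _, rfl⟩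
  have hw : J.Subsingleton ∨ (𝓛 \ J).Nontrivial := by
    by_cases hs : J.Subsingleton
    · left; exact hs
    · right
      rw [Set.not_subsingleton_iff] at hs
      obtain ⟨_, ⟨x, hx, rfl⟩, _, ⟨x', hx', rfl⟩, hne⟩ := hs
      refine ⟨A.map (MulAut.conj (y * x)).toMonoidHom,
        ⟨h.perm _ (hXS (mul_mem hy (hM.le hx))) A hA, fun h1 => hdis _ h1 ⟨x, hx, rfl⟩⟩,
        A.map (MulAut.conj (y * x')).toMonoidHom,
        ⟨h.perm _ (hXS (mul_mem hy (hM.le hx'))) A hA, fun h1 => hdis _ h1 ⟨x', hx', rfl⟩⟩, fun h1 => hne ?_⟩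
      have h2 := congrArg (fun B : Subgroup G => B.map (MulAut.conj y⁻¹).toMonoidHom) h1
      simpa only [map_conj_map_conj, inv_mul_cancel_left] using h2
  have heS : e ∈ (S : Subgroup G) := h.sSup_le hJ he
  have heX : e ∉ X := notMem_of_two h hB hJ hJne hw he oe
  have he2 := sq_of_orderOf oe
  have heinv : e⁻¹ = e := inv_eq_of_mul_eq_one_left he2
  set e' : G := y * e * y⁻¹ with he'
  have he'J : e' ∈ sSup J' := by
    refine conj_mem_sSup ?_ he
    rintro _ ⟨x, hx, rfl⟩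
    exact ⟨x, hx, by rw [map_conj_map_conj]⟩
  have hcom : e * e' = e' * e := h.sSup_comm hJ hJ'𝓛 hdis he he'J
  have he'2 : e' * e' = 1 := by
    calc e' * e' = y * (e * e) * y⁻¹ := by rw [he']; group
      _ = 1 := by rw [he2]; group
  have he'S : e' ∈ (S : Subgroup G) := mul_mem (mul_mem (hXS hy) heS) (inv_mem (hXS hy))
  -- `d` commutes with `M`
  have hdM : ∀ x ∈ M, x * (e * e') = e * e' * x := by
    intro x hx
    have h1 := hec x hx
    have h2 := hec _ (hM.conj' hy hx)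
    have h3 : x * e' = e' * x := by
      calc x * e' = y * ((y⁻¹ * x * y) * e) * y⁻¹ := by rw [he']; group
        _ = y * (e * (y⁻¹ * x * y)) * y⁻¹ := by rw [h2]
        _ = e' * x := by rw [he']; group
    calc x * (e * e') = (x * e) * e' := by group
      _ = e * (x * e') := by rw [h1]; group
      _ = e * e' * x := by rw [h3]; group
  have hyy : y * y ∈ M := hM.sq hy
  have hdy : y * (e * e') = e * e' * y := by
    have h1 := hec _ hyy
    have h2 : y * e' = e * y := by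
      calc y * e' = ((y * y) * e) * y⁻¹ := by rw [he']; group
        _ = (e * (y * y)) * y⁻¹ := by rw [h1]
        _ = e * y := by group
    calc y * (e * e') = (y * e * y⁻¹) * (y * e') := by group
      _ = e' * (e * y) := by rw [h2, he']
      _ = (e * e') * y := by rw [hcom]; group
  have hdX : ∀ x ∈ X, x * (e * e') = e * e' * x := by
    intro x hx
    by_cases hxM : x ∈ M
    · exact hdM x hxM
    · obtain ⟨m, hm, rfl⟩ := hM.exists_eq hx hxM hy hyM
      calc y * m * (e * e') = y * (m * (e * e')) := by group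
        _ = (y * (e * e')) * m := by rw [hdM m hm]; group
        _ = e * e' * (y * m) := by rw [hdy]; group
  refine ⟨⟨heS, heX, mem_of_comm hB (mul_mem heS he'S) hdX, ?_, fun x hx => (hdX x hx).symm, ?_, ?_⟩, hcom⟩
  · calc e * e' * (e * e') = e * (e' * e) * e' := by group
      _ = (e * e) * (e' * e') := by rw [← hcom]; group
      _ = 1 := by rw [he2, he'2, one_mul]
  · calc e * (e * e') = e * (e' * e) := by rw [hcom]
      _ = e * e' * e := by group
  · intro x hx
    by_cases hxM : x ∈ M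
    · left
      rw [← hec x hxM, mul_inv_cancel_right]
    · right
      obtain ⟨m, hm, rfl⟩ := hM.exists_eq hx hxM hy hyM
      calc e * (y * m) * e⁻¹ = e * y * (m * e) := by rw [heinv]; group
        _ = e * y * (e * m) := by rw [hec m hm]
        _ = e * e' * (y * m) := by rw [he']; group

/-- **Essential subgroups normalise the set of parts.** -/
theorem false : False := by
  haveI : Fact (Nat.Prime 2) := ⟨Nat.prime_two⟩
  have hXS : X ≤ S := hB.ess.lt.le
  have hSp : IsPGroup 2 (S : Subgroup G) := S.isPGroup'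
  have hXp : IsPGroup 2 X := hSp.to_le hXS
  obtain ⟨A, hA, -⟩ := h.two
  obtain ⟨m, hm, hmM⟩ := SetLike.not_le_iff_exists.1 hB.ess.ess
  have hmi : m⁻¹ ∈ normalizer (X : Set G) := inv_mem hm
  have hmiM : m⁻¹ ∉ starSub (S : Subgroup G) X := fun h1 => hmM (inv_mem_iff.1 h1)
  -- involutions of half products
  have exE : ∀ M : Subgroup G, Half X M → X ⊓ normalizer (A : Set G) ≤ M →
      ∃ e ∈ sSup {B : Subgroup G | ∃ x ∈ M, B = A.map (MulAut.conj x).toMonoidHom}, orderOf e = 2 ∧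
        ∀ x ∈ M, x * e = e * x := by
    intro M hM hAM
    have hJ : {B : Subgroup G | ∃ x ∈ M, B = A.map (MulAut.conj x).toMonoidHom} ⊆ 𝓛 := by
      rintro _ ⟨x, hx, rfl⟩
      exact h.perm x (hXS (hM.le hx)) A hA
    refine exists_fix (S := (S : Subgroup G)) (X := M) hSp (hM.le.trans hXS) (h.sSup_le hJ) ?_ ?_
    · intro hb
      refine h.ne A hA ?_
      rw [eq_bot_iff, ← hb]
      exact le_sSup ⟨1, one_mem _, (map_conj_one A).symm⟩
    · intro x hx d hd
      refine conj_mem_sSup ?_ hd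
      rintro _ ⟨x', hx', rfl⟩
      exact ⟨x * x', mul_mem hx hx', by rw [map_conj_map_conj]⟩
  obtain ⟨M, hM, hAM⟩ := exists_half hXp (stab_lt h hB hA)
  obtain ⟨e, he, oe, hec⟩ := exE M hM hAM
  obtain ⟨y0, hy0, hy0M⟩ := hM.ex
  obtain ⟨htr, -⟩ := tr_of h hB hA hM hAM he oe hec hy0 hy0M
  set d : G := e * (y0 * e * y0⁻¹) with hd
  set y : G := m * d * m⁻¹ with hy
  have hyX : y ∈ X := (mem_normalizer_iff.1 hm d).1 htr.dmem
  have hyc : ∀ x ∈ X, y * x = x * y := by
    intro x hx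
    have h1 := htr.cen _ ((mem_normalizer_iff''.1 hm x).1 hx)
    have h2 := congrArg (fun t => m * t * m⁻¹) h1
    have e1 : m * (d * (m⁻¹ * x * m)) * m⁻¹ = y * x := by rw [hy]; group
    have e2 : m * (m⁻¹ * x * m * d) * m⁻¹ = x * y := by rw [hy]; group
    simpa only [e1, e2] using h2
  have hy2 : y * y = 1 := by
    have e1 : y * y = m * (d * d) * m⁻¹ := by rw [hy]; group
    rw [e1, htr.sq]; group
  have hyM : y ∉ M := fun h1 => hmM (Tr.mem_star hB.ess htr htr hm (hec y h1).symm)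
  -- `M` normalises `A`
  have hMA : M ≤ normalizer (A : Set G) := by
    by_cases hcase : (X ⊓ normalizer (A : Set G)) ⊔ zpowers y = X
    · intro x hx
      have hxX : x ∈ (X ⊓ normalizer (A : Set G)) ⊔ zpowers y := by rw [hcase]; exact hM.le hx
      obtain ⟨a, ha, hxa⟩ := exists_of_mem_sup (D := X ⊓ normalizer (A : Set G))
        (fun z hz => hyc z (mem_inf.1 hz).1) hy2 hxX
      rcases hxa with rfl | rfl
      · exact ha.2
      · exfalso
        apply hyM
        have e1 : y = a⁻¹ * (a * y) := by group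
        rw [e1]
        exact mul_mem (inv_mem (hAM ha)) hx
    · exfalso
      have hlt : (X ⊓ normalizer (A : Set G)) ⊔ zpowers y < X :=
        lt_of_le_of_ne (sup_le inf_le_left (by rw [zpowers_le]; exact hyX)) hcase
      obtain ⟨M2, hM2, hDM2⟩ := exists_half hXp hlt
      have hAM2 : X ⊓ normalizer (A : Set G) ≤ M2 := le_sup_left.trans hDM2
      have hyM2 : y ∈ M2 := hDM2 (mem_sup_right (mem_zpowers y))
      obtain ⟨e2, he2, oe2, hec2⟩ := exE M2 hM2 hAM2
      obtain ⟨y2, hy2', hy2M⟩ := hM2.ex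
      obtain ⟨htr2, -⟩ := tr_of h hB hA hM2 hAM2 he2 oe2 hec2 hy2' hy2M
      exact hmM (Tr.mem_star hB.ess htr htr2 hm (hec2 y hyM2).symm)
  -- the two parts commute
  have hAJ : A ∈ {B : Subgroup G | ∃ x ∈ M, B = A.map (MulAut.conj x).toMonoidHom} :=
    ⟨1, one_mem _, (map_conj_one A).symm⟩
  have hAle : A ≤ sSup {B : Subgroup G | ∃ x ∈ M, B = A.map (MulAut.conj x).toMonoidHom} := le_sSup hAJ
  have heA : e ∈ A := by
    have h1 : sSup {B : Subgroup G | ∃ x ∈ M, B = A.map (MulAut.conj x).toMonoidHom} ≤ A := by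
      refine _root_.sSup_le ?_
      rintro _ ⟨x, hx, rfl⟩
      rw [mem_normalizer_iff_map_conj.1 (hMA hx)]
    exact h1 he
  have hyN : y ∉ normalizer (A : Set G) := fun h1 => hyM (hAM (mem_inf.2 ⟨hyX, h1⟩))
  have hA' : A.map (MulAut.conj y).toMonoidHom ≠ A := fun h1 => hyN (mem_normalizer_iff_map_conj.2 h1)
  have hAA : ∀ a ∈ A, ∀ b ∈ A, a * (y * b * y⁻¹) = y * b * y⁻¹ * a := fun a ha b hb =>
    h.comm A hA _ (h.perm y (hXS hyX) A hA) (Ne.symm hA') a ha _ (conj_mem_map_conj hb y)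
  have hAS : A ≤ S := h.le A hA
  have hAX : ∀ a ∈ A, a ∈ X → a = 1 := by
    intro a ha haX
    refine eq_one h hB (J := {A}) (by simpa using hA) ?_ (Or.inl Set.subsingleton_singleton) (by simpa using ha) haX
    intro h1
    have h2 : A.map (MulAut.conj y).toMonoidHom ∈ ({A} : Set (Subgroup G)) := by
      rw [h1]; exact h.perm y (hXS hyX) A hA
    exact hA' h2
  have hde : d = e * (y * e * y⁻¹) := by
    obtain ⟨a, ha, haa⟩ := hM.exists_eq hy0 hy0M hyX hyM
    have h1 := hec a ha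
    calc d = e * (y * (a * e) * a⁻¹ * y⁻¹) := by rw [hd, haa]; group
      _ = e * (y * (e * a) * a⁻¹ * y⁻¹) := by rw [h1]
      _ = e * (y * e * y⁻¹) := by group
  have fact5 : ∀ e' ∈ A, orderOf e' = 2 → (∀ x ∈ M, x * e' = e' * x) →
      m⁻¹ * (e' * (y * e' * y⁻¹)) * m ∉ M := by
    intro e' he' oe' hec' h1
    obtain ⟨htr', -⟩ := tr_of h hB hA hM hAM (hAle he') oe' hec' hyX hyM
    refine hmiM (Tr.mem_star hB.ess htr' htr hmi ?_)
    rw [inv_inv]
    exact (hec _ h1).symm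
  have hmX' : ∀ x ∈ X, m⁻¹ * x * m ∈ X := fun x hx => (mem_normalizer_iff''.1 hm x).1 hx
  have hdX : ∀ e' ∈ A, orderOf e' = 2 → (∀ x ∈ M, x * e' = e' * x) → e' * (y * e' * y⁻¹) ∈ X := by
    intro e' he' oe' hec'
    exact (tr_of h hB hA hM hAM (hAle he') oe' hec' hyX hyM).1.dmem
  have noFour : ∀ e1 ∈ A, ∀ e2 ∈ A, orderOf e1 = 2 → orderOf e2 = 2 → (∀ x ∈ M, x * e1 = e1 * x) →
      (∀ x ∈ M, x * e2 = e2 * x) → e1 ≠ e2 → e1 * e2 = e2 * e1 → False := by
    intro e1 h1 e2 h2 o1 o2 c1 c2 hne hcom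
    have hs1 := sq_of_orderOf o1
    have hs2 := sq_of_orderOf o2
    have o12 : orderOf (e1 * e2) = 2 := by
      refine orderOf_eq_two_of_sq ?_ ?_
      · calc e1 * e2 * (e1 * e2) = e1 * (e2 * e1) * e2 := by group
          _ = (e1 * e1) * (e2 * e2) := by rw [← hcom]; group
          _ = 1 := by rw [hs1, hs2, one_mul]
      · intro h3
        apply hne
        have h4 : e2⁻¹ = e2 := inv_eq_of_mul_eq_one_left hs2
        rw [← h4]
        exact eq_inv_of_mul_eq_one_left h3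
    have c12 : ∀ x ∈ M, x * (e1 * e2) = e1 * e2 * x := by
      intro x hx
      calc x * (e1 * e2) = (x * e1) * e2 := by group
        _ = e1 * (x * e2) := by rw [c1 x hx]; group
        _ = e1 * e2 * x := by rw [c2 x hx]; group
    refine fact5 (e1 * e2) (mul_mem h1 h2) o12 c12 ?_
    have e3 : m⁻¹ * (e1 * e2 * (y * (e1 * e2) * y⁻¹)) * m =
        (m⁻¹ * (e1 * (y * e1 * y⁻¹)) * m) * (m⁻¹ * (e2 * (y * e2 * y⁻¹)) * m) := by
      calc m⁻¹ * (e1 * e2 * (y * (e1 * e2) * y⁻¹)) * m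
          = m⁻¹ * (e1 * (e2 * (y * e1 * y⁻¹)) * (y * e2 * y⁻¹)) * m := by group
        _ = m⁻¹ * (e1 * (y * e1 * y⁻¹ * e2) * (y * e2 * y⁻¹)) * m := by rw [hAA e2 h2 e1 h1]
        _ = _ := by group
    rw [e3]
    exact hM.mul _ (hmX' _ (hdX e1 h1 o1 c1)) _ (hmX' _ (hdX e2 h2 o2 c2)) (fact5 e1 h1 o1 c1)
      (fact5 e2 h2 o2 c2)
  have expTwo : ∀ b ∈ A, (∀ x ∈ M, x * b = b * x) → b * b = 1 := by
    intro b hb hbc
    by_contra hne
    obtain ⟨k, hk⟩ := hSp ⟨b, hAS hb⟩
    have hk' : b ^ 2 ^ k = 1 := congrArg Subtype.val hk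
    have h1 : ∃ j, b ^ 2 ^ (j + 1) ≠ 1 ∧ b ^ 2 ^ (j + 2) = 1 := by
      by_contra hcon
      push Not at hcon
      have h2 : ∀ j, b ^ 2 ^ (j + 1) ≠ 1 := by
        intro j
        induction j with
        | zero => simpa [pow_two] using hne
        | succ j ih => exact hcon j ih
      apply h2 k
      rw [pow_succ, pow_mul, hk', one_pow]
    obtain ⟨j, hj1, hj2⟩ := h1
    set b' : G := b ^ 2 ^ j with hb'
    have hb'A : b' ∈ A := pow_mem hb _
    have hb'2 : b' * b' = b ^ 2 ^ (j + 1) := by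
      rw [hb', ← pow_add, ← two_mul, ← pow_succ']
    have hb'4 : (b' * b') * (b' * b') = 1 := by
      rw [hb'2, ← pow_add, ← two_mul, ← pow_succ']; exact hj2
    have hb'c : ∀ x ∈ M, x * b' = b' * x := by
      intro x hx
      exact ((show Commute x b from hbc x hx).pow_right _).eq
    have hb'bA : b' * b' ∈ A := mul_mem hb'A hb'A
    have hb'bc : ∀ x ∈ M, x * (b' * b') = b' * b' * x := by
      intro x hx
      exact ((show Commute x b' from hb'c x hx).mul_right (hb'c x hx)).eq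
    have hob : orderOf (b' * b') = 2 := orderOf_eq_two_of_sq hb'4 (by rw [hb'2]; exact hj1)
    set z : G := b' * (y * b' * y⁻¹) with hz
    have hzX : z ∈ X := by
      refine mem_of_comm hB (mul_mem (hAS hb'A) (mul_mem (mul_mem (hXS hyX) (hAS hb'A)) (inv_mem (hXS hyX)))) ?_
      have hzM : ∀ x ∈ M, x * z = z * x := by
        intro x hx
        have h3 := hb'c x hx
        have h4 := hyc x (hM.le hx)
        have h5 : x * (y * b' * y⁻¹) = y * b' * y⁻¹ * x := by
          calc x * (y * b' * y⁻¹) = (x * y) * b' * y⁻¹ := by group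
            _ = y * (x * b') * y⁻¹ := by rw [← h4]; group
            _ = y * b' * (x * y⁻¹) := by rw [h3]; group
            _ = y * b' * (y⁻¹ * (y * x) * y⁻¹) := by group
            _ = y * b' * (y⁻¹ * (x * y) * y⁻¹) := by rw [h4]
            _ = y * b' * y⁻¹ * x := by group
        calc x * z = (x * b') * (y * b' * y⁻¹) := by rw [hz]; group
          _ = b' * (x * (y * b' * y⁻¹)) := by rw [h3]; group
          _ = z * x := by rw [h5, hz]; group
      have hyi : y⁻¹ = y := inv_eq_of_mul_eq_one_left hy2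
      have hzy : y * z = z * y := by
        have h6 := hAA b' hb'A b' hb'A
        calc y * z = (y * b' * y⁻¹) * (y * y) * b' * y⁻¹ := by rw [hz]; group
          _ = (y * b' * y⁻¹ * b') * y⁻¹ := by rw [hy2]; group
          _ = (b' * (y * b' * y⁻¹)) * y⁻¹ := by rw [← h6]
          _ = z * y := by rw [hz, hyi]
      intro x hx
      by_cases hxM : x ∈ M
      · exact hzM x hxM
      · obtain ⟨a, ha, rfl⟩ := hM.exists_eq hx hxM hyX hyM
        calc y * a * z = y * (a * z) := by group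
          _ = (y * z) * a := by rw [hzM a ha]; group
          _ = z * (y * a) := by rw [hzy]; group
    refine fact5 (b' * b') hb'bA hob hb'bc ?_
    have e3 : m⁻¹ * (b' * b' * (y * (b' * b') * y⁻¹)) * m = (m⁻¹ * z * m) * (m⁻¹ * z * m) := by
      calc m⁻¹ * (b' * b' * (y * (b' * b') * y⁻¹)) * m
          = m⁻¹ * (b' * (b' * (y * b' * y⁻¹)) * (y * b' * y⁻¹)) * m := by group
        _ = m⁻¹ * (b' * (y * b' * y⁻¹ * b') * (y * b' * y⁻¹)) * m := by rw [hAA b' hb'A b' hb'A]
        _ = _ := by rw [hz]; group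
    rw [e3]
    exact hM.sq (hmX' z hzX)
  have hBe : ∀ b ∈ A, (∀ x ∈ M, x * b = b * x) → b = 1 ∨ b = e := by
    intro b hb hbc
    by_contra hcon
    rw [not_or] at hcon
    have hb2 := expTwo b hb hbc
    have hbe := expTwo (b * e) (mul_mem hb heA) (fun x hx => by
      exact ((show Commute x b from hbc x hx).mul_right (hec x hx)).eq)
    have hb2' : b⁻¹ = b := inv_eq_of_mul_eq_one_left hb2
    have he2' : e⁻¹ = e := inv_eq_of_mul_eq_one_left (sq_of_orderOf oe)
    have hcom : b * e = e * b := by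
      have h1 : (b * e)⁻¹ = b * e := inv_eq_of_mul_eq_one_left hbe
      rw [mul_inv_rev, hb2', he2'] at h1
      exact h1.symm
    exact noFour b hb e heA (orderOf_eq_two_of_sq hb2 hcon.1) oe hbc hec hcon.2 hcom
  -- the element `p`
  obtain ⟨e', he'A, oe', hne', -⟩ := h.rich A hA e heA oe
  set Q : Subgroup G := M ⊔ zpowers e with hQ
  have hQA : ∀ q ∈ Q, q ∈ A → q = 1 ∨ q = e := by
    intro q hq hqA
    obtain ⟨a, ha, hqa⟩ := exists_of_mem_sup (fun x hx => (hec x hx).symm) (sq_of_orderOf oe) hq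
    have haA : a ∈ A := by
      rcases hqa with rfl | rfl
      · exact hqA
      · have e1 : a = a * e * e⁻¹ := by group
        rw [e1]; exact mul_mem hqA (inv_mem heA)
    have ha1 := hAX a haA (hM.le ha)
    rcases hqa with rfl | rfl
    · left; exact ha1
    · right; rw [ha1, one_mul]
  have hQT : Q < M ⊔ A := by
    refine lt_of_le_of_ne (sup_le le_sup_left (by rw [zpowers_le]; exact mem_sup_right heA)) fun h1 => ?_
    have h2 : e' ∈ Q := by rw [h1]; exact mem_sup_right he'A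
    rcases hQA e' h2 he'A with h3 | h3
    · exact ne_one_of_orderOf oe' h3
    · exact hne' h3
  have hTp : IsPGroup 2 (M ⊔ A : Subgroup G) := hSp.to_le (sup_le (hM.le.trans hXS) hAS)
  obtain ⟨t, ht, htQ⟩ := SetLike.exists_of_lt (lt_inf_normalizer (p := 2) hTp hQT)
  have htT : t ∈ ((M ⊔ A : Subgroup G) : Set G) := ht.1
  rw [coe_mul_of_left_le_normalizer_right M A hMA] at htT
  obtain ⟨a, ha, p, hp, hap⟩ := Set.mem_mul.1 htT
  have hpt : p = a⁻¹ * t := by rw [← hap]; group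
  have haQ : a ∈ Q := mem_sup_left ha
  have hpN : p ∈ normalizer (Q : Set G) := by
    rw [hpt]; exact mul_mem (inv_mem (le_normalizer haQ)) ht.2
  have hpQ : p ∉ Q := by
    intro h1
    apply htQ
    rw [← hap]; exact mul_mem haQ h1
  have hpA : p ∈ A := hp
  have heQ : e ∈ Q := mem_sup_right (mem_zpowers e)
  have hpq : ∀ q ∈ M, p * q * p⁻¹ = q ∨ p * q * p⁻¹ = e * q := by
    intro q hq
    have h1 : p * q * p⁻¹ ∈ Q := (mem_normalizer_iff.1 hpN q).1 (mem_sup_left hq)
    have h2 : p * q * p⁻¹ * q⁻¹ ∈ Q := mul_mem h1 (inv_mem (mem_sup_left hq))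
    have h3 : p * q * p⁻¹ * q⁻¹ ∈ A := by
      have e1 : p * q * p⁻¹ * q⁻¹ = p * (q * p⁻¹ * q⁻¹) := by group
      rw [e1]
      exact mul_mem hpA ((mem_normalizer_iff.1 (hMA hq) _).1 (inv_mem hpA))
    rcases hQA _ h2 h3 with h4 | h4
    · left; exact mul_inv_eq_one.1 h4
    · right; exact mul_inv_eq_iff_eq_mul.1 h4
  have hpe : p * e = e * p := by
    have h1 : p * e * p⁻¹ ∈ Q := (mem_normalizer_iff.1 hpN e).1 heQ
    rcases hQA _ h1 (mul_mem (mul_mem hpA heA) (inv_mem hpA)) with h4 | h4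
    · exfalso
      apply ne_one_of_orderOf oe
      have h5 : e = p⁻¹ * (p * e * p⁻¹) * p := by group
      rw [h5, h4]; group
    · exact mul_inv_eq_iff_eq_mul.1 h4
  have hexq : ∃ q ∈ M, p * q * p⁻¹ = e * q := by
    by_contra hcon
    push Not at hcon
    have h1 : ∀ x ∈ M, x * p = p * x := by
      intro x hx
      rcases hpq x hx with h2 | h2
      · exact (mul_inv_eq_iff_eq_mul.1 h2).symm
      · exact absurd h2 (hcon x hx)
    rcases hBe p hpA h1 with h2 | h2
    · exact hpQ (h2 ▸ one_mem _)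
    · exact hpQ (h2 ▸ heQ)
  obtain ⟨q, hq, hqq⟩ := hexq
  have hyi : y⁻¹ = y := inv_eq_of_mul_eq_one_left hy2
  set f : G := p * (y * p * y⁻¹) with hf
  have hype : y * p * y⁻¹ * (y * e * y⁻¹) = y * e * y⁻¹ * (y * p * y⁻¹) := by
    calc y * p * y⁻¹ * (y * e * y⁻¹) = y * (p * e) * y⁻¹ := by group
      _ = y * (e * p) * y⁻¹ := by rw [hpe]
      _ = _ := by group
  have hyp1 : ∀ x ∈ M, p * x * p⁻¹ = x → f * x * f⁻¹ = x := by
    intro x hx h1
    have h2 := hyc x (hM.le hx)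
    have h3 : y * p * y⁻¹ * x * (y * p * y⁻¹)⁻¹ = x := by
      calc y * p * y⁻¹ * x * (y * p * y⁻¹)⁻¹ = y * p * y⁻¹ * (x * y) * p⁻¹ * y⁻¹ := by group
        _ = y * (p * x * p⁻¹) * y⁻¹ := by rw [← h2]; group
        _ = (y * x) * y⁻¹ := by rw [h1]
        _ = x := by rw [h2]; group
    calc f * x * f⁻¹ = p * (y * p * y⁻¹ * x * (y * p * y⁻¹)⁻¹) * p⁻¹ := by rw [hf]; group
      _ = x := by rw [h3, h1]
  have hyp2 : ∀ x ∈ M, p * x * p⁻¹ = e * x → f * x * f⁻¹ = d * x := by
    intro x hx h1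
    have h2 := hyc x (hM.le hx)
    have h3 : y * p * y⁻¹ * x * (y * p * y⁻¹)⁻¹ = y * e * y⁻¹ * x := by
      calc y * p * y⁻¹ * x * (y * p * y⁻¹)⁻¹ = y * p * y⁻¹ * (x * y) * p⁻¹ * y⁻¹ := by group
        _ = y * (p * x * p⁻¹) * y⁻¹ := by rw [← h2]; group
        _ = y * (e * x) * y⁻¹ := by rw [h1]
        _ = y * e * (x * y) * y⁻¹ * y⁻¹ := by group
        _ = y * e * (y * x) * y⁻¹ * y⁻¹ := by rw [h2]
        _ = y * e * y⁻¹ * (y * y) * x * (y * y)⁻¹ := by group
        _ = y * e * y⁻¹ * x := by rw [hy2]; group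
    calc f * x * f⁻¹ = p * (y * p * y⁻¹ * x * (y * p * y⁻¹)⁻¹) * p⁻¹ := by rw [hf]; group
      _ = (p * (y * e * y⁻¹)) * x * p⁻¹ := by rw [h3]; group
      _ = (y * e * y⁻¹) * (p * x * p⁻¹) := by rw [hAA p hpA e heA]; group
      _ = (y * e * y⁻¹ * e) * x := by rw [h1]; group
      _ = d * x := by rw [← hAA e heA e heA, hde]
  have hfy : f * y = y * f := by
    have h6 := hAA p hpA p hpA
    calc f * y = (p * (y * p * y⁻¹)) * y := by rw [hf]
      _ = (y * p * y⁻¹ * p) * y := by rw [h6]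
      _ = y * p * (y⁻¹ * p * y) := by group
      _ = y * (p * (y * p * y⁻¹)) := by rw [hyi]; group
      _ = y * f := by rw [hf]
  have hfX : f ∉ X := by
    intro h1
    have h2 := hyp2 q hq hqq
    have h3 : d = f * q * f⁻¹ * q⁻¹ := by rw [h2]; group
    refine fact5 e heA oe hec ?_
    rw [← hde, h3]
    have e1 : m⁻¹ * (f * q * f⁻¹ * q⁻¹) * m =
        (m⁻¹ * f * m) * (m⁻¹ * q * m) * (m⁻¹ * f * m)⁻¹ * (m⁻¹ * q * m)⁻¹ := by group
    rw [e1]
    exact hM.comm (hmX' f h1) (hmX' q (hM.le hq))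
  have hfS : f ∈ (S : Subgroup G) :=
    mul_mem (hAS hpA) (mul_mem (mul_mem (hXS hyX) (hAS hpA)) (inv_mem (hXS hyX)))
  have hfd : f * d = d * f := by
    have h1 := hAA p hpA e heA
    have h2 := hAA e heA p hpA
    have c1 : Commute p e := hpe
    have c2 : Commute p (y * e * y⁻¹) := h1
    have c3 : Commute (y * p * y⁻¹) e := h2.symm
    have c4 : Commute (y * p * y⁻¹) (y * e * y⁻¹) := hype
    rw [hf, hde]
    exact ((c1.mul_right c2).mul_left (c3.mul_right c4)).eq
  have htrf : Tr (S : Subgroup G) X f d := by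
    refine ⟨hfS, hfX, htr.dmem, htr.sq, htr.cen, hfd, fun x hx => ?_⟩
    have hM' : ∀ x ∈ M, f * x * f⁻¹ = x ∨ f * x * f⁻¹ = d * x := by
      intro x hx
      rcases hpq x hx with h1 | h1
      · left; exact hyp1 x hx h1
      · right; exact hyp2 x hx h1
    by_cases hxM : x ∈ M
    · exact hM' x hxM
    · obtain ⟨a, ha, rfl⟩ := hM.exists_eq hx hxM hyX hyM
      have e1 : f * (y * a) * f⁻¹ = y * (f * a * f⁻¹) := by
        calc f * (y * a) * f⁻¹ = (f * y) * a * f⁻¹ := by group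
          _ = y * (f * a * f⁻¹) := by rw [hfy]; group
      rw [e1]
      rcases hM' a ha with h1 | h1
      · left; rw [h1]
      · right
        rw [h1]
        calc y * (d * a) = (y * d) * a := by group
          _ = d * (y * a) := by rw [hyc d htr.dmem]; group
  exact hmM (Tr.mem_star hB.ess htr htrf hm hfy)

end Bad

/-- **`N_G(X) ≤ H` for every essential subgroup `X`.** -/
theorem Frame.normalizer_le [Finite G] {S : Sylow 2 G} {H : Subgroup G} {𝓛 : Set (Subgroup G)}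
    (h : Frame (S : Subgroup G) H 𝓛) {X : Subgroup G} (hX : IsEss 2 (S : Subgroup G) X) :
    normalizer (X : Set G) ≤ H := by
  by_contra hn
  exact Bad.false h ⟨hX, hn⟩

end Cfsg.Agent.UGT.Ctl.Fus
end

-- part: UGT/SL/FactsL2
section
set_option linter.all false
open scoped Cfsg.Agent.FastGrp

/-!
# Involutions of `Aut(L)`, `L ≅ PSL(2,F)`: two facts for THEOREM SL

* `Rep.outer_mul_mem` (O): the product of two commuting involutions of `Aut(L) ∖ Inn(L)` is inner;
* `Rep.exists_fix_not_comm` : an involution `β` of `Aut(L)` fixing the involution `z` of `L`, `β ≠ conj z`, fixes an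
  element of `L` not commuting with `z` (`|F| ≥ 7`).
-/

set_option autoImplicit false

namespace Cfsg.Agent.UGT.SL

open Matrix Cfsg.Agent.Lib.SL2Mat Cfsg.Agent.Lib.AutSL2 Cfsg.Agent.Lib.AutSL2Out
open Cfsg.Agent.GH.L2Aut

/-- `Aut(F)` has at most one involution. -/
theorem ringAut_involution_unique {F : Type*} [Field F] [Finite F] {σ τ : F ≃+* F}
    (hσ : σ * σ = 1) (hτ : τ * τ = 1) (hσ1 : σ ≠ 1) (hτ1 : τ ≠ 1) : σ = τ := by
  classical
  have : IsCyclic (F ≃+* F) := Cfsg.Agent.LieRecognition.FieldSemilinear.isCyclic_ringAut F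
  have : Finite (F ≃+* F) := finite_ringEquiv
  let _ := Fintype.ofFinite (F ≃+* F)
  by_contra hne
  have h1 := IsCyclic.card_pow_eq_one_le (α := F ≃+* F) (n := 2) (by norm_num)
  have h3 : ({1, σ, τ} : Finset (F ≃+* F)) ⊆ Finset.univ.filter (fun a => a ^ 2 = 1) := by
    intro x hx
    simp only [Finset.mem_insert, Finset.mem_singleton] at hx
    rw [Finset.mem_filter]
    refine ⟨Finset.mem_univ _, ?_⟩
    rcases hx with rfl | rfl | rfl
    · exact one_pow _
    · rw [sq, hσ]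
    · rw [sq, hτ]
  have h4 := Finset.card_le_card h3
  have h5 : ({1, σ, τ} : Finset (F ≃+* F)).card = 3 := by
    rw [Finset.card_insert_of_notMem, Finset.card_insert_of_notMem, Finset.card_singleton]
    · rw [Finset.mem_singleton]; exact hne
    · simp only [Finset.mem_insert, Finset.mem_singleton, not_or]
      exact ⟨hσ1.symm, hτ1.symm⟩
  omega

variable {F : Type*} [Field F] [Finite F] {L : Type*} [Group L] (R : Cfsg.Agent.GH.L2Aut.Rep F L)

local notation "SL2" => Matrix.SpecialLinearGroup (Fin 2) F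
local notation "M2" => Matrix (Fin 2) (Fin 2) F

include R in
/-- **(O)** two commuting involutions of `Aut(L) ∖ Inn(L)` have product in `Inn(L)`. -/
theorem outer_mul_mem {α β : MulAut L} (hα : α * α = 1) (hβ : β * β = 1) (hc : α * β = β * α)
    (h1 : α ∉ Inn L) (h2 : β ∉ Inn L) : α * β ∈ Inn L := by
  by_cases hfα : R.fld α = 1
  · by_cases hfβ : R.fld β = 1
    · exact R.mul_mem_inn (R.mem_PGL_iff_fld.2 hfα) h1 (R.mem_PGL_iff_fld.2 hfβ) h2
    · exact absurd (R.mem_inn_iff.2 ⟨hfα, R.o1_of_comm hβ hfβ hc⟩) h1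
  · by_cases hfβ : R.fld β = 1
    · exact absurd (R.mem_inn_iff.2 ⟨hfβ, R.o1_of_comm hα hfα hc.symm⟩) h2
    · have h3 : R.fld α = R.fld β :=
        ringAut_involution_unique (by rw [← map_mul, hα, map_one])
          (by rw [← map_mul, hβ, map_one]) hfα hfβ
      rw [R.mem_inn_iff]
      constructor
      · rw [map_mul, h3, ← map_mul, hβ, map_one]
      · rw [map_mul, R.o1_of_sq hα hfα, R.o1_of_sq hβ hfβ, one_mul]

/-- a parameter off finitely many bad values -/
theorem exists_param (hq : 7 ≤ Nat.card F) (δ : F) :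
    ∃ t : F, t ≠ 0 ∧ 1 + δ * t ^ 2 ≠ 0 ∧ 1 - δ * t ^ 2 ≠ 0 := by
  classical
  let _ := Fintype.ofFinite F
  rw [Nat.card_eq_fintype_card] at hq
  by_cases hδ : δ = 0
  · exact ⟨1, one_ne_zero, by rw [hδ]; simp, by rw [hδ]; simp⟩
  -- the bad values are roots of `X (1 - δ² X⁴)`
  have key : ∀ t : F, t = 0 ∨ 1 + δ * t ^ 2 = 0 ∨ 1 - δ * t ^ 2 = 0 → (t : F) ^ 5 * δ ^ 2 - t = 0 := by
    intro t ht
    rcases ht with h | h | h
    · rw [h]; ring
    · linear_combination (-(t * (1 - δ * t ^ 2))) * h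
    · linear_combination (-(t * (1 + δ * t ^ 2))) * h
  by_contra hcon
  push Not at hcon
  have hall : ∀ t : F, (t : F) ^ 5 * δ ^ 2 - t = 0 := by
    intro t
    apply key
    by_cases h1 : t = 0
    · exact Or.inl h1
    by_cases h2 : 1 + δ * t ^ 2 = 0
    · exact Or.inr (Or.inl h2)
    exact Or.inr (Or.inr (hcon t h1 h2))
  let P : Polynomial F := Polynomial.C (δ ^ 2) * Polynomial.X ^ 5 - Polynomial.X
  have hdeg : P.natDegree = 5 := by
    have h1 : (Polynomial.X : Polynomial F).natDegree < (Polynomial.C (δ ^ 2) * Polynomial.X ^ 5).natDegree := by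
      rw [Polynomial.natDegree_C_mul_X_pow _ _ (pow_ne_zero 2 hδ), Polynomial.natDegree_X]
      norm_num
    rw [Polynomial.natDegree_sub_eq_left_of_natDegree_lt h1,
      Polynomial.natDegree_C_mul_X_pow _ _ (pow_ne_zero 2 hδ)]
  have hP : P ≠ 0 := by
    intro h
    rw [h, Polynomial.natDegree_zero] at hdeg
    omega
  have h3 : (Finset.univ : Finset F) ⊆ P.roots.toFinset := by
    intro t _
    rw [Multiset.mem_toFinset, Polynomial.mem_roots hP, Polynomial.IsRoot]
    simp only [P, Polynomial.eval_sub, Polynomial.eval_mul, Polynomial.eval_C, Polynomial.eval_pow,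
      Polynomial.eval_X]
    linear_combination hall t
  have h4 := Finset.card_le_card h3
  have h5 := Multiset.toFinset_card_le P.roots
  have h6 := Polynomial.card_roots' P
  rw [Finset.card_univ] at h4
  omega

/-- in the torus of the trace zero matrix `g` there is an element commuting with no `i` anticommuting with `g` -/
theorem exists_torus (h2 : (2 : F) ≠ 0) (hq : 7 ≤ Nat.card F) {g : M2} (htr : g.trace = 0)
    (hg : g.det ≠ 0) : ∃ s : SL2, s.1 * g = g * s.1 ∧ ∀ i : GL (Fin 2) F, i.1 * g = -(g * i.1) →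
      s.1 * i.1 ≠ i.1 * s.1 ∧ s.1 * i.1 ≠ -(i.1 * s.1) := by
  obtain ⟨t, ht, ht1, ht2⟩ := exists_param hq g.det
  obtain ⟨a, ha⟩ : ∃ a : F, a = (1 - g.det * t ^ 2) / (1 + g.det * t ^ 2) := ⟨_, rfl⟩
  obtain ⟨b, hb⟩ : ∃ b : F, b = 2 * t / (1 + g.det * t ^ 2) := ⟨_, rfl⟩
  have ha0 : a ≠ 0 := by rw [ha]; exact div_ne_zero ht2 ht1
  have hb0 : b ≠ 0 := by rw [hb]; exact div_ne_zero (mul_ne_zero h2 ht) ht1
  have hab : a ^ 2 + g.det * b ^ 2 = 1 := by
    rw [ha, hb]
    field_simp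
    ring
  have hdet : (a • (1 : M2) + b • g).det = 1 := by
    rw [← hab]
    rw [Matrix.trace_fin_two] at htr
    have h3 : g 1 1 = -g 0 0 := by linear_combination htr
    rw [Matrix.det_fin_two, Matrix.det_fin_two g]
    simp
    rw [h3]
    ring
  refine ⟨⟨_, hdet⟩, ?_, ?_⟩
  · change (a • (1 : M2) + b • g) * g = g * (a • (1 : M2) + b • g)
    rw [Matrix.add_mul, Matrix.mul_add, Matrix.smul_mul, Matrix.smul_mul, Matrix.mul_smul,
      Matrix.mul_smul, Matrix.one_mul, Matrix.mul_one]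
  · intro i hi
    have hcancel : ∀ (c : F) (m : M2), m.det ≠ 0 → c • m = 0 → c = 0 := by
      intro c m hm h
      by_contra hc
      apply hm
      have h5 : m = 0 := by
        have := congrArg (fun x => c⁻¹ • x) h
        simpa [smul_smul, inv_mul_cancel₀ hc] using this
      rw [h5]
      simp
    have hi0 : i.1.det ≠ 0 := (Matrix.GeneralLinearGroup.det i).ne_zero
    have hgi : g * i.1 = -(i.1 * g) := by rw [hi, neg_neg]
    constructor
    · intro h
      change (a • (1 : M2) + b • g) * i.1 = i.1 * (a • (1 : M2) + b • g) at h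
      rw [Matrix.add_mul, Matrix.mul_add, Matrix.smul_mul, Matrix.smul_mul, Matrix.mul_smul,
        Matrix.mul_smul, Matrix.one_mul, Matrix.mul_one, hgi] at h
      have h3 := add_left_cancel h
      have h4 : (2 * b) • (i.1 * g) = 0 := by
        rw [two_mul, add_smul]
        nth_rw 1 [← h3]
        rw [smul_neg, neg_add_cancel]
      have h5 := hcancel _ _ (by rw [Matrix.det_mul]; exact mul_ne_zero hi0 hg) h4
      exact (mul_ne_zero h2 hb0) h5
    · intro h
      change (a • (1 : M2) + b • g) * i.1 = -(i.1 * (a • (1 : M2) + b • g)) at h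
      rw [Matrix.add_mul, Matrix.mul_add, Matrix.smul_mul, Matrix.smul_mul, Matrix.mul_smul,
        Matrix.mul_smul, Matrix.one_mul, Matrix.mul_one, hgi, neg_add, smul_neg] at h
      have h3 := add_right_cancel h
      have h4 : (2 * a) • i.1 = 0 := by
        rw [two_mul, add_smul]
        nth_rw 1 [h3]
        rw [neg_add_cancel]
      have h5 := hcancel _ _ hi0 h4
      exact (mul_ne_zero h2 ha0) h5

include R in
theorem exists_fix_of_linear (hq : 7 ≤ Nat.card F) {z : L} (hz : z * z = 1) (hz1 : z ≠ 1)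
    {β : MulAut L} (hβ : β * β = 1) (hβ1 : β ≠ 1) (hβz : β ≠ MulAut.conj z) (hfix : β z = z)
    (hf : R.fld β = 1) : ∃ x : L, β x = x ∧ x * z ≠ z * x := by
  obtain ⟨g, rfl⟩ := R.mem_PGL.1 (R.mem_PGL_iff_fld.2 hf)
  have hs := R.not_scalar_of_ne hβ1
  have htr := R.tr_of_inv hβ1 hβ
  have hg0 : g.1.det ≠ 0 := (Matrix.GeneralLinearGroup.det g).ne_zero
  obtain ⟨i, rfl, hi⟩ := R.exists_inv_lift hz hz1
  have hcomm : R.gl (Matrix.SpecialLinearGroup.toGL i) * R.gl g =
      R.gl g * R.gl (Matrix.SpecialLinearGroup.toGL i) := by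
    rw [← R.conj_π, Cfsg.Agent.GH.L2Aut.Rep.conj_comm_iff, hfix]
  have hanti : (Matrix.SpecialLinearGroup.toGL i).1 * g.1 = -(g.1 * (Matrix.SpecialLinearGroup.toGL i).1) := by
    rcases R.comm_cases hcomm with h | h
    · exfalso
      rcases R.torus_inv hs htr h.symm (by rw [← R.conj_π, ← map_mul, hz, map_one]) with h3 | h3
      · rw [← R.conj_π] at h3
        exact hz1 (R.conj_injective (by rw [h3, map_one]))
      · rw [← R.conj_π] at h3
        exact hβz h3.symm
    · exact h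
  obtain ⟨s, hs1, hs2⟩ := exists_torus R.two hq htr hg0
  obtain ⟨h3, h4⟩ := hs2 _ hanti
  refine ⟨R.π s, ?_, ?_⟩
  · rw [R.gl_apply]
    congr 1
    exact conjGL_eq_of hs1.symm
  · intro h
    rw [← map_mul, ← map_mul, R.π_eq_iff] at h
    rcases h with h | h
    · exact h3 (congrArg Subtype.val h)
    · exact h4 (congrArg Subtype.val h)

include R in
theorem exists_fix_of_field {z : L} (hz : z * z = 1) (hz1 : z ≠ 1) {β : MulAut L} (hβ : β * β = 1)
    (hf : R.fld β ≠ 1) : ∃ x : L, β x = x ∧ x * z ≠ z * x := by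
  have hord : orderOf (R.fld β) = 2 := orderOf_eq_prime (by rw [sq, ← map_mul, hβ, map_one]) hf
  obtain ⟨h, hh⟩ := R.exists_field β (by rw [hord, sq, hβ])
  obtain ⟨σ, hσ⟩ : ∃ σ, σ = R.fld β := ⟨_, rfl⟩
  rw [← hσ] at hh
  obtain ⟨w, hw⟩ : ∃ w, w = (R.gl h)⁻¹ z := ⟨_, rfl⟩
  have hw' : R.gl h w = z := by rw [hw, MulAut.apply_inv_self]
  have hww : w * w = 1 := (R.gl h).injective (by rw [map_mul, hw', hz, map_one])
  have hw1 : w ≠ 1 := by
    rintro rfl
    rw [map_one] at hw'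
    exact hz1 hw'.symm
  obtain ⟨i, rfl, hi⟩ := R.exists_inv_lift hww hw1
  have key : ∃ x : SL2, fieldAut σ x = x ∧ R.π x * R.π i ≠ R.π i * R.π x := by
    by_contra hcon
    push Not at hcon
    have hup := hcon (up 1) (by refine ext_ent ?_ ?_ ?_ ?_ <;> simp)
    have hlo := hcon (lo 1) (by refine ext_ent ?_ ?_ ?_ ?_ <;> simp)
    rw [← map_mul, ← map_mul, R.π_eq_iff] at hup hlo
    have h2 := R.two
    have hneg : ∀ (x : SL2) (k l : Fin 2), ent (-x) k l = -ent x k l := fun _ _ _ => rfl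
    have hii : i * i = -1 := Subtype.ext hi
    have e00 := congrArg (fun y => ent y 0 0) hii
    have e11 := congrArg (fun y => ent y 1 1) hii
    have hd := det_eq i
    simp only [ent_mul, hneg, ent_one_00, ent_one_11] at e00 e11
    rcases hup with hup | hup
    · have u00 := congrArg (fun y => ent y 0 0) hup
      have u01 := congrArg (fun y => ent y 0 1) hup
      simp only [ent_mul, up_00, up_01, up_10, up_11] at u00 u01
      rcases hlo with hlo | hlo
      · have l00 := congrArg (fun y => ent y 0 0) hlo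
        simp only [ent_mul, lo_00, lo_01, lo_10, lo_11] at l00
        have h10 : ent i 1 0 = 0 := by linear_combination u00
        have h01 : ent i 0 1 = 0 := by linear_combination -l00
        have h3 : ent i 1 1 = ent i 0 0 := by linear_combination u01
        rw [h01, zero_mul, sub_zero, h3] at hd
        rw [h01, zero_mul, add_zero] at e00
        apply h2
        linear_combination e00 - hd
      · have l00 := congrArg (fun y => ent y 0 0) hlo
        have l01 := congrArg (fun y => ent y 0 1) hlo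
        simp only [ent_mul, hneg, lo_00, lo_01, lo_10, lo_11] at l00 l01
        have h10 : ent i 1 0 = 0 := by linear_combination u00
        have h01 : 2 * ent i 0 1 = 0 := by linear_combination l01
        have h01' : ent i 0 1 = 0 := (mul_eq_zero.1 h01).resolve_left h2
        have h00 : 2 * ent i 0 0 = 0 := by linear_combination l00 - h01'
        have h00' : ent i 0 0 = 0 := (mul_eq_zero.1 h00).resolve_left h2
        rw [h00', h01'] at hd
        apply one_ne_zero (α := F)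
        linear_combination -hd
    · have u10 := congrArg (fun y => ent y 1 0) hup
      have u00 := congrArg (fun y => ent y 0 0) hup
      simp only [ent_mul, hneg, up_00, up_01, up_10, up_11] at u10 u00
      have h10 : 2 * ent i 1 0 = 0 := by linear_combination u10
      have h10' : ent i 1 0 = 0 := (mul_eq_zero.1 h10).resolve_left h2
      have h00 : 2 * ent i 0 0 = 0 := by linear_combination u00 - h10'
      have h00' : ent i 0 0 = 0 := (mul_eq_zero.1 h00).resolve_left h2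
      rw [h00', h10'] at hd
      apply one_ne_zero (α := F)
      linear_combination -hd
  obtain ⟨x, hx, hxc⟩ := key
  refine ⟨R.gl h (R.π x), ?_, ?_⟩
  · rw [hh, MulAut.mul_apply, MulAut.inv_apply_self, MulAut.mul_apply, R.fa_apply, hx]
  · intro h3
    apply hxc
    apply (R.gl h).injective
    rw [map_mul, map_mul, hw', h3]

include R in
/-- an involution `β ≠ conj z` of `Aut(L)` fixing the involution `z` fixes an element not commuting with `z` -/
theorem exists_fix_not_comm (hq : 7 ≤ Nat.card F) {z : L} (hz : z * z = 1) (hz1 : z ≠ 1)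
    {β : MulAut L} (hβ : β * β = 1) (hβ1 : β ≠ 1) (hβz : β ≠ MulAut.conj z) (hfix : β z = z) :
    ∃ x : L, β x = x ∧ x * z ≠ z * x := by
  by_cases hf : R.fld β = 1
  · exact exists_fix_of_linear R hq hz hz1 hβ hβ1 hβz hfix hf
  · exact exists_fix_of_field R hz hz1 hβ hf

end Cfsg.Agent.UGT.SL
end

-- part: UGT/SL/GamL2
section
set_option linter.all false
open scoped Cfsg.Agent.FastGrp

/-!
# (Gam) for `L ≅ PSL(2,F)`, `|F| ≥ 11` odd

* `cent_coatom` : the centralizer of an involution is a maximal subgroup of `L`;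
* `gam_pair`, `gam` : a four-group `B ≤ Aut(L)` : a subgroup of `L` containing all fixed points of the involutions of
  `B` is `L`.
-/

set_option autoImplicit false

namespace Cfsg.Agent.UGT.SL

open Matrix Cfsg.Agent.Lib.SL2Mat Cfsg.Agent.Lib.AutSL2 Cfsg.Agent.Lib.AutSL2Out
open Cfsg.Agent.GH.L2Aut

variable {F : Type*} [Field F] {L : Type*} [Group L]

/-- the isomorphism of a representation -/
noncomputable def toEquiv (R : Cfsg.Agent.GH.L2Aut.Rep F L) :
    L ≃* Matrix.ProjectiveSpecialLinearGroup (Fin 2) F :=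
  (QuotientGroup.quotientKerEquivOfSurjective R.π R.surj).symm.trans
    (QuotientGroup.quotientMulEquivOfEq (by
      ext x
      rw [MonoidHom.mem_ker, R.ker, mem_center_iff R.two]))

theorem dihedral_central (k : ℕ) (x : DihedralGroup (2 * k)) :
    DihedralGroup.r (k : ZMod (2 * k)) * x = x * DihedralGroup.r (k : ZMod (2 * k)) := by
  have h : (k : ZMod (2 * k)) + k = 0 := by
    have h1 : ((2 * k : ℕ) : ZMod (2 * k)) = 0 := ZMod.natCast_self _
    rw [← h1]; push_cast; ring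
  rcases x with i | i
  · rw [DihedralGroup.r_mul_r, DihedralGroup.r_mul_r, add_comm]
  · rw [DihedralGroup.r_mul_sr, DihedralGroup.sr_mul_r]
    congr 1
    linear_combination (-1 : ZMod (2 * k)) * h

theorem dihedral_sq (k : ℕ) :
    (DihedralGroup.r (k : ZMod (2 * k)) : DihedralGroup (2 * k)) * DihedralGroup.r (k : ZMod (2 * k)) = 1 := by
  have h : (k : ZMod (2 * k)) + k = 0 := by
    have h1 : ((2 * k : ℕ) : ZMod (2 * k)) = 0 := ZMod.natCast_self _
    rw [← h1]; push_cast; ring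
  rw [DihedralGroup.r_mul_r, h, DihedralGroup.r_zero]

theorem dihedral_ne {k : ℕ} (hk : 0 < k) :
    (DihedralGroup.r (k : ZMod (2 * k)) : DihedralGroup (2 * k)) ≠ 1 := by
  rw [← DihedralGroup.r_zero]
  intro h
  have h1 : (k : ZMod (2 * k)) = 0 := DihedralGroup.r.inj h
  rw [ZMod.natCast_eq_zero_iff] at h1
  have := Nat.le_of_dvd hk h1
  omega

theorem exists_coatom [Finite F] (R : Cfsg.Agent.GH.L2Aut.Rep F L) (hq : 11 ≤ Nat.card F) :
    ∃ H : Subgroup L, IsCoatom H ∧ ∃ k : ℕ, 0 < k ∧ Nonempty (H ≃* DihedralGroup (2 * k)) := by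
  let _ := Fintype.ofFinite F
  rw [Nat.card_eq_fintype_card] at hq
  have hodd : Odd (Fintype.card F) := by
    by_contra hcon
    rw [Nat.not_odd_iff_even, even_iff_two_dvd] at hcon
    have hp := CharP.exists F
    obtain ⟨p, hp⟩ := hp
    have hpp : p.Prime := CharP.char_is_prime F p
    obtain ⟨n, _, hn⟩ := FiniteField.card F p
    rw [hn] at hcon
    have h3 : 2 ∣ p := Nat.prime_two.dvd_of_dvd_pow hcon
    have h4 : 2 = p := (Nat.prime_dvd_prime_iff_eq Nat.prime_two hpp).1 h3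
    subst h4
    apply R.two
    exact_mod_cast CharP.cast_eq_zero F 2
  have key : ∃ H : Subgroup (Matrix.ProjectiveSpecialLinearGroup (Fin 2) F), IsCoatom H ∧
      ∃ k : ℕ, 0 < k ∧ Nonempty (H ≃* DihedralGroup (2 * k)) := by
    have hgcd : Nat.gcd 2 (Fintype.card F - 1) = 2 := by
      apply Nat.gcd_eq_left
      rw [← even_iff_two_dvd]
      obtain ⟨m, hm⟩ := hodd
      exact ⟨m, by omega⟩
    obtain ⟨m, hm⟩ := hodd
    rcases Nat.even_or_odd m with ⟨n, hn⟩ | ⟨n, hn⟩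
    · obtain ⟨H, h1, h2⟩ := Cfsg.Agent.S0812.result (F := F) rfl (by
        simp only [Finset.mem_insert, Finset.mem_singleton, not_or]
        omega)
      refine ⟨H, h1, n, by omega, ?_⟩
      have h3 : (Fintype.card F - 1) / Nat.gcd 2 (Fintype.card F - 1) = 2 * n := by
        rw [hgcd]; omega
      rw [← h3]; exact h2
    · obtain ⟨H, h1, h2⟩ := Cfsg.Agent.S0811.result (F := F) rfl (by
        simp only [Finset.mem_insert, Finset.mem_singleton, not_or]
        omega)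
      refine ⟨H, h1, n + 1, by omega, ?_⟩
      have h3 : (Fintype.card F + 1) / Nat.gcd 2 (Fintype.card F - 1) = 2 * (n + 1) := by
        rw [hgcd]; omega
      rw [← h3]; exact h2
  obtain ⟨H, h1, k, hk, ⟨e⟩⟩ := key
  let f : L ≃* Matrix.ProjectiveSpecialLinearGroup (Fin 2) F := toEquiv R
  refine ⟨H.map f.symm.toMonoidHom, ?_, k, hk, ⟨(H.equivMapOfInjective _ f.symm.injective).symm.trans e⟩⟩
  have h3 := (f.symm.mapSubgroup.isCoatom_iff H).2 h1
  exact h3

/-- **the centralizer of an involution of `L` is maximal** -/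
theorem cent_coatom [Finite F] (R : Cfsg.Agent.GH.L2Aut.Rep F L) (hq : 11 ≤ Nat.card F) {z : L}
    (hz : z * z = 1) (hz1 : z ≠ 1) : IsCoatom (Subgroup.centralizer ({z} : Set L)) := by
  obtain ⟨H, hH, k, hk, ⟨e⟩⟩ := exists_coatom R hq
  obtain ⟨y, hy⟩ : ∃ y : H, y = e.symm (DihedralGroup.r (k : ZMod (2 * k))) := ⟨_, rfl⟩
  have hyy : (y : L) * y = 1 := by
    have : y * y = 1 := by rw [hy, ← map_mul, dihedral_sq, map_one]
    exact congrArg Subtype.val this
  have hy1 : (y : L) ≠ 1 := by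
    intro h
    have h3 : y = 1 := Subtype.ext h
    rw [hy] at h3
    apply dihedral_ne hk
    apply e.symm.injective
    rw [h3, map_one]
  have hle : H ≤ Subgroup.centralizer ({(y : L)} : Set L) := by
    intro x hx
    rw [Subgroup.mem_centralizer_singleton_iff]
    have h3 : (⟨x, hx⟩ : H) * y = y * ⟨x, hx⟩ := by
      apply e.injective
      rw [map_mul, map_mul, hy, MulEquiv.apply_symm_apply]
      exact (dihedral_central k _).symm
    exact congrArg Subtype.val h3
  have hne : Subgroup.centralizer ({(y : L)} : Set L) ≠ ⊤ := by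
    intro h
    have h3 : (y : L) ∈ Subgroup.center L := by
      rw [Subgroup.mem_center_iff]
      intro g
      have : g ∈ Subgroup.centralizer ({(y : L)} : Set L) := by rw [h]; trivial
      exact Subgroup.mem_centralizer_singleton_iff.1 this
    rw [R.center_eq_bot, Subgroup.mem_bot] at h3
    exact hy1 h3
  have hHe : Subgroup.centralizer ({(y : L)} : Set L) = H := (hH.le_iff_eq hne).1 hle
  obtain ⟨g, hg⟩ := R.inv_conj hyy hy1 hz hz1
  have h3 := (((MulAut.conj g : MulAut L) : L ≃* L).mapSubgroup.isCoatom_iff H).2 hH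
  have h4 : ((MulAut.conj g : MulAut L) : L ≃* L).mapSubgroup H =
      Subgroup.centralizer ({z} : Set L) := by
    rw [← hHe]
    ext x
    rw [MulEquiv.coe_mapSubgroup, Subgroup.mem_map_equiv, Subgroup.mem_centralizer_singleton_iff,
      Subgroup.mem_centralizer_singleton_iff, ← hg]
    change g⁻¹ * x * g * y = y * (g⁻¹ * x * g) ↔ _
    constructor
    · intro h
      calc x * (g * y * g⁻¹) = g * (g⁻¹ * x * g * y) * g⁻¹ := by group
        _ = g * (y * (g⁻¹ * x * g)) * g⁻¹ := by rw [h]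
        _ = g * y * g⁻¹ * x := by group
    · intro h
      calc g⁻¹ * x * g * y = g⁻¹ * (x * (g * y * g⁻¹)) * g := by group
        _ = g⁻¹ * (g * y * g⁻¹ * x) * g := by rw [h]
        _ = y * (g⁻¹ * x * g) := by group
  rw [← h4]
  exact h3

/-- **(Gam)** for two commuting involutions `α ≠ β` of `Aut(L)` -/
theorem gam_pair [Finite F] (R : Cfsg.Agent.GH.L2Aut.Rep F L) (hq : 11 ≤ Nat.card F) {α β : MulAut L}
    (hα : α * α = 1) (hβ : β * β = 1) (hα1 : α ≠ 1) (hβ1 : β ≠ 1) (hne : α ≠ β)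
    (hc : α * β = β * α) (H : Subgroup L) (h1 : ∀ x, α x = x → x ∈ H) (h2 : ∀ x, β x = x → x ∈ H)
    (h3 : ∀ x, α (β x) = x → x ∈ H) : H = ⊤ := by
  -- the case of an inner element
  have key : ∀ (z : L) (γ : MulAut L), z * z = 1 → z ≠ 1 → γ * γ = 1 → γ ≠ 1 → γ ≠ MulAut.conj z →
      γ z = z → (∀ x, x * z = z * x → x ∈ H) → (∀ x, γ x = x → x ∈ H) → H = ⊤ := by
    intro z γ hz hz1 hγ hγ1 hγz hfix hz2 hγ2
    obtain ⟨x, hx, hx2⟩ := exists_fix_not_comm R (by omega) hz hz1 hγ hγ1 hγz hfix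
    have hco := cent_coatom R hq hz hz1
    have hle : Subgroup.centralizer ({z} : Set L) ≤ H := fun y hy =>
      hz2 y (Subgroup.mem_centralizer_singleton_iff.1 hy)
    by_contra hH
    have h4 := (hco.le_iff_eq hH).1 hle
    apply hx2
    apply Subgroup.mem_centralizer_singleton_iff.1
    rw [← h4]
    exact hγ2 x hx
  have hinn : ∀ γ δ : MulAut L, γ ∈ Inn L → γ * γ = 1 → γ ≠ 1 → δ * δ = 1 → δ ≠ 1 → δ ≠ γ →
      γ * δ = δ * γ → (∀ x, γ x = x → x ∈ H) → (∀ x, δ x = x → x ∈ H) → H = ⊤ := by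
    intro γ δ hγI hγ hγ1 hδ hδ1 hne' hc' hf1 hf2
    obtain ⟨z, hz, rfl⟩ := R.inn_inv hγI hγ
    have hz1 : z ≠ 1 := by
      rintro rfl
      exact hγ1 (map_one _)
    refine key z δ hz hz1 hδ hδ1 hne' ?_ ?_ hf2
    · apply R.conj_injective
      exact (Cfsg.Agent.GH.L2Aut.Rep.conj_comm_iff).1 hc'
    · intro x hx
      apply hf1
      rw [MulAut.conj_apply, ← hx, mul_inv_cancel_right]
  have hαβ : (α * β) * (α * β) = 1 := by
    calc (α * β) * (α * β) = α * (β * α) * β := by group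
      _ = α * (α * β) * β := by rw [hc]
      _ = (α * α) * (β * β) := by group
      _ = 1 := by rw [hα, hβ, one_mul]
  have hαβ1 : α * β ≠ 1 := by
    intro h
    apply hne
    calc α = α * (β * β) := by rw [hβ, mul_one]
      _ = (α * β) * β := by group
      _ = β := by rw [h, one_mul]
  by_cases hI : α ∈ Inn L
  · exact hinn α β hI hα hα1 hβ hβ1 (Ne.symm hne) hc h1 h2
  · by_cases hI2 : β ∈ Inn L
    · exact hinn β α hI2 hβ hβ1 hα hα1 hne hc.symm h2 h1
    · have hI3 := outer_mul_mem R hα hβ hc hI hI2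
      refine hinn (α * β) α hI3 hαβ hαβ1 hα hα1 ?_ ?_ h3 h1
      · intro h
        exact hβ1 (left_eq_mul.1 h)
      · calc α * β * α = α * (β * α) := by group
          _ = α * (α * β) := by rw [hc]

theorem comm_of_sq {G : Type*} [Group G] {a b : G} (h1 : a * a = 1) (h2 : b * b = 1)
    (h3 : (a * b) * (a * b) = 1) : a * b = b * a := by
  have h4 : a * b = (a * b)⁻¹ := (inv_eq_of_mul_eq_one_left h3).symm
  rw [h4, _root_.mul_inv_rev, inv_eq_of_mul_eq_one_left h1, inv_eq_of_mul_eq_one_left h2]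

/-- **(Gam)** for a four-group of automorphisms -/
theorem gam [Finite F] (R : Cfsg.Agent.GH.L2Aut.Rep F L) (hq : 11 ≤ Nat.card F)
    (B : Subgroup (MulAut L)) (hB : Nat.card B = 4) (hB2 : ∀ b ∈ B, b * b = 1) (H : Subgroup L)
    (hH : ∀ b ∈ B, b ≠ 1 → ∀ x, b x = x → x ∈ H) : H = ⊤ := by
  have hfin : Finite B := Nat.finite_of_card_ne_zero (by omega)
  obtain ⟨a, ha⟩ : ∃ a : B, a ≠ 1 := by
    have : Nontrivial B := Finite.one_lt_card_iff_nontrivial.1 (by omega)
    exact exists_ne 1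
  obtain ⟨b, hb⟩ : ∃ b : B, b ∉ ({1, a} : Set B) := by
    by_contra hcon
    push Not at hcon
    have h1 : Nat.card B ≤ 2 := by
      have h2 : (Set.univ : Set B) ⊆ {1, a} := fun x _ => hcon x
      have h3 := Set.ncard_le_ncard h2 (Set.toFinite _)
      rw [Set.ncard_univ] at h3
      exact h3.trans (Set.ncard_insert_le _ _ |>.trans (by rw [Set.ncard_singleton]))
    omega
  simp only [Set.mem_insert_iff, Set.mem_singleton_iff, not_or] at hb
  have hcomm : (a : MulAut L) * b = b * a :=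
    comm_of_sq (hB2 _ a.2) (hB2 _ b.2) (hB2 _ (mul_mem a.2 b.2))
  have ha1 : (a : MulAut L) ≠ 1 := fun h => ha (Subtype.ext h)
  have hb1 : (b : MulAut L) ≠ 1 := fun h => hb.1 (Subtype.ext h)
  have hab : (a : MulAut L) ≠ b := fun h => hb.2 (Subtype.ext h.symm)
  refine gam_pair R hq (hB2 _ a.2) (hB2 _ b.2) ha1 hb1 hab hcomm H (hH _ a.2 ha1) (hH _ b.2 hb1) ?_
  refine hH _ (mul_mem a.2 b.2) ?_
  intro h
  apply hab
  calc (a : MulAut L) = a * (b * b) := by rw [hB2 _ b.2, mul_one]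
    _ = (a * b) * b := by group
    _ = b := by rw [h, one_mul]

end Cfsg.Agent.UGT.SL
end

-- part: UGT/SL/GamMod
section
set_option linter.all false
open scoped Cfsg.Agent.FastGrp

/-!
# (Gam) for `L/W ≅ PSL(2,F)`, `W` of odd order, inside a group `G`
-/

set_option autoImplicit false

namespace Cfsg.Agent.UGT.SL

open Cfsg.Agent.GH.L2Aut

variable {G : Type*} [Group G]

/-- fixed points modulo a subgroup of odd order lift: `a` an involution, `a x⁻¹ a x ∈ W` -/
theorem exists_fix_lift {W : Subgroup G} (hW : Odd (Nat.card W)) {a x : G} (ha : a * a = 1)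
    (hu : a * (x⁻¹ * a * x) ∈ W) : ∃ w ∈ W, (x * w) * a = a * (x * w) := by
  obtain ⟨u, hue⟩ : ∃ u, u = a * (x⁻¹ * a * x) := ⟨_, rfl⟩
  rw [← hue] at hu
  have hainv : a⁻¹ = a := inv_eq_of_mul_eq_one_left ha
  have hinv : a * u * a = u⁻¹ := by
    rw [hue]
    have h1 : (a * (x⁻¹ * a * x))⁻¹ = x⁻¹ * a⁻¹ * x * a⁻¹ := by group
    rw [h1, hainv, ← mul_assoc a a, ha, one_mul]
  have hordW : orderOf (⟨u, hu⟩ : W) ∣ Nat.card W := orderOf_dvd_natCard _
  have hodd : Odd (orderOf u) := by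
    have h1 : orderOf (⟨u, hu⟩ : W) = orderOf u := Subgroup.orderOf_mk _ _
    rw [← h1]
    obtain ⟨m, hm⟩ := hordW
    rw [hm] at hW
    exact (Nat.odd_mul.1 hW).1
  obtain ⟨k, hk⟩ := hodd
  obtain ⟨v, hv⟩ : ∃ v, v = u ^ (k + 1) := ⟨_, rfl⟩
  have hvv : v * v = u := by
    rw [hv, ← pow_add, show k + 1 + (k + 1) = orderOf u + 1 by omega, pow_succ, pow_orderOf_eq_one,
      one_mul]
  have hav : a * v * a = v⁻¹ := by
    have h1 : ∀ n : ℕ, a * u ^ n * a = (u ^ n)⁻¹ := by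
      intro n
      induction n with
      | zero => rw [pow_zero, mul_one, ha, inv_one]
      | succ n ih =>
        calc a * u ^ (n + 1) * a = a * u ^ n * (a * a) * u * a := by rw [ha, pow_succ]; group
          _ = (a * u ^ n * a) * (a * u * a) := by group
          _ = (u ^ (n + 1))⁻¹ := by rw [ih, hinv]; group
    rw [hv]; exact h1 _
  have hx : x⁻¹ * a * x = a * (v * v) := by
    rw [hvv, hue, ← mul_assoc a a, ha, one_mul]
  refine ⟨v⁻¹, inv_mem (by rw [hv]; exact pow_mem hu _), ?_⟩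
  have h1 : a * v = v⁻¹ * a := by
    calc a * v = (a * v * a) * a := by rw [mul_assoc, ha, mul_one]
      _ = v⁻¹ * a := by rw [hav]
  calc (x * v⁻¹) * a = x * (v⁻¹ * a) := by group
    _ = x * (a * v) := by rw [h1]
    _ = x * (a * (v * v)) * v⁻¹ := by group
    _ = x * (x⁻¹ * a * x) * v⁻¹ := by rw [hx]
    _ = a * (x * v⁻¹) := by group

section act

variable {L W : Subgroup G}

/-- the action of an element of `N(L) ∩ N(W)` on `L/W` -/
noncomputable def act (hn : (W.subgroupOf L).Normal) (hWL : W ≤ L) (a : G)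
    (haL : a ∈ Subgroup.normalizer (L : Set G)) (haW : a ∈ Subgroup.normalizer (W : Set G)) :
    MulAut (L ⧸ W.subgroupOf L) :=
  QuotientGroup.congr (W.subgroupOf L) (W.subgroupOf L) (Subgroup.normalizerMonoidHom L ⟨a, haL⟩) (by
    ext x
    constructor
    · rintro ⟨y, hy, rfl⟩
      exact (Subgroup.mem_normalizer_iff.1 haW y).1 hy
    · intro hx
      have h1 : a⁻¹ * (x : G) * a ∈ W := by
        have h2 := (Subgroup.mem_normalizer_iff.1 (inv_mem haW) x).1 hx
        rwa [inv_inv] at h2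
      refine ⟨⟨a⁻¹ * (x : G) * a, hWL h1⟩, h1, ?_⟩
      apply Subtype.ext
      change a * (a⁻¹ * (x : G) * a) * a⁻¹ = x
      group)

theorem act_mk (hn : (W.subgroupOf L).Normal) (hWL : W ≤ L) (a : G)
    (haL : a ∈ Subgroup.normalizer (L : Set G)) (haW : a ∈ Subgroup.normalizer (W : Set G))
    (x : L) : act hn hWL a haL haW (x : L ⧸ W.subgroupOf L) =
      ((⟨a * x * a⁻¹, (Subgroup.mem_normalizer_iff.1 haL _).1 x.2⟩ : L) : L ⧸ W.subgroupOf L) := rfl

theorem act_mul (hn : (W.subgroupOf L).Normal) (hWL : W ≤ L) (a b : G)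
    (haL : a ∈ Subgroup.normalizer (L : Set G)) (haW : a ∈ Subgroup.normalizer (W : Set G))
    (hbL : b ∈ Subgroup.normalizer (L : Set G)) (hbW : b ∈ Subgroup.normalizer (W : Set G)) :
    act hn hWL (a * b) (mul_mem haL hbL) (mul_mem haW hbW) =
      act hn hWL a haL haW * act hn hWL b hbL hbW := by
  apply MulEquiv.ext
  intro y
  induction y using QuotientGroup.induction_on with
  | _ x =>
  rw [MulAut.mul_apply, act_mk, act_mk, act_mk]
  congr 1
  apply Subtype.ext
  change a * b * x * (a * b)⁻¹ = a * (b * x * b⁻¹) * a⁻¹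
  group

theorem act_eq_one_iff (hn : (W.subgroupOf L).Normal) (hWL : W ≤ L) (a : G)
    (haL : a ∈ Subgroup.normalizer (L : Set G)) (haW : a ∈ Subgroup.normalizer (W : Set G)) :
    act hn hWL a haL haW = 1 ↔ ∀ x ∈ L, x⁻¹ * (a * x * a⁻¹) ∈ W := by
  constructor
  · intro h x hx
    have h1 := DFunLike.congr_fun h ((⟨x, hx⟩ : L) : L ⧸ W.subgroupOf L)
    rw [act_mk, MulAut.one_apply, eq_comm, QuotientGroup.eq] at h1
    exact h1
  · intro h
    apply MulEquiv.ext
    intro y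
    induction y using QuotientGroup.induction_on with
    | _ x =>
    rw [act_mk, MulAut.one_apply, eq_comm, QuotientGroup.eq]
    exact h x x.2

theorem act_fix_iff (hn : (W.subgroupOf L).Normal) (hWL : W ≤ L) (a : G)
    (haL : a ∈ Subgroup.normalizer (L : Set G)) (haW : a ∈ Subgroup.normalizer (W : Set G)) (x : L) :
    act hn hWL a haL haW (x : L ⧸ W.subgroupOf L) = x ↔ (x : G)⁻¹ * (a * x * a⁻¹) ∈ W := by
  rw [act_mk, eq_comm, QuotientGroup.eq]
  exact Iff.rfl

/-- fixed points of `a` on `L/W` are covered by `C_L(a)` -/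
theorem act_fix (hn : (W.subgroupOf L).Normal) (hWL : W ≤ L) (hW : Odd (Nat.card W)) {a : G}
    (haa : a * a = 1) (haL : a ∈ Subgroup.normalizer (L : Set G))
    (haW : a ∈ Subgroup.normalizer (W : Set G)) {x : L}
    (h : act hn hWL a haL haW (x : L ⧸ W.subgroupOf L) = x) :
    ∃ w ∈ W, ((x : G) * w) * a = a * ((x : G) * w) := by
  rw [act_fix_iff] at h
  have hainv : a⁻¹ = a := inv_eq_of_mul_eq_one_left haa
  apply exists_fix_lift hW haa
  -- `a x⁻¹ a x = (a (x⁻¹ (a x a⁻¹))) a⁻¹`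
  have h1 : a * ((x : G)⁻¹ * a * x) = a * ((x : G)⁻¹ * (a * x * a⁻¹)) * a⁻¹ := by
    rw [hainv]
    simp only [mul_assoc, haa, mul_one]
  rw [h1]
  exact (Subgroup.mem_normalizer_iff.1 haW _).1 h

end act

end Cfsg.Agent.UGT.SL
end

-- part: UGT/A7/PumpL2
section
set_option linter.all false
open scoped Cfsg.Agent.FastGrp

/-!
# Involutory automorphisms of `L ≅ PSL(2,F)` with a nonsolvable centralizer

* `eq_bot_of_PGL` : a perfect group of fixed points of an involution of `PGL` is trivial;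
* `field_of_perfect` : a perfect group of at least 60 fixed points: `α = 1` or `α` is of field type and `|F| ≥ 25`;
* `eq_bot_of_field` : an odd normal subgroup of the group of fixed points of an involution of field type is trivial
  (`|F| ≥ 25`);
* `inner_of_comm` : hence an involution `β` commuting with an involution of field type is inner if `O(C_L(β)) ≠ 1`.
-/

set_option autoImplicit false

namespace Cfsg.Agent.UGT.A7.PumpL2

open Matrix Cfsg.Agent.Lib.SL2Mat Cfsg.Agent.Lib.AutSL2 Cfsg.Agent.Lib.AutSL2Out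
open Cfsg.Agent.GH.L2Aut Cfsg.Agent.UGT.SL
open Cfsg.Agent.GH.L2Aut.Rep (conj_comm_iff)
open scoped commutatorElement

variable {F : Type*} [Field F] [Finite F] {L : Type*} [Group L] (R : Cfsg.Agent.GH.L2Aut.Rep F L)

/-- a perfect subgroup all of whose elements commute is trivial -/
theorem eq_bot_of_comm {G : Type*} [Group G] {E : Subgroup G} (hp : ⁅E, E⁆ = E)
    (h : ∀ x ∈ E, ∀ y ∈ E, x * y = y * x) : E = ⊥ := by
  rw [eq_bot_iff, ← hp, Subgroup.commutator_le]
  intro x hx y hy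
  rw [Subgroup.mem_bot, commutatorElement_eq_one_iff_mul_comm]
  exact h x hx y hy

include R in
/-- perfect groups of fixed points of an involution of `PGL` are trivial -/
theorem eq_bot_of_PGL {φ : MulAut L} (h1 : φ ∈ R.PGL) (hne : φ ≠ 1) (h3 : φ * φ = 1)
    {E : Subgroup L} (hE : E ≤ fixSub φ) (hp : ⁅E, E⁆ = E) : E = ⊥ := by
  obtain ⟨A, hA, hφA, hcomm, huniq, hcov⟩ := R.inv_cent h1 hne h3
  have hcE : ∀ x ∈ E, MulAut.conj x ∈ A ∨ (MulAut.conj x * MulAut.conj x = 1 ∧
      ∀ y ∈ A, MulAut.conj x * y * (MulAut.conj x)⁻¹ = y⁻¹) := by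
    intro x hx
    refine hcov _ (R.conj_mem_PGL x) ?_
    rw [conj_comm_iff, (hE hx : φ x = x)]
  -- every element of `E` centralizes `A`
  let C : Subgroup L := (Subgroup.centralizer (A : Set (MulAut L))).comap
    (MulAut.conj : L →* MulAut L)
  have hC : E ≤ C := by
    rw [← hp, Subgroup.commutator_le]
    intro x hx y hy
    change MulAut.conj ⁅x, y⁆ ∈ Subgroup.centralizer (A : Set (MulAut L))
    rw [Subgroup.mem_centralizer_iff]
    intro a ha
    have key : ∀ x ∈ E, (∀ a ∈ A, MulAut.conj x * a * (MulAut.conj x)⁻¹ = a) ∨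
        (∀ a ∈ A, MulAut.conj x * a * (MulAut.conj x)⁻¹ = a⁻¹) := by
      intro x hx
      rcases hcE x hx with h | ⟨-, h⟩
      · left
        intro a ha
        rw [hcomm _ h _ ha, mul_inv_cancel_right]
      · exact Or.inr h
    have hai : a⁻¹ ∈ A := inv_mem ha
    rw [commutatorElement_def, map_mul, map_mul, map_mul, map_inv, map_inv]
    have hinv : ∀ {g a b : MulAut L}, g * a * g⁻¹ = b → g⁻¹ * b * g = a := by
      intro g a b h
      rw [← h]; group
    have goal : MulAut.conj x * MulAut.conj y * (MulAut.conj x)⁻¹ * (MulAut.conj y)⁻¹ * a *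
        (MulAut.conj x * MulAut.conj y * (MulAut.conj x)⁻¹ * (MulAut.conj y)⁻¹)⁻¹ = a := by
      rcases key x hx with hx1 | hx1 <;> rcases key y hy with hy1 | hy1
      · have e1 := hinv (hy1 a ha)
        have e2 := hinv (hx1 a ha)
        have e3 := hy1 a ha
        have e4 := hx1 a ha
        calc MulAut.conj x * MulAut.conj y * (MulAut.conj x)⁻¹ * (MulAut.conj y)⁻¹ * a *
            (MulAut.conj x * MulAut.conj y * (MulAut.conj x)⁻¹ * (MulAut.conj y)⁻¹)⁻¹ =
            MulAut.conj x * (MulAut.conj y * ((MulAut.conj x)⁻¹ * ((MulAut.conj y)⁻¹ * a *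
              MulAut.conj y) * MulAut.conj x) * (MulAut.conj y)⁻¹) * (MulAut.conj x)⁻¹ := by group
          _ = a := by rw [e1, e2, e3, e4]
      · have e1 : (MulAut.conj y)⁻¹ * a * MulAut.conj y = a⁻¹ :=
          hinv (by rw [hy1 _ hai, inv_inv])
        have e2 := hinv (hx1 _ hai)
        have e3 : MulAut.conj y * a⁻¹ * (MulAut.conj y)⁻¹ = a := by rw [hy1 _ hai, inv_inv]
        have e4 := hx1 a ha
        calc MulAut.conj x * MulAut.conj y * (MulAut.conj x)⁻¹ * (MulAut.conj y)⁻¹ * a *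
            (MulAut.conj x * MulAut.conj y * (MulAut.conj x)⁻¹ * (MulAut.conj y)⁻¹)⁻¹ =
            MulAut.conj x * (MulAut.conj y * ((MulAut.conj x)⁻¹ * ((MulAut.conj y)⁻¹ * a *
              MulAut.conj y) * MulAut.conj x) * (MulAut.conj y)⁻¹) * (MulAut.conj x)⁻¹ := by group
          _ = a := by rw [e1, e2, e3, e4]
      · have e1 := hinv (hy1 a ha)
        have e2 : (MulAut.conj x)⁻¹ * a * MulAut.conj x = a⁻¹ :=
          hinv (by rw [hx1 _ hai, inv_inv])
        have e3 := hy1 _ hai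
        have e4 : MulAut.conj x * a⁻¹ * (MulAut.conj x)⁻¹ = a := by rw [hx1 _ hai, inv_inv]
        calc MulAut.conj x * MulAut.conj y * (MulAut.conj x)⁻¹ * (MulAut.conj y)⁻¹ * a *
            (MulAut.conj x * MulAut.conj y * (MulAut.conj x)⁻¹ * (MulAut.conj y)⁻¹)⁻¹ =
            MulAut.conj x * (MulAut.conj y * ((MulAut.conj x)⁻¹ * ((MulAut.conj y)⁻¹ * a *
              MulAut.conj y) * MulAut.conj x) * (MulAut.conj y)⁻¹) * (MulAut.conj x)⁻¹ := by group
          _ = a := by rw [e1, e2, e3, e4]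
      · have e1 : (MulAut.conj y)⁻¹ * a * MulAut.conj y = a⁻¹ :=
          hinv (by rw [hy1 _ hai, inv_inv])
        have e2 : (MulAut.conj x)⁻¹ * a⁻¹ * MulAut.conj x = a := hinv (hx1 a ha)
        have e3 := hy1 a ha
        have e4 : MulAut.conj x * a⁻¹ * (MulAut.conj x)⁻¹ = a := by rw [hx1 _ hai, inv_inv]
        calc MulAut.conj x * MulAut.conj y * (MulAut.conj x)⁻¹ * (MulAut.conj y)⁻¹ * a *
            (MulAut.conj x * MulAut.conj y * (MulAut.conj x)⁻¹ * (MulAut.conj y)⁻¹)⁻¹ =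
            MulAut.conj x * (MulAut.conj y * ((MulAut.conj x)⁻¹ * ((MulAut.conj y)⁻¹ * a *
              MulAut.conj y) * MulAut.conj x) * (MulAut.conj y)⁻¹) * (MulAut.conj x)⁻¹ := by group
          _ = a := by rw [e1, e2, e3, e4]
    exact (mul_inv_eq_iff_eq_mul.mp goal).symm
  have hCE : ∀ x ∈ E, ∀ a ∈ A, MulAut.conj x * a = a * MulAut.conj x := fun x hx a ha =>
    ((Subgroup.mem_centralizer_iff.mp (hC hx)) a ha).symm
  by_cases hEA : ∀ x ∈ E, MulAut.conj x ∈ A
  · apply eq_bot_of_comm hp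
    intro x hx y hy
    apply R.conj_injective
    rw [map_mul, map_mul]
    exact hcomm _ (hEA x hx) _ (hEA y hy)
  · push Not at hEA
    obtain ⟨x, hx, hxA⟩ := hEA
    -- `E` has exponent 2
    have hsq : ∀ y ∈ E, y * y = 1 := by
      have h4 : ∀ y ∈ E, MulAut.conj y ∉ A → y * y = 1 := by
        intro y hy hyA
        apply R.conj_injective
        rw [map_mul, map_one]
        exact ((hcE y hy).resolve_left hyA).1
      intro y hy
      by_cases hyA : MulAut.conj y ∈ A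
      · have h5 : MulAut.conj (x * y) ∉ A := by
          intro h
          apply hxA
          rw [map_mul] at h
          exact (Subgroup.mul_mem_cancel_right _ hyA).mp h
        have h6 := h4 _ (mul_mem hx hy) h5
        have h7 := h4 x hx hxA
        have h8 : x * y = y * x := by
          apply R.conj_injective
          rw [map_mul, map_mul]
          exact hCE x hx _ hyA
        calc y * y = (x * x) * (y * y) := by rw [h7, one_mul]
          _ = x * (x * y) * y := by group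
          _ = x * (y * x) * y := by rw [h8]
          _ = (x * y) * (x * y) := by group
          _ = 1 := h6
      · exact h4 y hy hyA
    apply eq_bot_of_comm hp
    intro y hy z hz
    have h1 := hsq _ (mul_mem hy hz)
    have h2 := hsq y hy
    have h3 := hsq z hz
    have h4 : (y * z)⁻¹ = y * z := inv_eq_of_mul_eq_one_left h1
    have h5 : y⁻¹ = y := inv_eq_of_mul_eq_one_left h2
    have h6 : z⁻¹ = z := inv_eq_of_mul_eq_one_left h3
    rw [← h4, _root_.mul_inv_rev, h5, h6]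

section field

variable {K : Subfield F} {σ : F ≃+* F}

/-- `sub K` has index 2 in the group of fixed points of `fa σ` -/
theorem relIndex_sub (hm : Even (orderOf σ))
    (hK : ∀ a, a ∈ K ↔ σ a = a) (hcard : Nat.card F = Nat.card K ^ orderOf σ) :
    (R.sub K).relIndex (fixSub (R.fa σ)) = 2 := by
  have h1 := R.card_fix hm hK hcard
  have h2 := (R.subRep K).card_mul_two
  have h3 := Subgroup.card_mul_index ((R.sub K).subgroupOf (fixSub (R.fa σ)))
  have h4 : Nat.card ((R.sub K).subgroupOf (fixSub (R.fa σ))) = Nat.card (R.sub K) :=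
    Nat.card_congr (Subgroup.subgroupOfEquivOfLe (R.sub_le_fix hK)).toEquiv
  have hfin : Finite L := R.finite
  rw [h4, h1, ← h2] at h3
  exact Nat.eq_of_mul_eq_mul_left Nat.card_pos h3

/-- perfect groups of fixed points of `fa σ` are contained in `sub K` -/
theorem le_sub_of_perfect (hm : Even (orderOf σ))
    (hK : ∀ a, a ∈ K ↔ σ a = a) (hcard : Nat.card F = Nat.card K ^ orderOf σ) {E : Subgroup L}
    (hE : E ≤ fixSub (R.fa σ)) (hp : ⁅E, E⁆ = E) : E ≤ R.sub K := by
  have h1 := relIndex_sub R hm hK hcard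
  rw [Subgroup.relIndex] at h1
  have hn := Subgroup.normal_of_index_eq_two h1
  rw [← hp, Subgroup.commutator_le]
  intro x hx y hy
  have h2 : ⁅(⟨x, hE hx⟩ : fixSub (R.fa σ)), ⟨y, hE hy⟩⁆ ∈ (R.sub K).subgroupOf (fixSub (R.fa σ)) := by
    rw [← QuotientGroup.eq_one_iff]
    have h3 : Nat.card (↥(fixSub (R.fa σ)) ⧸ (R.sub K).subgroupOf (fixSub (R.fa σ))) = 2 := h1
    have h5 : Fact (Nat.Prime 2) := ⟨Nat.prime_two⟩
    have h4 : IsCyclic (↥(fixSub (R.fa σ)) ⧸ (R.sub K).subgroupOf (fixSub (R.fa σ))) :=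
      isCyclic_of_prime_card h3
    have h6 := h4.commutative
    change QuotientGroup.mk' _ _ = 1
    rw [map_commutatorElement, commutatorElement_eq_one_iff_mul_comm]
    exact h6.is_comm.comm _ _
  exact h2

end field

/-- an odd normal subgroup of the group of fixed points of an involution of field type is trivial -/
theorem eq_bot_of_field {β : MulAut L} (hβ : β * β = 1) (hf : R.fld β ≠ 1) (hq : 25 ≤ Nat.card F)
    {D : Subgroup L} (hD : D ≤ fixSub β) (hn : ∀ y ∈ fixSub β, ∀ d ∈ D, y * d * y⁻¹ ∈ D)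
    (ho : Odd (Nat.card D)) : D = ⊥ := by
  obtain ⟨R', ha, hb, hc, hd⟩ := R.ftype_rep (fun h => hf (R.mem_PGL_iff_fld.1 h)) hβ
  obtain ⟨K, hK, hcard⟩ := exists_fixed_field (R.fld β)
  have hm : Even (orderOf (R.fld β)) := by rw [hd]; exact even_two
  have hfin : Finite L := R.finite
  have h2 := relIndex_sub R' hm hK hcard
  rw [← hc] at h2
  have hle : R'.sub K ≤ fixSub β := by
    have := R'.sub_le_fix hK
    rwa [← hc] at this
  -- `D ≤ sub K`
  have hDs : D ≤ R'.sub K := by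
    intro d hd'
    have h3 : (⟨d, hD hd'⟩ : fixSub β) ^ 2 ∈ (R'.sub K).subgroupOf (fixSub β) := by
      rw [Subgroup.relIndex] at h2
      exact Subgroup.sq_mem_of_index_two h2 _
    have h3' : d ^ 2 ∈ R'.sub K := h3
    obtain ⟨k, hk⟩ := ho
    have h4 : d ^ (2 * k + 1) = 1 := by
      rw [← hk]
      exact congrArg Subtype.val (pow_card_eq_one' (x := (⟨d, hd'⟩ : D)))
    have h5 : d = (d ^ 2) ^ (k + 1) := by
      rw [← pow_mul, show 2 * (k + 1) = (2 * k + 1) + 1 by ring, pow_succ, h4, one_mul]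
    rw [h5]
    exact pow_mem h3' _
  -- `sub K` is simple of even order
  have hk5 : 5 ≤ Nat.card K := by
    rw [hd] at hcard
    by_contra h
    push Not at h
    have : Nat.card K ^ 2 ≤ 4 ^ 2 := Nat.pow_le_pow_left (by omega) 2
    omega
  have hsimple : IsSimpleGroup (R'.sub K) := by
    let _ := Fintype.ofFinite K
    have h1 := Cfsg.Agent.TwoFusion.SLTwoFacts.isSimpleGroup_psl (F := K)
      (by rw [← Nat.card_eq_fintype_card]; omega)
    exact (toEquiv (R'.subRep K)).isSimpleGroup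
  have hDn : (D.subgroupOf (R'.sub K)).Normal := by
    constructor
    intro d hd' y
    exact hn _ (hle y.2) _ hd'
  rcases hDn.eq_bot_or_eq_top with h | h
  · rw [Subgroup.subgroupOf_eq_bot, disjoint_iff, inf_of_le_left hDs] at h
    exact h
  · exfalso
    have h3 : Nat.card (R'.sub K) = Nat.card D := by
      rw [← Nat.card_congr (Subgroup.subgroupOfEquivOfLe hDs).toEquiv, h, Subgroup.card_top]
    obtain ⟨a, b, hab⟩ := (R'.subRep K).exists_four
    have h4 : orderOf a = 2 := orderOf_eq_prime (by rw [pow_two]; exact hab.aa) hab.a1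
    have h5 : 2 ∣ Nat.card (R'.sub K) := by rw [← h4]; exact orderOf_dvd_natCard a
    rw [h3] at h5
    exact (Nat.not_even_iff_odd.2 ho) (even_iff_two_dvd.2 h5)

/-- a perfect group of at least 60 fixed points of an involutory automorphism -/
theorem field_of_perfect {α : MulAut L} (hα : α * α = 1) {E : Subgroup L} (hE : E ≤ fixSub α)
    (hp : ⁅E, E⁆ = E) (hc : 60 ≤ Nat.card E) : α = 1 ∨ (R.fld α ≠ 1 ∧ 25 ≤ Nat.card F) := by
  by_cases h1 : α = 1
  · exact Or.inl h1
  right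
  by_cases hf : R.fld α = 1
  · exfalso
    have h2 := eq_bot_of_PGL R (R.mem_PGL_iff_fld.2 hf) h1 hα hE hp
    rw [h2, Subgroup.card_bot] at hc
    omega
  refine ⟨hf, ?_⟩
  obtain ⟨R', ha, hb, hc', hd⟩ := R.ftype_rep (fun h => hf (R.mem_PGL_iff_fld.1 h)) hα
  obtain ⟨K, hK, hcard⟩ := exists_fixed_field (R.fld α)
  have hm : Even (orderOf (R.fld α)) := by rw [hd]; exact even_two
  have hfin : Finite L := R.finite
  have h2 := le_sub_of_perfect R' hm hK hcard (by rw [← hc']; exact hE) hp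
  have h3 : 60 ≤ Nat.card (R'.sub K) := hc.trans (Nat.le_of_dvd Nat.card_pos (Subgroup.card_dvd_of_le h2))
  have h4 := (R'.subRep K).card_mul_two
  have hk5 : 5 ≤ Nat.card K := by
    by_contra h
    push Not at h
    have h5 : Nat.card K * (Nat.card K ^ 2 - 1) ≤ 4 * (4 ^ 2 - 1) := by
      apply Nat.mul_le_mul (by omega)
      exact Nat.sub_le_sub_right (Nat.pow_le_pow_left (by omega) 2) 1
    omega
  rw [hcard, hd]
  have : 5 ^ 2 ≤ Nat.card K ^ 2 := Nat.pow_le_pow_left hk5 2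
  omega

/-- an involution commuting with an involution of field type is inner if the group of its fixed points has a
nontrivial odd normal subgroup -/
theorem inner_of_comm {α β : MulAut L} (hα : α * α = 1) (hf : R.fld α ≠ 1) (hβ : β * β = 1)
    (hc : β * α = α * β) (hq : 25 ≤ Nat.card F) {D : Subgroup L} (hD : D ≤ fixSub β)
    (hn : ∀ y ∈ fixSub β, ∀ d ∈ D, y * d * y⁻¹ ∈ D) (ho : Odd (Nat.card D)) (hne : D ≠ ⊥) :
    ∃ l : L, β = MulAut.conj l := by
  by_cases hfβ : R.fld β = 1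
  · obtain ⟨l, hl⟩ := R.mem_inn_iff.2 ⟨hfβ, R.o1_of_comm hα hf hc⟩
    exact ⟨l, hl.symm⟩
  · exact absurd (eq_bot_of_field R hβ hfβ hq hD hn ho) hne

end Cfsg.Agent.UGT.A7.PumpL2
end

-- part: UGT/TT/PGLSolv
section
set_option linter.all false
open scoped Cfsg.Agent.FastGrp

/-!
# Facts on `L ≅ PSL(2,F)` and `PGL(2,F) ≤ Aut(L)`

* `solv`: the centralizer in `Aut(L)` of an involution of `PGL` contains no perfect group;
* `field`: an involution outside `PGL` centralizes a perfect group of even order (`|F| ≥ 11`);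
* `rank`: `PGL` has 2-rank at most 2;
* `isSimple`, `four`, `fixed`.
-/

set_option autoImplicit false

namespace Cfsg.Agent.UGT.TT.PGLSolv

open Matrix Cfsg.Agent.Lib.SL2Mat Cfsg.Agent.Lib.AutSL2 Cfsg.Agent.Lib.AutSL2Out
open Cfsg.Agent.GH.L2Aut Cfsg.Agent.UGT.SL
open Cfsg.Agent.GH.L2Aut.Rep (conj_comm_iff)
open scoped commutatorElement

/-- A group `J` all of whose elements are in an abelian `A` or are of order at most 2 and invert `A` is not perfect. -/
theorem eq_bot_of_dih {G : Type*} [Group G] {A J : Subgroup G} (hA : ∀ x ∈ A, ∀ y ∈ A, x * y = y * x)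
    (hJ : ∀ x ∈ J, x ∈ A ∨ (x * x = 1 ∧ ∀ y ∈ A, x * y * x⁻¹ = y⁻¹)) (hp : J ≤ ⁅J, J⁆) : J = ⊥ := by
  have hs : ∀ x ∈ J, (∀ a ∈ A, x * a * x⁻¹ = a) ∨ (∀ a ∈ A, x * a * x⁻¹ = a⁻¹) := by
    intro x hx
    rcases hJ x hx with h | ⟨-, h⟩
    · left
      intro a ha
      rw [hA x h a ha]; group
    · exact Or.inr h
  have hprod : ∀ x ∈ J, ∀ y ∈ J, ∀ a ∈ A, (x * y) * a * (x * y)⁻¹ = (y * x) * a * (y * x)⁻¹ := by
    intro x hx y hy a ha
    have e1 : (x * y) * a * (x * y)⁻¹ = x * (y * a * y⁻¹) * x⁻¹ := by group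
    have e2 : (y * x) * a * (y * x)⁻¹ = y * (x * a * x⁻¹) * y⁻¹ := by group
    have hai : a⁻¹ ∈ A := inv_mem ha
    rw [e1, e2]
    rcases hs x hx with h1 | h1 <;> rcases hs y hy with h2 | h2
    · rw [h2 a ha, h1 a ha, h2 a ha]
    · rw [h2 a ha, h1 a ha, h1 _ hai, h2 a ha]
    · rw [h2 a ha, h1 a ha, h2 _ hai]
    · rw [h2 a ha, h1 a ha, h1 _ hai, h2 _ hai]
  have hC : J ≤ Subgroup.centralizer (A : Set G) := by
    refine hp.trans ?_
    rw [Subgroup.commutator_le]
    intro x hx y hy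
    rw [Subgroup.mem_centralizer_iff]
    intro a ha
    have hyx : y * x ∈ J := mul_mem hy hx
    -- b with (yx) b (yx)⁻¹ = a
    obtain ⟨b, hb, hb2⟩ : ∃ b ∈ A, (y * x) * b * (y * x)⁻¹ = a := by
      rcases hs _ hyx with h | h
      · exact ⟨a, ha, h a ha⟩
      · exact ⟨a⁻¹, inv_mem ha, by rw [h _ (inv_mem ha), inv_inv]⟩
    have h3 := hprod x hx y hy b hb
    rw [hb2] at h3
    have h4 : b = (y * x)⁻¹ * a * (y * x) := by rw [← hb2]; group
    rw [h4] at h3
    have h5 : ⁅x, y⁆ * a * ⁅x, y⁆⁻¹ = a := by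
      rw [commutatorElement_def]
      calc x * y * x⁻¹ * y⁻¹ * a * (x * y * x⁻¹ * y⁻¹)⁻¹ =
          x * y * ((y * x)⁻¹ * a * (y * x)) * (x * y)⁻¹ := by group
        _ = a := h3
    calc a * ⁅x, y⁆ = ⁅x, y⁆ * a * ⁅x, y⁆⁻¹ * ⁅x, y⁆ := by rw [h5]
      _ = ⁅x, y⁆ * a := by group
  have hJA : ∀ x ∈ J, ∀ a ∈ A, x * a = a * x := fun x hx a ha =>
    ((Subgroup.mem_centralizer_iff.1 (hC hx)) a ha).symm
  have hcomm : ∀ x ∈ J, ∀ y ∈ J, x * y = y * x := by
    intro x hx y hy
    rcases hJ x hx with h1 | ⟨h1, -⟩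
    · exact (hJA y hy x h1).symm
    · rcases hJ y hy with h2 | ⟨h2, -⟩
      · exact hJA x hx y h2
      · rcases hJ _ (mul_mem hx hy) with h3 | ⟨h3, -⟩
        · have h4 := hJA x hx _ h3
          calc x * y = x * (x * y) * x⁻¹ * (x * x⁻¹) * (x⁻¹)⁻¹ * x⁻¹ := by
                rw [h4]; group
            _ = x * x * y * x⁻¹ := by group
            _ = y * x := by
                rw [h1, one_mul, inv_eq_of_mul_eq_one_left h1]
        · exact comm_of_sq h1 h2 h3
  rw [eq_bot_iff]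
  refine hp.trans ?_
  rw [Subgroup.commutator_le]
  intro x hx y hy
  rw [Subgroup.mem_bot, commutatorElement_eq_one_iff_mul_comm]
  exact hcomm x hx y hy

variable {F : Type*} [Field F] [Finite F] {L : Type*} [Group L] (R : Cfsg.Agent.GH.L2Aut.Rep F L)

local notation "SL2" => Matrix.SpecialLinearGroup (Fin 2) F
local notation "M2" => Matrix (Fin 2) (Fin 2) F

theorem perfect_le_PGL {J : Subgroup (MulAut L)} (hp : J ≤ ⁅J, J⁆) : J ≤ R.PGL := by
  refine hp.trans ?_
  rw [Subgroup.commutator_le]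
  intro x hx y hy
  rw [R.mem_PGL_iff_fld, map_commutatorElement, commutatorElement_eq_one_iff_mul_comm]
  have : IsCyclic (F ≃+* F) := Cfsg.Agent.LieRecognition.FieldSemilinear.isCyclic_ringAut F
  let _ : CommGroup (F ≃+* F) := IsCyclic.commGroup
  exact mul_comm _ _

theorem solv {α : MulAut L} (h1 : α ∈ R.PGL) (h2 : α * α = 1) (hne : α ≠ 1) {J : Subgroup (MulAut L)}
    (hp : J ≤ ⁅J, J⁆) (hc : ∀ β ∈ J, β * α = α * β) : J = ⊥ := by
  obtain ⟨A, hA, hφA, hcomm, huniq, hcov⟩ := R.inv_cent h1 hne h2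
  exact eq_bot_of_dih hcomm (fun x hx => hcov x (perfect_le_PGL R hp hx) (hc x hx)) hp

include R in
theorem isSimple (hq : 4 ≤ Nat.card F) : IsSimpleGroup L := by
  let _ := Fintype.ofFinite F
  have h1 := Cfsg.Agent.TwoFusion.SLTwoFacts.isSimpleGroup_psl (F := F)
    (by rw [← Nat.card_eq_fintype_card]; omega)
  exact (toEquiv R).isSimpleGroup

include R in
theorem nab : ¬ ∀ x y : L, x * y = y * x := by
  intro h
  obtain ⟨a, b, hab⟩ := R.exists_four
  have h1 : a ∈ Subgroup.center L := by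
    rw [Subgroup.mem_center_iff]
    intro g
    exact h g a
  rw [R.center_eq_bot, Subgroup.mem_bot] at h1
  exact hab.a1 h1

/-- a nonabelian simple group is perfect -/
theorem top_le_commutator {H : Type*} [Group H] [IsSimpleGroup H] (h : ¬ ∀ x y : H, x * y = y * x) :
    (⊤ : Subgroup H) ≤ ⁅(⊤ : Subgroup H), (⊤ : Subgroup H)⁆ := by
  have hn : (⁅(⊤ : Subgroup H), (⊤ : Subgroup H)⁆).Normal := inferInstance
  rcases hn.eq_bot_or_eq_top with h1 | h1
  · exfalso
    apply h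
    intro x y
    have h2 : ⁅x, y⁆ ∈ ⁅(⊤ : Subgroup H), (⊤ : Subgroup H)⁆ :=
      Subgroup.commutator_mem_commutator (Subgroup.mem_top _) (Subgroup.mem_top _)
    rw [h1, Subgroup.mem_bot] at h2
    exact commutatorElement_eq_one_iff_mul_comm.1 h2
  · rw [h1]

theorem field (hq : 11 ≤ Nat.card F) {α : MulAut L} (h1 : α * α = 1) (h2 : α ∉ R.PGL) :
    ∃ J : Subgroup L, J ≤ ⁅J, J⁆ ∧ (∀ x ∈ J, α x = x) ∧ ∃ e ∈ J, e * e = 1 ∧ e ≠ 1 := by
  obtain ⟨R', -, -, h3, h4⟩ := R.ftype_rep h2 h1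
  obtain ⟨K, hK, hcard⟩ := exists_fixed_field (R.fld α)
  rw [h4] at hcard
  have hK4 : 4 ≤ Nat.card K := by
    by_contra hcon
    have h5 : Nat.card K ≤ 3 := by omega
    have h6 : Nat.card K ^ 2 ≤ 3 ^ 2 := Nat.pow_le_pow_left h5 2
    omega
  have hfix : ∀ x ∈ R'.sub K, α x = x := by
    intro x hx
    rw [h3]
    exact R'.sub_le_fix hK hx
  have hS : IsSimpleGroup (R'.sub K) := isSimple (R'.subRep K) hK4
  have hnab := nab (R'.subRep K)
  obtain ⟨a, b, hab⟩ := (R'.subRep K).exists_four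
  refine ⟨R'.sub K, ?_, hfix, a, a.2, ?_, ?_⟩
  · intro x hx
    have h5 := top_le_commutator hnab (Subgroup.mem_top (⟨x, hx⟩ : R'.sub K))
    have h6 := Subgroup.mem_map_of_mem (R'.sub K).subtype h5
    rw [Subgroup.map_commutator, ← MonoidHom.range_eq_map, Subgroup.range_subtype] at h6
    exact h6
  · exact congrArg Subtype.val hab.aa
  · intro h
    exact hab.a1 (Subtype.ext h)

theorem rank {α β γ : MulAut L} (hα : α ∈ R.PGL) (hβ : β ∈ R.PGL) (hγ : γ ∈ R.PGL) (h1 : α * α = 1)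
    (h2 : β * β = 1) (h3 : γ * γ = 1) (h12 : α * β = β * α) (h13 : α * γ = γ * α)
    (h23 : β * γ = γ * β) :
    α = 1 ∨ β = 1 ∨ γ = 1 ∨ α * β = 1 ∨ α * γ = 1 ∨ β * γ = 1 ∨ α * β * γ = 1 := by
  by_cases hα1 : α = 1
  · exact Or.inl hα1
  right
  have key : ∀ {x y : MulAut L}, x * x = 1 → x = y → x * y = 1 := by
    intro x y hx hxy
    rw [← hxy, hx]
  obtain ⟨g, rfl⟩ := R.mem_PGL.1 hα
  obtain ⟨h, rfl⟩ := R.mem_PGL.1 hβ
  obtain ⟨k, rfl⟩ := R.mem_PGL.1 hγ
  have htr := R.tr_of_inv hα1 h1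
  have hs := R.not_scalar_of_ne hα1
  rcases R.comm_cases h12.symm with e1 | e1
  · rcases R.torus_inv hs htr e1.symm h2 with h | h
    · exact Or.inl h
    · right; right; left
      exact key h1 h.symm
  · rcases R.comm_cases h13.symm with e2 | e2
    · rcases R.torus_inv hs htr e2.symm h3 with h | h
      · exact Or.inr (Or.inl h)
      · right; right; right; left
        exact key h1 h.symm
    · have e3 : g.1 * (h * k).1 = (h * k).1 * g.1 := by
        have e4 : (h * k).1 = h.1 * k.1 := rfl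
        rw [e4]
        calc g.1 * (h.1 * k.1) = (g.1 * h.1) * k.1 := by rw [mul_assoc]
          _ = -(h.1 * g.1) * k.1 := by rw [e1, neg_neg]
          _ = -(h.1 * (g.1 * k.1)) := by rw [neg_mul, mul_assoc]
          _ = -(h.1 * -(k.1 * g.1)) := by rw [e2, neg_neg]
          _ = h.1 * k.1 * g.1 := by rw [mul_neg, neg_neg, mul_assoc]
      have e5 : R.gl (h * k) * R.gl (h * k) = 1 := by
        rw [map_mul]
        calc R.gl h * R.gl k * (R.gl h * R.gl k) = R.gl h * (R.gl k * R.gl h) * R.gl k := by group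
          _ = R.gl h * (R.gl h * R.gl k) * R.gl k := by rw [h23]
          _ = (R.gl h * R.gl h) * (R.gl k * R.gl k) := by group
          _ = 1 := by rw [h2, h3, one_mul]
      rcases R.torus_inv hs htr e3 e5 with h | h
      · rw [map_mul] at h
        right; right; right; right; left
        exact h
      · rw [map_mul] at h
        right; right; right; right; right
        rw [mul_assoc, h, h1]

include R in
theorem four {e : L} (h1 : e * e = 1) (h2 : e ≠ 1) : ∃ f : L, f * f = 1 ∧ f ≠ 1 ∧ f ≠ e ∧ e * f = f * e := by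
  obtain ⟨a, b, hab⟩ := R.exists_four
  obtain ⟨g, hg⟩ := R.inv_conj hab.aa hab.a1 h1 h2
  have h3 := hab.map (MulAut.conj g)
  rw [MulAut.conj_apply, hg] at h3
  exact ⟨_, h3.bb, h3.b1, h3.ne.symm, h3.comm⟩

/-- an automorphism of order 2 of a group of even order fixes an involution (proof of helper115) -/
theorem fixed {H : Type*} [Group H] [Finite H] (h2 : 2 ∣ Nat.card H) {φ : MulAut H} (hφ : φ * φ = 1) :
    ∃ z : H, z * z = 1 ∧ z ≠ 1 ∧ φ z = z := by
  classical
  have : Fintype H := Fintype.ofFinite H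
  have : Fact (Nat.Prime 2) := ⟨Nat.prime_two⟩
  let α : Type _ := {x : H // x * x = 1}
  have h1 : Nat.card H ≡ Nat.card α [MOD 2] := by
    let f : Function.End H := fun x => x⁻¹
    have hf : f ^ 2 ^ 1 = 1 := by
      funext x
      show (x⁻¹)⁻¹ = x
      rw [inv_inv]
    have h3 := Equiv.Perm.card_fixedPoints_modEq (f := f) (p := 2) (n := 1) hf
    rw [Nat.card_eq_fintype_card, Nat.card_eq_fintype_card]
    refine h3.trans ?_
    have h4 : Fintype.card f.fixedPoints = Fintype.card α := by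
      refine Fintype.card_congr (Equiv.subtypeEquivRight fun x => ?_)
      show x⁻¹ = x ↔ x * x = 1
      rw [inv_eq_iff_mul_eq_one]
    rw [h4]
  have hφφ : ∀ x, φ (φ x) = x := fun x => by rw [← MulAut.mul_apply, hφ, MulAut.one_apply]
  let g : Function.End α := fun x => ⟨φ x.1, by rw [← map_mul, x.2, map_one]⟩
  have hg : g ^ 2 ^ 1 = 1 := by
    funext x
    exact Subtype.ext (hφφ x.1)
  have h3 := Equiv.Perm.card_fixedPoints_modEq (f := g) (p := 2) (n := 1) hg
  rw [← Nat.card_eq_fintype_card, ← Nat.card_eq_fintype_card] at h3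
  have h4 : 2 ∣ Nat.card g.fixedPoints :=
    ((h1.trans h3).dvd_iff (dvd_refl 2)).1 h2
  have h5 : (⟨1, mul_one 1⟩ : α) ∈ g.fixedPoints := Subtype.ext (map_one φ)
  have h6 : 1 < Nat.card g.fixedPoints := by
    have : Nonempty g.fixedPoints := ⟨⟨_, h5⟩⟩
    have : 0 < Nat.card g.fixedPoints := Nat.card_pos
    omega
  obtain ⟨a, b, hab⟩ := (Finite.one_lt_card_iff_nontrivial.1 h6).exists_pair_ne
  have key : ∀ a : g.fixedPoints, a.1.1 ≠ 1 → ∃ z : H, z * z = 1 ∧ z ≠ 1 ∧ φ z = z := fun a ha =>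
    ⟨a.1.1, a.1.2, ha, congrArg Subtype.val a.2⟩
  by_cases ha : a.1.1 = 1
  · by_cases hb : b.1.1 = 1
    · exact absurd (Subtype.ext (Subtype.ext (ha.trans hb.symm))) hab
    · exact key b hb
  · exact key a ha

include R in
theorem two_dvd : 2 ∣ Nat.card L := by
  have := R.finite
  obtain ⟨a, b, hab⟩ := R.exists_four
  have h1 : orderOf a = 2 := orderOf_eq_prime (by rw [sq, hab.aa]) hab.a1
  rw [← h1]
  exact orderOf_dvd_natCard a

end Cfsg.Agent.UGT.TT.PGLSolv
end

-- part: KFacts/MulSpor/HeSign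
section
set_option linter.all false
open scoped Cfsg.Agent.FastGrp

/-!
# The Held group has no perfect double cover

The two classes of involutions (`a`, `e`) lift to involutions by `seven` applied to `⟨b, e, f⟩` and `⟨a, e, f⟩`; then the
relators of the presentation, all of them powers, hold for suitable lifts of the generators.
-/

set_option autoImplicit false

namespace Cfsg.Agent.KFacts.MulSpor.HeSign

open Cfsg.Spor Cfsg.Spor.He Cfsg.Agent.SporadicB.HePerm
open Cfsg.Agent.KFacts.MulCov Cfsg.Agent.KFacts.MulSpor.SignLift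

/-- the elements of the class of `a`, with conjugating words -/
def listA : List (List Gen × List Gen) := [
  ([.b], [.b, .c, .d, .e, .f, .d, .c, .b, .g, .d, .f, .c, .d, .c, .d, .b, .c]),
  ([.c], [.b, .c, .d, .e, .f, .d, .c, .g, .d, .f, .b, .c, .d, .c, .d]),
  ([.a, .e], [.b, .c, .d, .c, .d, .f, .d, .c, .d, .f, .c, .d, .b]),
  ([.a, .f], [.b, .c, .d, .e, .f, .d, .g, .c, .b]),
  ([.a, .e, .f], [.b, .c, .d, .e, .f, .d, .c, .b]),
  ([.a, .d], [.b, .c, .d, .e, .f, .d, .g, .c, .d, .f, .b]),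
  ([.a, .g], [.b, .c, .d, .e, .g, .d, .f, .c, .b]),
  ([.a, .b, .a, .b], [.b, .c, .d, .c, .f, .d, .c, .d, .f, .d, .c, .d, .c])]

/-- the elements of the class of `e`, with conjugating words -/
def listE : List (List Gen × List Gen) := [
  ([.f], [.d, .f, .e, .d]),
  ([.e, .f], [.d, .f, .e, .d, .g]),
  ([.b, .e], [.d, .c, .d, .c, .b, .e, .d, .c]),
  ([.b, .f], [.d, .c, .d, .c, .b, .e, .d, .c, .d, .f, .e, .d]),
  ([.b, .e, .f], [.d, .c, .d, .c, .b, .e, .d, .c, .d, .f, .e, .d, .g]),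
  ([.d], [.d, .e]),
  ([.g], [.d, .g, .e, .d]),
  ([.a, .c], [.d, .c, .e, .d, .c, .d]),
  ([.b, .d], [.d, .c, .d, .c, .b, .e, .d, .c, .d, .e]),
  ([.b, .g], [.d, .c, .d, .c, .b, .e, .d, .c, .d, .g, .e, .d]),
  ([.c, .e], [.d, .c, .d, .e, .c, .d]),
  ([.c, .f], [.d, .c, .d, .c, .b, .e, .d, .c, .d, .f, .e, .d, .c, .b]),
  ([.c, .g], [.d, .c, .d, .c, .b, .e, .d, .c, .d, .g, .e, .d, .c, .b]),
  ([.e, .g], [.d, .g, .e, .d, .f]),
  ([.c, .d, .f, .g, .c, .d, .f, .g], [.d, .c, .f, .d, .g, .d, .f])]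

/-- `h v` and `r h` act in the same way -/
def chk (r : Gen) (p : List Gen × List Gen) : Bool :=
  allBelow 2058 fun i => Nat.beq (act (p.2 ++ p.1) i) (act (r :: p.2) i)

private theorem allBelow_of {p : ℕ → Bool} : ∀ {n : ℕ}, (∀ i < n, p i = true) → allBelow n p = true
  | 0, _ => rfl
  | n + 1, h => Bool.and_eq_true_iff.2 ⟨h n n.lt_succ_self, allBelow_of fun i hi => h i (Nat.lt_succ_of_lt hi)⟩

private theorem chk_of {r : Gen} {l : List (List Gen × List Gen)}
    (h : (l.all fun p => Cfsg.Agent.FixBN.HeStab.chkB (p.2 ++ p.1) (r :: p.2)) = true) : l.all (chk r) = true :=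
  List.all_eq_true.2 fun p hp => allBelow_of fun i hi => Nat.beq_eq.mpr (by
    have h1 := Cfsg.Agent.FixBN.HeStab.eq_of_chkB (List.all_eq_true.1 h p hp)
    rw [← phi_wd_apply _ ⟨i, hi⟩, ← phi_wd_apply _ ⟨i, hi⟩, h1])

theorem chkA : listA.all (chk .a) = true := chk_of (by decide +kernel)
theorem chkE : listE.all (chk .e) = true := chk_of (by decide +kernel)

theorem wd_append (v w : List Gen) : wd (v ++ w) = wd v * wd w := by
  unfold wd; rw [List.map_append, List.prod_append]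

theorem wd_cons (x : Gen) (w : List Gen) : wd (x :: w) = wd [x] * wd w := wd_append [x] w

theorem conj_of_chk (hinj : Function.Injective phi) {r : Gen} {p : List Gen × List Gen} (h : chk r p = true) :
    wd p.2 * wd p.1 = wd [r] * wd p.2 := by
  rw [← wd_append, ← wd_cons]
  apply hinj
  refine Equiv.ext fun i => Fin.ext ?_
  rw [phi_wd_apply, phi_wd_apply]
  exact Nat.eq_of_beq_eq_true (of_allBelow h i i.2)

theorem wd_single (x : Gen) : wd [x] = PresentedGroup.of x := by unfold wd; simp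

theorem wd_sq (x : Gen) : wd [x] * wd [x] = 1 := by
  rw [wd_single]
  have h1 : ((FreeGroup.of x * FreeGroup.of x) ^ coxLabel edges x x) ∈ coxRelators edges ∪ {r | r ∈ extra} := by
    left
    exact ⟨x, by cases x <;> decide, x, by cases x <;> decide, rfl⟩
  have h2 := PresentedGroup.one_of_mem h1
  have h3 : coxLabel edges x x = 1 := by unfold coxLabel; simp
  rw [h3, pow_one] at h2
  exact h2

universe u

variable {L : Type u} [Group L] {π : L →* Cfsg.Spor.He} {c : L}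

theorem comm_gen (x y : Gen) (hxy : coxLabel edges x y = 2) : wd [x] * wd [y] = wd [y] * wd [x] := by
  have h1 : ((FreeGroup.of x * FreeGroup.of y) ^ coxLabel edges x y) ∈ coxRelators edges ∪ {r | r ∈ extra} := by
    left
    exact ⟨x, by cases x <;> decide, y, by cases y <;> decide, rfl⟩
  have h2 := PresentedGroup.one_of_mem h1
  rw [hxy] at h2
  have h3 : (wd [x] * wd [y]) ^ 2 = 1 := by rw [wd_single, wd_single]; exact h2
  rw [pow_two] at h3
  exact comm_of_isSq (wd_sq x) (wd_sq y) h3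

/-- all the involutions that we need lift to involutions -/
theorem good (hinj : Function.Injective phi) (h : _root_.Cfsg.Agent.KFacts.MulCov.Ext π c) :
    IsSq π (wd [.a]) 1 ∧ IsSq π (wd [.e]) 1 ∧ (∀ w ∈ listA.map Prod.fst, IsSq π (wd w) 1) ∧
      ∀ w ∈ listE.map Prod.fst, IsSq π (wd w) 1 := by
  obtain ⟨sA, hA, hA'⟩ := exists_isSq h (wd_sq .a)
  obtain ⟨sE, hE, hE'⟩ := exists_isSq h (wd_sq .e)
  have hAl : ∀ w ∈ listA.map Prod.fst, IsSq π (wd w) sA := by
    intro w hw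
    obtain ⟨p, hp, rfl⟩ := List.mem_map.1 hw
    exact hA'.of_conj h hA (conj_of_chk hinj (List.all_eq_true.1 chkA p hp))
  have hEl : ∀ w ∈ listE.map Prod.fst, IsSq π (wd w) sE := by
    intro w hw
    obtain ⟨p, hp, rfl⟩ := List.mem_map.1 hw
    exact hE'.of_conj h hE (conj_of_chk hinj (List.all_eq_true.1 chkE p hp))
  have e1 : sA * sE * sE * sE * sE * sE * sE = 1 := by
    refine seven h (comm_gen .b .e (by decide)) (comm_gen .b .f (by decide)) (comm_gen .e .f (by decide)) hA hE hE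
      (hAl [.b] (by decide)) hE' (hEl [.f] (by decide)) ?_ ?_ ?_ ?_
    · rw [← wd_append]; exact hEl [.b, .e] (by decide)
    · rw [← wd_append]; exact hEl [.b, .f] (by decide)
    · rw [← wd_append]; exact hEl [.e, .f] (by decide)
    · rw [← wd_append, ← wd_append]; exact hEl [.b, .e, .f] (by decide)
  have e2 : sA * sE * sE * sA * sA * sE * sA = 1 := by
    refine seven h (comm_gen .a .e (by decide)) (comm_gen .a .f (by decide)) (comm_gen .e .f (by decide)) hA hE hE
      hA' hE' (hEl [.f] (by decide)) ?_ ?_ ?_ ?_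
    · rw [← wd_append]; exact hAl [.a, .e] (by decide)
    · rw [← wd_append]; exact hAl [.a, .f] (by decide)
    · rw [← wd_append]; exact hEl [.e, .f] (by decide)
    · rw [← wd_append, ← wd_append]; exact hAl [.a, .e, .f] (by decide)
  have hsA : sA = 1 ∧ sE = 1 := by
    have hcc := h.sq
    have hne := h.ne
    rcases hA with rfl | rfl <;> rcases hE with rfl | rfl <;>
      simp only [mul_one, one_mul, hcc] at e1 e2 <;> simp_all only [_root_.ne_eq, _root_.List.mem_map, _root_.Prod.exists, _root_.exists_and_right, _root_.exists_eq_right, _root_.forall_exists_index, _root_.and_self, _root_.mul_one, _root_.not_true_eq_false]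
  obtain ⟨rfl, rfl⟩ := hsA
  exact ⟨hA', hE', hAl, hEl⟩

/-- commuting generators -/
theorem comm_lift {w w' : List Gen} {x y : L} (hx : π x = wd w) (hy : π y = wd w') (h1 : x * x = 1) (h2 : y * y = 1)
    (h3 : IsSq π (wd (w ++ w')) 1) : x * y = y * x :=
  comm_of_isSq h1 h2 (h3 _ (by rw [map_mul, hx, hy, wd_append]))

end Cfsg.Agent.KFacts.MulSpor.HeSign
end

-- part: UGT/Cov/ROut
section
set_option linter.all false
open scoped Cfsg.Agent.FastGrp

-- part: UGT/Cov/ROutFin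
section
/-!
# The Sylow 2-subgroup (order 256) of `Aut(4.L3(4))` that commutes with `x₀₂(1)`

`A : StdL34.Cov K`, `zb = conj (x₀₂(1))`. Everything is about automorphisms of `K` commuting with `zb`; types
`(true, false)` = `f`, `(false, true)` = `g`, `(true, true)` = `c`.
-/

set_option autoImplicit false
set_option linter.constructorNameAsVariable false
set_option linter.unusedVariables false

namespace Cfsg.Agent.UGT.Cov.ROut

open Cfsg.Agent.StdL34
open Cfsg.Agent.SporadicA.FieldFour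

/-! ### Reduced codes -/

/-- a code modulo the centre, and an outer type -/
structure RC where
  a : F4
  b : F4
  c : F4
  e : Bool
  f : Bool
  deriving DecidableEq

theorem forall_rc {P : RC → Prop} : (∀ r, P r) ↔ ∀ e f a b c, P ⟨a, b, c, e, f⟩ :=
  ⟨fun h _ _ _ _ _ => h _, fun h r => h r.e r.f r.a r.b r.c⟩

instance {P : RC → Prop} [DecidablePred P] : Decidable (∀ r, P r) :=
  decidable_of_iff _ forall_rc.symm

instance : Fintype RC :=
  Fintype.ofEquiv (Bool × Bool × F4 × F4 × F4)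
    { toFun := fun t => ⟨t.2.2.1, t.2.2.2.1, t.2.2.2.2, t.1, t.2.1⟩
      invFun := fun p => (p.e, p.f, p.a, p.b, p.c)
      left_inv := fun _ => rfl
      right_inv := fun _ => rfl }

/-- product of reduced codes -/
def rm (r s : RC) : RC :=
  if r.f then ⟨fr r.e s.b + r.a, fr r.e s.a + r.b,
      r.a * fr r.e s.a + (fr r.e s.b * fr r.e s.a + fr r.e s.c) + r.c, xor r.e s.e, xor r.f s.f⟩
  else ⟨fr r.e s.a + r.a, fr r.e s.b + r.b, r.a * fr r.e s.b + fr r.e s.c + r.c,
    xor r.e s.e, xor r.f s.f⟩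

/-- the trivial code -/
def r1 : RC := ⟨0, 0, 0, false, false⟩

/-- the code of `zb` -/
def rz : RC := ⟨0, 0, 1, false, false⟩

/-! ### Finite facts -/


theorem fin_four' : ∀ a b c : F4, trF (a + b) = false →
    rm ⟨a, b, c, false, false⟩ ⟨a, b, c, false, false⟩ = r1 →
    (rm ⟨F4.w, F4.w, 0 + F4.w * F4.w, false, false⟩ ⟨a, b, c, false, false⟩ =
        rm ⟨a, b, c, false, false⟩ ⟨F4.w, F4.w, 0 + F4.w * F4.w, false, false⟩ ∨
      rm ⟨F4.w, F4.w, 0 + F4.w * F4.w, false, false⟩ ⟨a, b, c, false, false⟩ =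
        rm rz (rm ⟨a, b, c, false, false⟩ ⟨F4.w, F4.w, 0 + F4.w * F4.w, false, false⟩)) → a = 0 ∧ b = 0 := by
  decide +kernel

private noncomputable def _root_.Cfsg.Agent.LsF.f8beb73_0 : {f // @Cfsg.Agent.SporadicA.FieldFour.F4.add = f} := ⟨_, by first | (delta Cfsg.Agent.SporadicA.FieldFour.F4.add; (try delta Cfsg.Agent.SporadicA.FieldFour.F4.add.match_1); (try delta Cfsg.Agent.SporadicA.FieldFour.F4.casesOn); exact rfl) | exact rfl⟩
private noncomputable def _root_.Cfsg.Agent.LsF.f8beb73_1 : {f // @Cfsg.Agent.SporadicA.FieldFour.F4.mul = f} := ⟨_, by first | (delta Cfsg.Agent.SporadicA.FieldFour.F4.mul; (try delta Cfsg.Agent.SporadicA.FieldFour.F4.mul.match_1); (try delta Cfsg.Agent.SporadicA.FieldFour.F4.casesOn); exact rfl) | exact rfl⟩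
private noncomputable def _root_.Cfsg.Agent.LsF.f8beb73_2 : {f // @Cfsg.Agent.StdL34.fr = f} := ⟨_, by first | (delta Cfsg.Agent.StdL34.fr; rewrite [(show (HMul.hMul : Cfsg.Agent.SporadicA.FieldFour.F4 → Cfsg.Agent.SporadicA.FieldFour.F4 → Cfsg.Agent.SporadicA.FieldFour.F4) = Cfsg.Agent.SporadicA.FieldFour.F4.mul from rfl), Cfsg.Agent.LsF.f8beb73_1.2, Cfsg.Agent.LsF.dBoolEq_eq, Cfsg.Agent.LsF.ite_eq]; exact rfl) | exact rfl⟩
private noncomputable def _root_.Cfsg.Agent.LsF.f8beb73_3 : {f // @Cfsg.Agent.UGT.Cov.ROut.rm = f} := ⟨_, by first | (delta Cfsg.Agent.UGT.Cov.ROut.rm; rewrite [(show (HAdd.hAdd : Cfsg.Agent.SporadicA.FieldFour.F4 → Cfsg.Agent.SporadicA.FieldFour.F4 → Cfsg.Agent.SporadicA.FieldFour.F4) = Cfsg.Agent.SporadicA.FieldFour.F4.add from rfl), (show (HMul.hMul : Cfsg.Agent.SporadicA.FieldFour.F4 → Cfsg.Agent.SporadicA.FieldFour.F4 → Cfsg.Agent.SporadicA.FieldFour.F4) = Cfsg.Agent.SporadicA.FieldFour.F4.mul from rfl), Cfsg.Agent.LsF.f8beb73_0.2,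 Cfsg.Agent.LsF.f8beb73_2.2, Cfsg.Agent.LsF.f8beb73_1.2, Cfsg.Agent.LsF.dBoolEq_eq, Cfsg.Agent.LsF.bxor_eq, Cfsg.Agent.LsF.ite_eq]; exact rfl) | exact rfl⟩
private noncomputable def _root_.Cfsg.Agent.LsF.f8beb73_5 : {f // @Cfsg.Agent.SporadicA.FieldFour.F4.decEq = f} := ⟨_, by first | (delta Cfsg.Agent.SporadicA.FieldFour.F4.decEq; rewrite [Cfsg.Agent.LsF.instDecEq_eq, Cfsg.Agent.LsF.dite_eq]; exact rfl) | exact rfl⟩
private noncomputable def _root_.Cfsg.Agent.LsF.f8beb73_6 : {f // @Cfsg.Agent.UGT.Cov.ROut.instDecidableEqRC.decEq = f} := ⟨_, by first | (delta Cfsg.Agent.UGT.Cov.ROut.instDecidableEqRC.decEq; rewrite [Cfsg.Agent.LsF.f8beb73_5.2, Cfsg.Agent.LsF.dBoolEq_eq, Cfsg.Agent.LsF.dite_eq]; (try delta Cfsg.Agent.UGT.Cov.ROut.instDecidableEqRC.decEq.match_1); (try delta Cfsg.Agent.UGT.Cov.ROut.RC.casesOn); exact rfl) | exact rfl⟩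
private noncomputable def _root_.Cfsg.Agent.LsF.f8beb73_7 : {f // @Cfsg.Agent.UGT.Cov.ROut.instDecidableEqRC = f} := ⟨_, by first | (delta Cfsg.Agent.UGT.Cov.ROut.instDecidableEqRC; rewrite [Cfsg.Agent.LsF.f8beb73_6.2]; exact rfl) | exact rfl⟩
/-- (r2) -/
theorem fin_two : ∀ a b c a' b' c' : F4,
    rm ⟨a, b, c, false, false⟩ ⟨a, b, c, false, false⟩ = rz →
    rm ⟨a', b', c', false, false⟩ ⟨a', b', c', false, false⟩ = r1 →
    rm ⟨a, b, c, false, false⟩ ⟨a', b', c', false, false⟩ =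
      rm ⟨a', b', c', false, false⟩ ⟨a, b, c, false, false⟩ → a' = 0 ∧ b' = 0 := by
  (refine of_decide_eq_true ?_; (try (rewrite [Cfsg.Agent.LsF.f8beb73_3.2, Cfsg.Agent.LsF.f8beb73_7.2, Cfsg.Agent.LsF.f8beb73_5.2, Cfsg.Agent.LsF.dForall_eq, Cfsg.Agent.LsF.dAnd_eq, Cfsg.Agent.LsF.dAllP_eq, Cfsg.Agent.LsF.decide_eq])); decide +kernel)

/-- centraliser in the list of codes -/
def cs (h : RC) : Finset RC := Finset.univ.filter (fun r => rm r h = rm h r)

private noncomputable def _root_.Cfsg.Agent.LsF.f8beb73_8 : {f // @Cfsg.Agent.UGT.Cov.ROut.instFintypeRC = f} := ⟨_, by first | (delta Cfsg.Agent.UGT.Cov.ROut.instFintypeRC; rewrite [Cfsg.Agent.LsF.prodFintype_eq, Cfsg.Agent.LsF.ofEqv_eq]; exact rfl) | exact rfl⟩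
private noncomputable def _root_.Cfsg.Agent.LsF.f8beb73_9 : {f // @Cfsg.Agent.UGT.Cov.ROut.cs = f} := ⟨_, by first | (delta Cfsg.Agent.UGT.Cov.ROut.cs; rewrite [Cfsg.Agent.LsF.f8beb73_3.2, Cfsg.Agent.LsF.f8beb73_7.2, Cfsg.Agent.LsF.f8beb73_8.2, Cfsg.Agent.LsF.ffilter_eq]; exact rfl) | exact rfl⟩
private noncomputable def _root_.Cfsg.Agent.LsF.f8beb73_10 : {f // @Cfsg.Agent.UGT.Cov.ROut.instDecidableForallOfDecidablePredRC = f} := ⟨_, by first | (delta Cfsg.Agent.UGT.Cov.ROut.instDecidableForallOfDecidablePredRC; rewrite [Cfsg.Agent.LsF.dForall_eq, Cfsg.Agent.LsF.dIff_eq]; exact rfl) | exact rfl⟩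
/-- (r3) -/
theorem fin_three : ∀ h : RC, rm (rm h h) (rm h h) = rz →
    (cs h).card ≤ 32 ∧ ((h.e = false ∧ h.f = true) ∨ (cs h).card ≤ 16) := by
  (refine of_decide_eq_true ?_; (try (rewrite [Cfsg.Agent.LsF.f8beb73_3.2, Cfsg.Agent.LsF.f8beb73_9.2, Cfsg.Agent.LsF.f8beb73_10.2, Cfsg.Agent.LsF.f8beb73_7.2, Cfsg.Agent.LsF.fcard_eq, Cfsg.Agent.LsF.decLe_eq, Cfsg.Agent.LsF.dAnd_eq, Cfsg.Agent.LsF.dOr_eq, Cfsg.Agent.LsF.dBoolEq_eq, Cfsg.Agent.LsF.dAllP_eq, Cfsg.Agent.LsF.decide_eq])); decide +kernel)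

end Cfsg.Agent.UGT.Cov.ROut
end

-- part: UGT/Cov/ROut
section
/-!
# The Sylow 2-subgroup (order 256) of `Aut(4.L3(4))` that commutes with `x₀₂(1)`: automorphisms

`A : StdL34.Cov K`, `zb A = conj (x₀₂(1))`. Outer types `(field, graph)`: `(true, false)` = `f`,
`(false, true)` = `g`, `(true, true)` = `c`.
-/

set_option autoImplicit false
set_option linter.constructorNameAsVariable false
set_option linter.unusedVariables false

namespace Cfsg.Agent.UGT.Cov.ROut

open Cfsg.Agent.StdL34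
open Cfsg.Agent.SporadicA.FieldFour

/-! ### Codes of automorphisms -/

section

variable {K : Type*} [Group K] (A : StdL34.Cov K)

/-- conjugation by `x₀₂(1)` -/
def zb : MulAut K := MulAut.conj (A.x 0 2 1)

/-- `α` has the reduced code `r` -/
def Rep (α : MulAut K) (r : RC) : Prop := A.Cd α ⟨r.a, r.b, r.c, 0⟩ (r.e, r.f)

variable {A}

theorem nk_mul (ty : Bool) (r s : RC) :
    nk (cmul ty (ctau ty (r.e, r.f) ⟨s.a, s.b, s.c, 0⟩) ⟨r.a, r.b, r.c, 0⟩) =
      ⟨(rm r s).a, (rm r s).b, (rm r s).c, 0⟩ := by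
  obtain ⟨a, b, c, e, f⟩ := r
  cases f
  · rfl
  · simp only [nk, cmul, ctau, rm, if_true]
    simp

theorem rm_ty (r s : RC) : ((rm r s).e, (rm r s).f) = StdL34.Ty.mul (r.e, r.f) (s.e, s.f) := by
  obtain ⟨a, b, c, e, f⟩ := r
  cases f <;> rfl

theorem Rep.mul {α β : MulAut K} {r s : RC} (h : Rep A α r) (h' : Rep A β s) :
    Rep A (α * β) (rm r s) := by
  have h1 := (Cov.Cd.mul h h').nk
  unfold Rep
  rw [rm_ty, ← nk_mul A.ty r s]
  exact h1

theorem Rep.unique {α : MulAut K} {r s : RC} (h : Rep A α r) (h' : Rep A α s) : r = s := by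
  have h1 : A.IsTau (r.e, r.f) (MulAut.conj (A.el ⟨r.a, r.b, r.c, 0⟩) * α) := h
  have h2 : A.IsTau (s.e, s.f) (MulAut.conj (A.el ⟨s.a, s.b, s.c, 0⟩ * (A.el ⟨r.a, r.b, r.c, 0⟩)⁻¹) *
      (MulAut.conj (A.el ⟨r.a, r.b, r.c, 0⟩) * α)) := by
    have h3 : A.IsTau (s.e, s.f) (MulAut.conj (A.el ⟨s.a, s.b, s.c, 0⟩) * α) := h'
    convert h3 using 1
    rw [map_mul, map_inv]; group
  obtain ⟨h3, h4⟩ := h1.unique h2
  rw [A.el_inv, A.el_mul] at h4
  obtain ⟨k1, k2, k3⟩ := Cov.cz_of_conj h4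
  obtain ⟨a, b, c, e, f⟩ := r
  obtain ⟨a', b', c', e', f'⟩ := s
  simp only [cmul, cinv, Prod.mk.injEq] at h3 k1 k2 k3
  obtain ⟨rfl, rfl⟩ := h3
  have e1 : ∀ u v : F4, u + v = 0 → v = u := by decide
  have h5 := e1 _ _ k1
  have h6 := e1 _ _ k2
  subst h5 h6
  have e2 : ∀ a b c c' : F4, a * b + c' + (c + a * b) = 0 → c = c' := by decide
  rw [e2 _ _ _ _ k3]

theorem Rep.ext {α β : MulAut K} {r : RC} (h : Rep A α r) (h' : Rep A β r) : α = β := by
  have h1 : A.IsTau (r.e, r.f) (MulAut.conj (A.el ⟨r.a, r.b, r.c, 0⟩) * α) := h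
  have h2 : A.IsTau (r.e, r.f) (MulAut.conj (A.el ⟨r.a, r.b, r.c, 0⟩) * β) := h'
  exact mul_left_cancel (h1.ext h2)

theorem rep_one : Rep A 1 r1 := by
  have h := (Cov.isTau_one (A := A)).cd
  exact h

theorem Rep.eq_one {α : MulAut K} (h : Rep A α r1) : α = 1 := h.ext rep_one

theorem rep_conj (p : Code) : Rep A (MulAut.conj (A.el p)) ⟨p.a, p.b, p.c + p.a * p.b, false, false⟩ := by
  have h : A.Cd (MulAut.conj (A.el p)) (cinv A.ty p) (false, false) := by
    unfold Cov.Cd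
    rw [← A.el_inv, map_inv, inv_mul_cancel]
    exact Cov.isTau_one
  exact h.nk

theorem rep_zb : Rep A (zb A) rz := by
  have h := rep_conj (A := A) ⟨0, 0, 1, 0⟩
  rw [A.el_x02] at h
  exact h

theorem rep_conj_iff {α : MulAut K} {a b c : F4} :
    Rep A α ⟨a, b, c, false, false⟩ ↔ α = MulAut.conj (A.el ⟨a, b, c + a * b, 0⟩) := by
  have h := rep_conj (A := A) ⟨a, b, c + a * b, 0⟩
  have e2 : ∀ a b c : F4, c + a * b + a * b = c := by decide
  simp only [e2] at h
  exact ⟨fun h1 => h1.ext h, fun h1 => h1 ▸ h⟩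

/-- an automorphism commuting with `zb` has a code -/
theorem exists_rep {α : MulAut K} (h : α * zb A = zb A * α) : ∃ r, Rep A α r := by
  obtain ⟨l, τ, hl⟩ := A.exists_tau α
  have h2 := hl.x02 1
  have e1 : ∀ e, fr e (1 : F4) = 1 := by decide
  rw [MulAut.mul_apply, MulAut.conj_apply, e1] at h2
  -- `α x₀₂(1) = x₀₂(1) s^k`
  have h3 : MulAut.conj ((A.x 0 2 1)⁻¹ * α (A.x 0 2 1)) = 1 := by
    rw [map_mul, map_inv, Cov.conj_map]
    have : α * MulAut.conj (A.x 0 2 1) * α⁻¹ = MulAut.conj (A.x 0 2 1) := by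
      rw [mul_inv_eq_iff_eq_mul]; exact h
    rw [this, inv_mul_cancel]
  obtain ⟨k, hk⟩ := Cov.conj_eq_one h3
  rw [inv_mul_eq_iff_eq_mul] at hk
  rw [hk] at h2
  have hsq : A.sp k * A.sp k = 1 := by
    have h4 : α (A.x 0 2 1) * α (A.x 0 2 1) = 1 := by
      rw [← map_mul, A.x_sq 0 2 (by decide), map_one]
    rw [hk] at h4
    have h5 : A.x 0 2 1 * A.sp k * (A.x 0 2 1 * A.sp k) = (A.x 0 2 1 * A.x 0 2 1) * (A.sp k * A.sp k) := by
      rw [mul_assoc, mul_assoc, ← mul_assoc (A.sp k), A.sp_cen k (A.x 0 2 1), mul_assoc]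
    rw [h5, A.x_sq 0 2 (by decide), one_mul] at h4
    exact h4
  have hk2 : k = 0 ∨ k = 2 := by
    rw [A.sp_add, ← A.sp_zero, ← A.el_sp, ← A.el_sp] at hsq
    have h6 := congrArg Code.k (A.inj hsq)
    have aux : ∀ k : Fin 4, k + k = 0 → k = 0 ∨ k = 2 := by decide
    exact aux k h6
  have hT : ∃ p, A.el p = l := by
    rcases hk2 with rfl | rfl
    · rw [A.sp_zero, mul_one] at h2
      exact Cov.mem_of_commute (mul_inv_eq_iff_eq_mul.mp h2)
    · -- `x₀₁(w)` has the same effect on `x₀₂(1)`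
      have h7 : A.x 0 1 F4.w * A.x 0 2 1 = A.x 0 2 1 * A.sp 2 * A.x 0 1 F4.w := by
        have h8 := A.row 0 1 2 (by decide) (by decide) (by decide) F4.w 1
        have h9 : t2 (F4.w * 1) = 2 := rfl
        rw [h9] at h8
        rw [h8, mul_assoc, mul_assoc, A.sp_cen]
      have h10 : l * (A.x 0 1 F4.w) * A.x 0 2 1 = A.x 0 2 1 * (l * (A.x 0 1 F4.w)) := by
        rw [mul_assoc, h7, ← mul_assoc]
        have h11 := mul_inv_eq_iff_eq_mul.mp h2
        rw [h11, mul_assoc]
      obtain ⟨p, hp⟩ := Cov.mem_of_commute h10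
      refine ⟨cmul A.ty p (cinv A.ty ⟨F4.w, 0, 0, 0⟩), ?_⟩
      rw [← A.el_mul, ← A.el_inv, hp, A.el_x01]; group
  obtain ⟨p, rfl⟩ := hT
  exact ⟨⟨p.a, p.b, p.c, τ.1, τ.2⟩, Cov.Cd.nk hl⟩

/-! ### Facts on automorphisms commuting with `zb` -/

theorem Rep.comm {α β : MulAut K} {r s : RC} (h : Rep A α r) (h' : Rep A β s) :
    α * β = β * α ↔ rm r s = rm s r := by
  constructor
  · intro h1
    have h2 := h.mul h'
    rw [h1] at h2
    exact h2.unique (h'.mul h)
  · intro h1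
    have h2 := h.mul h'
    rw [h1] at h2
    exact h2.ext (h'.mul h)

/-- the type -/
theorem Rep.hasTy {α : MulAut K} {r : RC} (h : Rep A α r) : A.HasTy α (r.e, r.f) := Cov.Cd.hasTy h

/-- (r3): the centraliser of an element of order 8 with fourth power `zb` -/
theorem card_cent_le {κ : MulAut K} (h : κ * κ * (κ * κ) = zb A) :
    Nat.card {α : MulAut K // α * zb A = zb A * α ∧ α * κ = κ * α} ≤ 32 := by
  have hk : κ * zb A = zb A * κ := by rw [← h]; group
  obtain ⟨r, hr⟩ := exists_rep hk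
  have h1 := (hr.mul hr).mul (hr.mul hr)
  rw [h] at h1
  have h2 := (fin_three r (h1.unique rep_zb)).1
  have key : ∀ α : {α : MulAut K // α * zb A = zb A * α ∧ α * κ = κ * α},
      ∃ s : {s // s ∈ cs r}, Rep A α.1 s.1 := by
    rintro ⟨α, h3, h4⟩
    obtain ⟨s, hs⟩ := exists_rep h3
    exact ⟨⟨s, Finset.mem_filter.mpr ⟨Finset.mem_univ _, (hs.comm hr).mp h4⟩⟩, hs⟩
  choose f hf using key
  have h5 : Function.Injective f := by
    intro x y hxy
    have h6 := hf x
    rw [hxy] at h6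
    exact Subtype.ext (h6.ext (hf y))
  have h6 := Nat.card_le_card_of_injective f h5
  rw [Nat.card_eq_fintype_card (α := {s // s ∈ cs r}), Fintype.card_coe] at h6
  exact h6.trans h2

/-- squares of automorphisms are inner -/
theorem sq_inner (A : StdL34.Cov K) (α : MulAut K) : ∃ k, α * α = MulAut.conj k := by
  obtain ⟨τ, h⟩ := Cov.hasTy (A := A) α
  have h1 := h.mul h
  rw [Cov.Ty.mul_self] at h1
  exact h1.inner

/-- an automorphism fixing `x₀₂(1)` commutes with `zb` -/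
theorem comm_of_fix {α : MulAut K} (h : α (A.x 0 2 1) = A.x 0 2 1) : α * zb A = zb A * α := by
  have h1 := Cov.conj_map α (A.x 0 2 1)
  rw [h] at h1
  unfold zb
  rw [← mul_inv_eq_iff_eq_mul, ← h1]

theorem fin_w : ∀ r : RC, rm r ⟨0, 0, F4.w, false, false⟩ = rm ⟨0, 0, F4.w, false, false⟩ r ↔
    r.e = false := by
  decide +kernel

theorem fin_w' : ∀ (r : RC) (c : F4), r.e = false →
    rm r ⟨0, 0, c, false, false⟩ = rm ⟨0, 0, c, false, false⟩ r := by
  (refine of_decide_eq_true ?_; (try (rewrite [Cfsg.Agent.LsF.f8beb73_3.2, Cfsg.Agent.LsF.f8beb73_10.2, Cfsg.Agent.LsF.f8beb73_7.2, Cfsg.Agent.LsF.dForall_eq, Cfsg.Agent.LsF.dBoolEq_eq, Cfsg.Agent.LsF.dAllP_eq, Cfsg.Agent.LsF.decide_eq])); decide +kernel)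

theorem rep_x02 (c : F4) : Rep A (MulAut.conj (A.x 0 2 c)) ⟨0, 0, c, false, false⟩ := by
  have h := rep_conj (A := A) ⟨0, 0, c, 0⟩
  rw [A.el_x02] at h
  have e : ∀ c : F4, c + 0 * 0 = c := by decide
  simp only [e] at h
  exact h

/-- (r1b): `α` commutes with `conj (x₀₂(ω))` iff its type has trivial field part -/
theorem comm_x02_iff {α : MulAut K} {r : RC} (h : Rep A α r) :
    α * MulAut.conj (A.x 0 2 F4.w) = MulAut.conj (A.x 0 2 F4.w) * α ↔ r.e = false :=
  (h.comm (rep_x02 F4.w)).trans (fin_w r)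

theorem comm_x02 {α : MulAut K} {r : RC} (h : Rep A α r) (he : r.e = false) (c : F4) :
    α * MulAut.conj (A.x 0 2 c) = MulAut.conj (A.x 0 2 c) * α :=
  (h.comm (rep_x02 c)).mpr (fin_w' r c he)

/-- (r1a): an elementary `w` in `B` which commutes with `B` modulo `zb` lies over `Ȳ` -/
theorem four {p : Code} (hp : trF (p.a + p.b) = false)
    (h2 : MulAut.conj (A.el p) * MulAut.conj (A.el p) = 1)
    (hn : MulAut.conj (A.el ⟨F4.w, F4.w, 0, 0⟩) * MulAut.conj (A.el p) =
        MulAut.conj (A.el p) * MulAut.conj (A.el ⟨F4.w, F4.w, 0, 0⟩) ∨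
      MulAut.conj (A.el ⟨F4.w, F4.w, 0, 0⟩) * MulAut.conj (A.el p) =
        zb A * (MulAut.conj (A.el p) * MulAut.conj (A.el ⟨F4.w, F4.w, 0, 0⟩))) :
    p.a = 0 ∧ p.b = 0 := by
  have hr := rep_conj (A := A) p
  have hw := rep_conj (A := A) ⟨F4.w, F4.w, 0, 0⟩
  have hsq := hr.mul hr
  rw [h2] at hsq
  have e1 := hsq.unique rep_one
  refine fin_four' p.a p.b (p.c + p.a * p.b) hp e1 ?_
  rcases hn with h | h
  · left
    have h3 := (hw.comm hr).mp h
    exact h3
  · right
    have h3 := hw.mul hr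
    rw [h] at h3
    exact (h3.unique (rep_zb.mul (hr.mul hw)))

/-- (r2) -/
theorem two {p q : Code} (hp : MulAut.conj (A.el p) * MulAut.conj (A.el p) = zb A)
    (hq : MulAut.conj (A.el q) * MulAut.conj (A.el q) = 1)
    (h : MulAut.conj (A.el p) * MulAut.conj (A.el q) = MulAut.conj (A.el q) * MulAut.conj (A.el p)) :
    q.a = 0 ∧ q.b = 0 := by
  have hr := rep_conj (A := A) p
  have hs := rep_conj (A := A) q
  have h1 := hr.mul hr
  rw [hp] at h1
  have h2 := hs.mul hs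
  rw [hq] at h2
  exact fin_two _ _ _ _ _ _ (h1.unique rep_zb).symm.symm (h2.unique rep_one) ((hr.comm hs).mp h)

/-- type `g`: `α` fixes `x₀₂(1)`, commutes with `conj (x₀₂(ω))` and is not inner -/
theorem rep_g {α : MulAut K} (h : α * zb A = zb A * α)
    (h1 : α * MulAut.conj (A.x 0 2 F4.w) = MulAut.conj (A.x 0 2 F4.w) * α)
    (h2 : ∀ k, α ≠ MulAut.conj k) : ∃ a b c, Rep A α ⟨a, b, c, false, true⟩ := by
  obtain ⟨r, hr⟩ := exists_rep h
  have h3 := (comm_x02_iff hr).mp h1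
  obtain ⟨a, b, c, e, f⟩ := r
  simp only at h3
  subst h3
  cases f
  · exact absurd (rep_conj_iff.mp hr) (h2 _)
  · exact ⟨a, b, c, hr⟩

end

end Cfsg.Agent.UGT.Cov.ROut
end

private theorem dce_e8d4c7137414 : _root_.True := by
  try have : _root_.True := by simp only [_root_.Cfsg.Agent.UGT.Cov.ROut.rm.eq_1]
  try have : _root_.True := by simp only [_root_.Cfsg.Agent.StdL34.cinv.eq_1]
  try have : _root_.True := by simp only [_root_.Cfsg.Agent.StdL34.ctau.eq_1]
  exact _root_.True.intro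
end

-- part: UGT/U2/FOne/OrthSub
section
prune_inst 0x450104520472210000018001020000054700004020043000008400f06034a96602006260128a00d1008028c502000006013880010422800000a00080000040501000002069148a000020000000004000000000000000000000000000000041000200000000
set_option linter.all false
open scoped Cfsg.Agent.FastGrp

/-!
# (f1) for the orthogonal groups: the long `SL₂` is subnormal in the centraliser of its involution
-/

set_option autoImplicit false
set_option linter.unusedSimpArgs false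

namespace Cfsg.Agent.UGT.U2.FOne.Orth

open QuadraticMap Cfsg.Agent.LieClassical Cfsg.Agent.LieClassical.OrthCore Cfsg.Agent.LieClassical.OrthTrans
open Cfsg.Agent.LieClassical.SLTwoUnipotent (u l eq_top_of_u_mem_of_l_mem)
open Cfsg.Agent.ClassicalGeometry.OrthAut1 (P center_scalar mem_center_of_scalar)
open Cfsg.Agent.ClassicalGeometry.OrthSemi
open Cfsg.Agent.AutOrth.SemiSim (sg sg_apply sg_mul sg_congr sg_zero sg_inv ext_E conj_sg)
open Matrix (SpecialLinearGroup)

/-- A chain of normal subgroups of length three. -/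
theorem isSubnormal_of_chain3 {L : Type*} [Group L] {D C B X : Subgroup L} (hDC : D ≤ C) (hCB : C ≤ B)
    (h1 : ∀ x ∈ X, ∀ c ∈ B, x * c * x⁻¹ ∈ B) (h2 : ∀ x ∈ B, ∀ c ∈ C, x * c * x⁻¹ ∈ C)
    (h3 : ∀ x ∈ C, ∀ c ∈ D, x * c * x⁻¹ ∈ D) : (D.subgroupOf X).IsSubnormal := by
  have k1 : (B.subgroupOf X).IsSubnormal := by
    apply Subgroup.Normal.isSubnormal
    constructor
    rintro n hn g
    exact h1 g.1 g.2 n.1 hn
  have k2 : (C.subgroupOf X).IsSubnormal := by
    refine Subgroup.IsSubnormal.trans (fun x hx => hCB hx) ?_ k1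
    apply Subgroup.Normal.isSubnormal
    constructor
    rintro n hn g
    exact h2 g.1.1 g.2 n.1.1 hn
  refine Subgroup.IsSubnormal.trans (fun x hx => hDC hx) ?_ k2
  apply Subgroup.Normal.isSubnormal
  constructor
  rintro n hn g
  exact h3 g.1.1 g.2 n.1.1 hn

variable {F V : Type*} [Field F] [AddCommGroup V] [Module F V] {Q : QuadraticForm F V}

namespace Four

variable {e₁ f₁ e₂ f₂ : V} (h : Four Q e₁ f₁ e₂ f₂)

theorem neg_entries : (-1 : _root_.Matrix.SpecialLinearGroup (Fin 2) F).1 0 0 = -1 ∧ (-1 : _root_.Matrix.SpecialLinearGroup (Fin 2) F).1 0 1 = 0 ∧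
    (-1 : _root_.Matrix.SpecialLinearGroup (Fin 2) F).1 1 0 = 0 ∧ (-1 : _root_.Matrix.SpecialLinearGroup (Fin 2) F).1 1 1 = -1 := by
  refine ⟨?_, ?_, ?_, ?_⟩ <;> simp

theorem rho_neg (v : V) : h.rho (-1) v =
    v - (2 : F) • (polar Q f₁ v • e₁ + polar Q e₁ v • f₁ + polar Q f₂ v • e₂ + polar Q e₂ v • f₂) := by
  obtain ⟨h00, h01, h10, h11⟩ := neg_entries (F := F)
  rw [rho_apply]
  unfold phi
  rw [h00, h01, h10, h11]
  module

theorem rho_neg_swap : h.swap.rho (-1) = h.rho (-1) := by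
  ext v
  rw [rho_neg, rho_neg]
  module

theorem rhoE_neg_swap : h.swap.rhoE (-1) = h.rhoE (-1) := Subtype.ext h.rho_neg_swap

/-- membership in the 4-space -/
def InW (v : V) : Prop := h.rho (-1) v = -v

theorem InW.eq (h2 : (2 : F) ≠ 0) {v : V} (hv : h.InW v) :
    v = polar Q f₁ v • e₁ + polar Q e₁ v • f₁ + polar Q f₂ v • e₂ + polar Q e₂ v • f₂ := by
  unfold InW at hv
  rw [rho_neg] at hv
  have h3 : (2 : F) • (v - (polar Q f₁ v • e₁ + polar Q e₁ v • f₁ + polar Q f₂ v • e₂ + polar Q e₂ v • f₂)) = 0 := by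
    calc _ = (v - (2 : F) • (polar Q f₁ v • e₁ + polar Q e₁ v • f₁ + polar Q f₂ v • e₂ + polar Q e₂ v • f₂)) + v := by
          module
      _ = 0 := by rw [hv, neg_add_cancel]
  exact sub_eq_zero.1 ((smul_eq_zero.1 h3).resolve_left h2)

theorem InW.smul {v : V} (hv : h.InW v) (a : F) : h.InW (a • v) := by
  unfold InW at hv ⊢
  rw [map_smul, hv, smul_neg]

theorem InW.map {v : V} (hv : h.InW v) {g : ↥(E Q)} (hg : g * h.rhoE (-1) = h.rhoE (-1) * g) :
    h.InW ((g : V ≃ₗ[F] V) v) := by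
  unfold InW at hv ⊢
  have h1 := congrArg (fun x : ↥(E Q) => (x : V ≃ₗ[F] V) v) hg
  change (g : V ≃ₗ[F] V) (h.rho (-1) v) = h.rho (-1) ((g : V ≃ₗ[F] V) v) at h1
  rw [← h1, hv, map_neg]

/-- the two factors commute -/
theorem comm_swap (M N : _root_.Matrix.SpecialLinearGroup (Fin 2) F) :
    h.rhoE M * h.swap.rhoE N = h.swap.rhoE N * h.rhoE M := by
  obtain ⟨p1, p2, p3, p4, p5, p6, p7, p8, p9, p10, p11, p12, p13, p14, p15, p16⟩ := h.pols
  refine ext_E fun v => ?_
  change h.phi M (h.swap.phi N v) = h.swap.phi N (h.phi M v)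
  unfold phi
  simp only [polar_add_right, polar_smul_right, smul_eq_mul, p1, p2, p3, p4, p5, p6, p7, p8, p9, p10, p11, p12, p13,
    p14, p15, p16]
  module

theorem neg_comm (M : _root_.Matrix.SpecialLinearGroup (Fin 2) F) : h.rhoE M * h.rhoE (-1) = h.rhoE (-1) * h.rhoE M := by
  rw [← map_mul, ← map_mul, neg_one_mul, mul_neg_one]

theorem neg_comm_swap (M : _root_.Matrix.SpecialLinearGroup (Fin 2) F) :
    h.swap.rhoE M * h.rhoE (-1) = h.rhoE (-1) * h.swap.rhoE M := by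
  rw [← h.rhoE_neg_swap]
  exact h.swap.neg_comm M

/-- the normaliser of the first factor -/
def nor : Subgroup ↥(E Q) := Subgroup.normalizer (h.rhoE.range : Set ↥(E Q))

theorem mem_nor {g : ↥(E Q)} (h1 : ∀ M, g * h.rhoE M * g⁻¹ ∈ h.rhoE.range)
    (h2 : ∀ M, g⁻¹ * h.rhoE M * g ∈ h.rhoE.range) : g ∈ h.nor := by
  unfold nor
  rw [Subgroup.mem_normalizer_iff]
  intro x
  constructor
  · rintro ⟨M, rfl⟩
    exact h1 M
  · rintro ⟨M, hM⟩
    have := h2 M
    rw [hM] at this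
    convert this using 1
    group

theorem rhoE_mem_nor (M : _root_.Matrix.SpecialLinearGroup (Fin 2) F) : h.rhoE M ∈ h.nor := by
  refine h.mem_nor (fun N => ⟨M * N * M⁻¹, by rw [map_mul, map_mul, map_inv]⟩)
    (fun N => ⟨M⁻¹ * N * M, by rw [map_mul, map_mul, map_inv]⟩)

theorem swap_mem_nor (M : _root_.Matrix.SpecialLinearGroup (Fin 2) F) : h.swap.rhoE M ∈ h.nor := by
  refine h.mem_nor (fun N => ⟨N, ?_⟩) (fun N => ⟨N, ?_⟩)
  · rw [← h.comm_swap, mul_inv_cancel_right]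
  · rw [mul_assoc, h.comm_swap, inv_mul_cancel_left]

theorem sg_e1_f2 (t : F) (ht : polar Q e₁ (t • f₂) = 0) : sg Q e₁ (t • f₂) h.h1.left ht ∈ h.nor := by
  have h1 : sg Q e₁ (t • f₂) h.h1.left ht = h.rhoE (u (-t)) := by
    apply Subtype.ext
    rw [coe_rhoE, rho_u']
    exact OrthSimple.siegel_congr h.h1.left ht h.h1.left (h.e1_s _) rfl (by rw [neg_neg])
  rw [h1]
  exact h.rhoE_mem_nor _

theorem sg_e1_e2 (t : F) (ht : polar Q e₁ (t • e₂) = 0) : sg Q e₁ (t • e₂) h.h1.left ht ∈ h.nor := by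
  have h1 : sg Q e₁ (t • e₂) h.h1.left ht = h.swap.rhoE (u (-t)) := by
    apply Subtype.ext
    rw [coe_rhoE, rho_u']
    exact OrthSimple.siegel_congr h.h1.left ht h.h1.left (h.swap.e1_s _) rfl (by rw [neg_neg])
  rw [h1]
  exact h.swap_mem_nor _

theorem sg_e1 (h2 : (2 : F) ≠ 0) {b : V} (hb : polar Q e₁ b = 0) (hbW : h.InW b) :
    sg Q e₁ b h.h1.left hb ∈ h.nor := by
  have h3 : polar Q e₁ (polar Q f₂ b • e₂) = 0 := by rw [polar_smul_right, h.ee, smul_zero]
  have h4 : polar Q e₁ (polar Q e₂ b • f₂) = 0 := by rw [polar_smul_right, h.ef, smul_zero]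
  have h5 : polar Q e₁ (polar Q f₂ b • e₂ + polar Q e₂ b • f₂) = 0 := by
    rw [polar_add_right, h3, h4, add_zero]
  have h6 : polar Q e₁ ((polar Q f₂ b • e₂ + polar Q e₂ b • f₂) + polar Q f₁ b • e₁) = 0 := by
    rw [polar_add_right, h5, polar_smul_right, h.h1.polar_left, smul_zero, add_zero]
  have h7 : sg Q e₁ b h.h1.left hb = sg Q e₁ (polar Q f₂ b • e₂) h.h1.left h3 *
      sg Q e₁ (polar Q e₂ b • f₂) h.h1.left h4 := by
    rw [sg_mul h.h1.left h3 h4 h5, ← Cfsg.Agent.AutOrth.SemiSim.sg_add_smul (polar Q f₁ b) h.h1.left h5 h6]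
    refine sg_congr _ _ _ _ rfl ?_
    have h8 := InW.eq h h2 hbW
    rw [hb, zero_smul, add_zero] at h8
    conv_lhs => rw [h8]
    abel
  rw [h7]
  exact mul_mem (h.sg_e1_e2 _ _) (h.sg_e1_f2 _ _)

/-- `SL₂ ∘ SL₂` is transitive on the singular vectors of the 4-space. -/
theorem exists_move (h2 : (2 : F) ≠ 0) {a : V} (ha0 : a ≠ 0) (ha : Q a = 0) (haW : h.InW a) :
    ∃ M N, ((h.rhoE M * h.swap.rhoE N : ↥(E Q)) : V ≃ₗ[F] V) a = e₁ := by
  obtain ⟨p1, p2, p3, p4, p5, p6, p7, p8, p9, p10, p11, p12, p13, p14, p15, p16⟩ := h.pols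
  have h3 := InW.eq h h2 haW
  obtain ⟨α, hα⟩ : ∃ α, α = polar Q f₁ a := ⟨_, rfl⟩
  obtain ⟨γ, hγ⟩ : ∃ γ, γ = polar Q e₁ a := ⟨_, rfl⟩
  obtain ⟨β, hβ⟩ : ∃ β, β = polar Q f₂ a := ⟨_, rfl⟩
  obtain ⟨δ, hδ⟩ : ∃ δ, δ = polar Q e₂ a := ⟨_, rfl⟩
  rw [← hα, ← hγ, ← hβ, ← hδ] at h3
  clear hα hγ hβ hδ
  -- the case `(α, β) ≠ 0`
  have key : ∀ α γ β δ : F, Q (α • e₁ + γ • f₁ + β • e₂ + δ • f₂) = 0 → (α ≠ 0 ∨ β ≠ 0) →
      ∃ M N, ((h.rhoE M * h.swap.rhoE N : ↥(E Q)) : V ≃ₗ[F] V) (α • e₁ + γ • f₁ + β • e₂ + δ • f₂) = e₁ := by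
    intro α γ β δ hQ hne
    obtain ⟨M, hM0, hM1⟩ : ∃ M : _root_.Matrix.SpecialLinearGroup (Fin 2) F, M.1 0 0 * α + M.1 0 1 * β = 1 ∧
        M.1 1 0 * α + M.1 1 1 * β = 0 := by
      by_cases hα : α = 0
      · have hβ : β ≠ 0 := by (clear * - F α β hne hα; tauto)
        refine ⟨⟨!![0, β⁻¹; -β, 0], by rw [Matrix.det_fin_two_of]; field_simp; ring⟩, ?_, ?_⟩
        · simp [hβ]
        · simp [hα]
      · refine ⟨⟨!![α⁻¹, 0; -β, α], by rw [Matrix.det_fin_two_of]; field_simp; ring⟩, ?_, ?_⟩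
        · simp [hα]
        · simp only [_root_.Fin.isValue, _root_.Matrix.of_apply, _root_.Matrix.cons_val', _root_.Matrix.cons_val_zero, _root_.Matrix.cons_val_fin_one, _root_.Matrix.cons_val_one, _root_.neg_mul]; ring
    obtain ⟨y, hy⟩ : ∃ y, y = h.rho M (α • e₁ + γ • f₁ + β • e₂ + δ • f₂) := ⟨_, rfl⟩
    obtain ⟨x, z, hxz⟩ : ∃ x z : F, y = e₁ + x • f₁ + z • f₂ := by
      refine ⟨γ * M.1 1 1 - δ * M.1 1 0, -(γ * M.1 0 1) + δ * M.1 0 0, ?_⟩
      rw [hy, map_add, map_add, map_add, map_smul, map_smul, map_smul, map_smul, rho_e1, rho_e2, rho_f1, rho_f2]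
      have k1 : e₁ = (M.1 0 0 * α + M.1 0 1 * β) • e₁ + (M.1 1 0 * α + M.1 1 1 * β) • e₂ := by
        rw [hM0, hM1, one_smul, zero_smul, add_zero]
      conv_rhs => enter [1, 1]; rw [k1]
      module
    have hQy : Q y = 0 := by rw [hy, (mem_O.1 (E_le_O (h.rho_mem M))), hQ]
    have hx : x = 0 := by
      rw [hxz, Q_add, Q_add, QuadraticMap.map_smul, QuadraticMap.map_smul, h.h1.left, h.h1.right, h.h2.right,
        polar_smul_right, polar_smul_right, polar_add_left, polar_smul_left] at hQy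
      simpa [p5, p11, p15] using hQy
    rw [hx, zero_smul, add_zero] at hxz
    refine ⟨M, l (-z), ?_⟩
    rw [h.comm_swap]
    change h.swap.rho (l (-z)) (h.rho M _) = e₁
    rw [← hy, hxz, map_add, map_smul, rho_e1, rho_e2]
    simp [l]
  by_cases hne : α ≠ 0 ∨ β ≠ 0
  · rw [h3] at ha
    obtain ⟨M, N, hMN⟩ := key α γ β δ ha hne
    exact ⟨M, N, by rw [h3]; exact hMN⟩
  · push Not at hne
    obtain ⟨hα, hβ⟩ := hne
    obtain ⟨w, hw⟩ : ∃ w : _root_.Matrix.SpecialLinearGroup (Fin 2) F, w = ⟨!![0, 1; -1, 0], by rw [Matrix.det_fin_two_of]; ring⟩ :=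
      ⟨_, rfl⟩
    have h4 : h.swap.rho w a = δ • e₁ + (0 : F) • f₁ + (-γ) • e₂ + (0 : F) • f₂ := by
      rw [h3, hα, hβ, map_add, map_add, map_add, map_smul, map_smul, map_smul, map_smul, rho_e1, rho_f1, rho_f2,
        rho_e2, hw]
      simp only [_root_.Fin.isValue, _root_.Matrix.of_apply, _root_.Matrix.cons_val', _root_.Matrix.cons_val_zero, _root_.Matrix.cons_val_fin_one, _root_.zero_smul, _root_.Matrix.cons_val_one, _root_.neg_smul, _root_.one_smul, _root_.zero_add, _root_.smul_neg, _root_.neg_zero, _root_.neg_neg, _root_.add_zero]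
      abel
    have h5 : Q (δ • e₁ + (0 : F) • f₁ + (-γ) • e₂ + (0 : F) • f₂) = 0 := by
      rw [← h4, (mem_O.1 (E_le_O (h.swap.rho_mem w))), ha]
    obtain ⟨M, N, hMN⟩ := key δ 0 (-γ) 0 h5 (by
      by_contra hcon
      push Not at hcon
      apply ha0
      rw [h3, hα, hβ, hcon.1, neg_eq_zero.1 hcon.2]
      simp)
    refine ⟨M, N * w, ?_⟩
    rw [map_mul, ← mul_assoc]
    change ((h.rhoE M * h.swap.rhoE N : ↥(E Q)) : V ≃ₗ[F] V) (h.swap.rho w a) = e₁
    rw [h4, hMN]

theorem sg_mem_nor (h2 : (2 : F) ≠ 0) {a b : V} (ha : Q a = 0) (hab : polar Q a b = 0) (haW : h.InW a)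
    (hbW : h.InW b) : sg Q a b ha hab ∈ h.nor := by
  by_cases ha0 : a = 0
  · have h3 : sg Q a b ha hab = 1 := by
      refine ext_E fun v => ?_
      rw [sg_apply, ha0]
      simp only [_root_.QuadraticMap.polar_zero_left, _root_.zero_smul, _root_.add_zero, _root_.smul_zero, _root_.sub_zero, _root_.MulZeroClass.mul_zero, _root_.OneMemClass.coe_one, _root_.LinearEquiv.coe_one, _root_.id_eq]
    rw [h3]
    exact one_mem _
  · obtain ⟨M, N, hMN⟩ := h.exists_move h2 ha0 ha haW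
    obtain ⟨g, hg⟩ : ∃ g, g = h.rhoE M * h.swap.rhoE N := ⟨_, rfl⟩
    rw [← hg] at hMN
    have hgn : g ∈ h.nor := by rw [hg]; exact mul_mem (h.rhoE_mem_nor _) (h.swap_mem_nor _)
    have hgz : g * h.rhoE (-1) = h.rhoE (-1) * g := by
      rw [hg, mul_assoc, h.neg_comm_swap, ← mul_assoc, h.neg_comm, mul_assoc]
    have h4 : Q ((g : V ≃ₗ[F] V) a) = 0 := by rw [(mem_O.1 (E_le_O g.2)), ha]
    have h5 : polar Q ((g : V ≃ₗ[F] V) a) ((g : V ≃ₗ[F] V) b) = 0 := by rw [polar_map (E_le_O g.2), hab]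
    have h6 := conj_sg g ha hab h4 h5
    have h7 : polar Q e₁ ((g : V ≃ₗ[F] V) b) = 0 := by rw [← hMN]; exact h5
    have h8 : sg Q ((g : V ≃ₗ[F] V) a) ((g : V ≃ₗ[F] V) b) h4 h5 ∈ h.nor := by
      rw [sg_congr h4 h5 h.h1.left h7 hMN rfl]
      exact h.sg_e1 h2 h7 (InW.map h hbW hgz)
    rw [← h6] at h8
    have h9 := mul_mem (mul_mem (inv_mem hgn) h8) hgn
    convert h9 using 1
    group

/-- the subgroup generated by the Siegel elements of the 4-space -/
def omW : Subgroup ↥(E Q) := Subgroup.closure {g | ∃ (a b : V) (ha : Q a = 0) (hab : polar Q a b = 0),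
  h.InW a ∧ h.InW b ∧ g = sg Q a b ha hab}

theorem omW_le_nor (h2 : (2 : F) ≠ 0) : h.omW ≤ h.nor := by
  unfold omW
  rw [Subgroup.closure_le]
  rintro _ ⟨a, b, ha, hab, haW, hbW, rfl⟩
  exact h.sg_mem_nor h2 ha hab haW hbW

theorem inW_e1 : h.InW e₁ := by
  unfold InW
  obtain ⟨h00, h01, h10, h11⟩ := neg_entries (F := F)
  rw [rho_e1, h00, h10]; module

theorem inW_e2 : h.InW e₂ := by
  unfold InW
  obtain ⟨h00, h01, h10, h11⟩ := neg_entries (F := F)
  rw [rho_e2, h01, h11]; module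

theorem inW_f1 : h.InW f₁ := by
  unfold InW
  obtain ⟨h00, h01, h10, h11⟩ := neg_entries (F := F)
  rw [rho_f1, h01, h11]; module

theorem inW_f2 : h.InW f₂ := by
  unfold InW
  obtain ⟨h00, h01, h10, h11⟩ := neg_entries (F := F)
  rw [rho_f2, h00, h10]; module

theorem range_le_omW : h.rhoE.range ≤ h.omW := by
  have h1 : h.omW.comap h.rhoE = ⊤ := by
    apply eq_top_of_u_mem_of_l_mem
    · intro t
      rw [Subgroup.mem_comap]
      refine Subgroup.subset_closure ⟨e₁, (-t) • f₂, h.h1.left, h.e1_s t, h.inW_e1, InW.smul h h.inW_f2 _, ?_⟩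
      exact Subtype.ext (h.rho_u' t)
    · intro t
      rw [Subgroup.mem_comap]
      refine Subgroup.subset_closure ⟨e₂, (-t) • f₁, h.h2.left, h.e2_s t, h.inW_e2, InW.smul h h.inW_f1 _, ?_⟩
      exact Subtype.ext (h.rho_l' t)
  rintro _ ⟨M, rfl⟩
  exact Subgroup.mem_comap.1 (h1 ▸ Subgroup.mem_top M)

theorem conj_mem_omW {g : ↥(E Q)} (hg : g * h.rhoE (-1) = h.rhoE (-1) * g) {x : ↥(E Q)} (hx : x ∈ h.omW) :
    g * x * g⁻¹ ∈ h.omW := by
  unfold omW at hx
  induction hx using Subgroup.closure_induction with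
  | mem x hx =>
    obtain ⟨a, b, ha, hab, haW, hbW, rfl⟩ := hx
    have h4 : Q ((g : V ≃ₗ[F] V) a) = 0 := by rw [(mem_O.1 (E_le_O g.2)), ha]
    have h5 : polar Q ((g : V ≃ₗ[F] V) a) ((g : V ≃ₗ[F] V) b) = 0 := by rw [polar_map (E_le_O g.2), hab]
    rw [conj_sg g ha hab h4 h5]
    exact Subgroup.subset_closure ⟨_, _, h4, h5, InW.map h haW hg, InW.map h hbW hg, rfl⟩
  | one => rw [mul_one, mul_inv_cancel]; exact one_mem _
  | mul x y _ _ h1 h2 =>
    have := mul_mem h1 h2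
    convert this using 1
    group
  | inv x _ h1 =>
    have := inv_mem h1
    convert this using 1
    group

theorem omW_comm {x : ↥(E Q)} (hx : x ∈ h.omW) : x * h.rhoE (-1) = h.rhoE (-1) * x := by
  unfold omW at hx
  induction hx using Subgroup.closure_induction with
  | mem x hx =>
    obtain ⟨a, b, ha, hab, haW, hbW, rfl⟩ := hx
    have h4 : Q ((h.rhoE (-1) : V ≃ₗ[F] V) a) = 0 := by rw [(mem_O.1 (E_le_O (h.rhoE (-1)).2)), ha]
    have h5 : polar Q ((h.rhoE (-1) : V ≃ₗ[F] V) a) ((h.rhoE (-1) : V ≃ₗ[F] V) b) = 0 := by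
      rw [polar_map (E_le_O (h.rhoE (-1)).2), hab]
    have h6 := conj_sg (h.rhoE (-1)) ha hab h4 h5
    have h7 : sg Q ((h.rhoE (-1) : V ≃ₗ[F] V) a) ((h.rhoE (-1) : V ≃ₗ[F] V) b) h4 h5 = sg Q a b ha hab := by
      have e1 : (h.rhoE (-1) : V ≃ₗ[F] V) a = -a := haW
      have e2 : (h.rhoE (-1) : V ≃ₗ[F] V) b = -b := hbW
      refine ext_E fun v => ?_
      rw [sg_apply, sg_apply, e1, e2, QuadraticMap.map_neg, polar_neg_left, polar_neg_left]
      module
    rw [h7] at h6
    conv_lhs => rw [← h6]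
    group
  | one => rw [mul_one, one_mul]
  | mul x y _ _ h1 h2 => rw [mul_assoc, h2, ← mul_assoc, h1, mul_assoc]
  | inv x _ h1 => exact (Commute.inv_left (show Commute x _ from h1))

/-- **the long `SL₂` is subnormal in the centraliser of its involution** -/
theorem subnormal (h2 : (2 : F) ≠ 0) :
    (h.rhoP.range.subgroupOf (Subgroup.centralizer ({h.rhoP (-1)} : Set (P Q)))).IsSubnormal := by
  obtain ⟨π, hπ⟩ : ∃ π : ↥(E Q) →* P Q, π = QuotientGroup.mk' _ := ⟨_, rfl⟩
  have hJ : h.rhoP.range = h.rhoE.range.map π := by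
    rw [hπ]; exact MonoidHom.range_comp _ _
  rw [hJ]
  refine isSubnormal_of_chain3 (C := h.omW.map π)
    (B := (Subgroup.centralizer ({h.rhoE (-1)} : Set ↥(E Q))).map π) (Subgroup.map_mono h.range_le_omW) ?_ ?_ ?_ ?_
  · rintro _ ⟨x, hx, rfl⟩
    exact ⟨x, Subgroup.mem_centralizer_singleton_iff.2 (h.omW_comm hx), rfl⟩
  · rintro x hx _ ⟨c, hc, rfl⟩
    obtain ⟨g, rfl⟩ := QuotientGroup.mk'_surjective _ x
    rw [Subgroup.mem_centralizer_singleton_iff] at hx
    have hc' : c * h.rhoE (-1) = h.rhoE (-1) * c := Subgroup.mem_centralizer_singleton_iff.1 hc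
    have h3 : (QuotientGroup.mk (g * h.rhoE (-1)) : P Q) = QuotientGroup.mk (h.rhoE (-1) * g) := hx
    rw [eq_comm, QuotientGroup.eq] at h3
    obtain ⟨ζ, hζ⟩ : ∃ ζ, ζ = (h.rhoE (-1) * g)⁻¹ * (g * h.rhoE (-1)) := ⟨_, rfl⟩
    rw [← hζ] at h3
    have h4 : h.rhoE (-1) * g = g * h.rhoE (-1) * ζ⁻¹ := by
      have : h.rhoE (-1) * g * ζ = g * h.rhoE (-1) := by rw [hζ, mul_inv_cancel_left]
      rw [← this, mul_inv_cancel_right]
    have hζc : ∀ y, ζ⁻¹ * y = y * ζ⁻¹ := fun y => (Subgroup.mem_center_iff.1 (inv_mem h3) y).symm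
    refine ⟨g * c * g⁻¹, ?_, by rw [hπ, map_mul, map_mul, map_inv]⟩
    refine Subgroup.mem_centralizer_singleton_iff.2 ?_
    have h5 : h.rhoE (-1) * ζ⁻¹ * g⁻¹ = g⁻¹ * h.rhoE (-1) := by
      calc h.rhoE (-1) * ζ⁻¹ * g⁻¹ = g⁻¹ * (g * h.rhoE (-1) * ζ⁻¹) * g⁻¹ := by group
        _ = g⁻¹ * (h.rhoE (-1) * g) * g⁻¹ := by rw [h4]
        _ = g⁻¹ * h.rhoE (-1) := by group
    calc g * c * g⁻¹ * h.rhoE (-1) = g * c * (g⁻¹ * h.rhoE (-1)) := by group
      _ = g * c * (h.rhoE (-1) * ζ⁻¹ * g⁻¹) := by rw [h5]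
      _ = g * (c * h.rhoE (-1)) * ζ⁻¹ * g⁻¹ := by group
      _ = g * (h.rhoE (-1) * c) * ζ⁻¹ * g⁻¹ := by rw [hc']
      _ = g * h.rhoE (-1) * (c * ζ⁻¹) * g⁻¹ := by group
      _ = g * h.rhoE (-1) * (ζ⁻¹ * c) * g⁻¹ := by rw [hζc]
      _ = (g * h.rhoE (-1) * ζ⁻¹) * c * g⁻¹ := by group
      _ = h.rhoE (-1) * g * c * g⁻¹ := by rw [h4]
      _ = h.rhoE (-1) * (g * c * g⁻¹) := by group
  · rintro _ ⟨x, hx, rfl⟩ _ ⟨c, hc, rfl⟩
    refine ⟨x * c * x⁻¹, ?_, by rw [map_mul, map_mul, map_inv]⟩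
    exact h.conj_mem_omW (Subgroup.mem_centralizer_singleton_iff.1 hx) hc
  · rintro _ ⟨x, hx, rfl⟩ _ ⟨c, hc, rfl⟩
    refine ⟨x * c * x⁻¹, ?_, by rw [map_mul, map_mul, map_inv]⟩
    have := h.omW_le_nor h2 hx
    unfold nor at this
    exact (Subgroup.mem_normalizer_iff.1 this c).1 hc

end Four

end Cfsg.Agent.UGT.U2.FOne.Orth

private theorem dce_7a1959f4c15a : _root_.True := by
  try have : _root_.True := by simp only [_root_.Cfsg.Agent.AutOrth.SemiSim.sg.congr_simp]
  try have : _root_.True := by simp only [_root_.Cfsg.Agent.UGT.U2.FOne.Orth.Four.rhoE.congr_simp]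
  exact _root_.True.intro
end
end
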